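/-
Simple groups with at most one composite element order (S3718), from the CIT theorem and Walter's theorem.
-/
import Cfsg.Agent.Cit.PG
import Cfsg.Agent.Abel2.Defs
import Cfsg.Statements.S3718

set_option autoImplicit false

open Cfsg CL.Perm Matrix

namespace CL.Cit

universe u

/-- at most one composite number lies in `A` -/
def FewComp (A : Set ℕ) : Prop := {n : ℕ | n ∈ A ∧ 1 < n ∧ ¬ n.Prime}.Subsingleton

theorem FewComp.mono {A B : Set ℕ} (h : FewComp B) (hAB : A ⊆ B) : FewComp A :=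
  Set.Subsingleton.anti h fun _ hn => ⟨hAB hn.1, hn.2⟩

theorem FewComp.prime {A : Set ℕ} (h : FewComp A) {a b : ℕ} (ha : a ∈ A) (hb : b ∈ A) (ha1 : 1 < a)
    (hb1 : 1 < b) (hab : a ≠ b) (hap : ¬ a.Prime) : b.Prime := by
  by_contra hbp
  exact hab (h ⟨ha, ha1, hap⟩ ⟨hb, hb1, hbp⟩)

theorem FewComp.prime_of_mul {A : Set ℕ} (h : FewComp A) {a b : ℕ} (hab : a * b ∈ A) (hb : b ∈ A) (ha1 : 1 < a)
    (hb1 : 1 < b) : b.Prime :=
  h.prime hab hb (by nlinarith) hb1 (by nlinarith) (Nat.not_prime_mul (by omega) (by omega))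

section L2
variable {F : Type*} [Field F] [Fintype F]

theorem fewComp_L2_even {n : ℕ} (hn : 2 ≤ n) (hF : Fintype.card F = 2 ^ n)
    (h : FewComp (Spec (ProjectiveSpecialLinearGroup (Fin 2) F))) :
    n = 2 ∨ n = 4 ∨ ∃ r : ℕ, (2 ^ n - 1).Prime ∧ r.Prime ∧ 2 ^ n + 1 = 3 * r := by
  haveI := charP_two_of_card hF
  rw [spec_PSL2 2, CL.SL2.gcd_two_of_eq (CL.Chev.Sz.two_eq_zero_of_card hF), hF, Nat.div_one, Nat.div_one] at h
  rcases Nat.even_or_odd' n with ⟨k, rfl | rfl⟩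
  · by_cases hk : k = 1
    · omega
    have h4 : 2 ^ 2 ≤ 2 ^ k := Nat.pow_le_pow_right (by omega) (by omega)
    rw [two_pow_two_mul_sub_one] at h
    have h1 : (2 ^ k + 1).Prime := h.prime_of_mul (a := 2 ^ k - 1) (Or.inr (Or.inl dvd_rfl))
      (Or.inr (Or.inl (dvd_mul_left _ _))) (by omega) (by omega)
    have h2 : (2 ^ k - 1).Prime := h.prime_of_mul (a := 2 ^ k + 1) (Or.inr (Or.inl (by rw [mul_comm])))
      (Or.inr (Or.inl (dvd_mul_right _ _))) (by omega) (by omega)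
    have h3 := three_dvd_two_pow_two_mul_sub_one k
    rw [two_pow_two_mul_sub_one, Nat.prime_three.dvd_mul] at h3
    rcases h3 with h3 | h3
    · have h5 := (Nat.prime_dvd_prime_iff_eq Nat.prime_three h2).1 h3
      have h6 : 2 ^ k = 2 ^ 2 := by omega
      have := Nat.pow_right_injective (le_refl 2) h6
      omega
    · have h5 := (Nat.prime_dvd_prime_iff_eq Nat.prime_three h1).1 h3
      omega
  · have h3 := CL.Chev.Sz.pow_mod_three k
    have h8 : 2 ^ 3 ≤ 2 ^ (2 * k + 1) := Nat.pow_le_pow_right (by omega) (by omega)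
    obtain ⟨r, hr⟩ : 3 ∣ 2 ^ (2 * k + 1) + 1 := by omega
    refine Or.inr (Or.inr ⟨r, ?_, ?_, hr⟩)
    · refine h.prime (a := 2 ^ (2 * k + 1) + 1) (Or.inr (Or.inr dvd_rfl)) (Or.inr (Or.inl dvd_rfl)) (by omega)
        (by omega) (by omega) ?_
      rw [hr]
      exact Nat.not_prime_mul (by omega) (by omega)
    · exact h.prime_of_mul (a := 3) (Or.inr (Or.inr (hr ▸ dvd_rfl))) (Or.inr (Or.inr (hr ▸ dvd_mul_left _ _)))
        (by omega) (by omega)

theorem fewComp_L2_odd (ho : Odd (Fintype.card F)) (h3 : 3 < Fintype.card F)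
    (h : FewComp (Spec (ProjectiveSpecialLinearGroup (Fin 2) F))) :
    (Fintype.card F = 5 ∨ Fintype.card F = 7 ∨ Fintype.card F = 9 ∨ Fintype.card F = 11 ∨ Fintype.card F = 13) ∨
      ∃ n r s : ℕ, r.Prime ∧ s.Prime ∧ 3 ^ n - 1 = 2 * r ∧ 3 ^ n + 1 = 4 * s ∧ Fintype.card F = 3 ^ n := by
  obtain ⟨p, hpc, n, hp, hq⟩ := FiniteField.card' F
  obtain ⟨c, hc⟩ := ho
  have hg : Nat.gcd 2 (Fintype.card F - 1) = 2 := by rw [hc]; simp
  rw [spec_PSL2 p, hg, hc, show (2 * c + 1 - 1) / 2 = c by omega, show (2 * c + 1 + 1) / 2 = c + 1 by omega] at h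
  have hdiv : ¬ 3 ∣ 2 * c + 1 ∨ p = 3 := by
    by_cases hd : 3 ∣ 2 * c + 1
    · rw [← hc, hq] at hd
      exact Or.inr ((Nat.prime_dvd_prime_iff_eq Nat.prime_three hp).1 (Nat.prime_three.dvd_of_dvd_pow hd)).symm
    · exact Or.inl hd
  by_cases h5 : c = 2
  · omega
  have eq3 : ∀ {x : ℕ}, x.Prime → 3 ∣ x → x = 3 := fun hx hd =>
    ((Nat.prime_dvd_prime_iff_eq Nat.prime_three hx).1 hd).symm
  rcases Nat.even_or_odd' c with ⟨s, rfl | rfl⟩
  · have h1 : s.Prime := h.prime_of_mul (a := 2) (Or.inr (Or.inl dvd_rfl)) (Or.inr (Or.inl (dvd_mul_left _ _)))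
      (by omega) (by omega)
    have h2 : (2 * s + 1).Prime := h.prime (a := 2 * s) (Or.inr (Or.inl dvd_rfl)) (Or.inr (Or.inr dvd_rfl))
      (by omega) (by omega) (by omega) (Nat.not_prime_mul (by omega) (by omega))
    rcases hdiv with hd | rfl
    · have : 3 ∣ s ∨ 3 ∣ 2 * s + 1 := by
        have : s % 3 = 0 ∨ s % 3 = 1 ∨ s % 3 = 2 := by omega
        omega
      rcases this with h6 | h6
      · have := eq3 h1 h6; omega
      · have := eq3 h2 h6; omega
    · have h8 : ∀ k : ℕ, 3 ^ k % 8 = 1 ∨ 3 ^ k % 8 = 3 := fun k => by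
        induction k with
        | zero => simp
        | succ b ih => rw [pow_succ]; omega
      have h9 := h8 n
      have h2s : 2 ∣ s := by omega
      have := (Nat.prime_dvd_prime_iff_eq Nat.prime_two h1).1 h2s
      omega
  · have e : 2 * s + 1 + 1 = 2 * (s + 1) := by ring
    rw [e] at h
    have h1 : (s + 1).Prime := h.prime_of_mul (a := 2) (Or.inr (Or.inr dvd_rfl))
      (Or.inr (Or.inr (dvd_mul_left _ _))) (by omega) (by omega)
    have h2 : (2 * s + 1).Prime := h.prime (a := 2 * (s + 1)) (Or.inr (Or.inr dvd_rfl)) (Or.inr (Or.inl dvd_rfl))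
      (by omega) (by omega) (by omega) (Nat.not_prime_mul (by omega) (by omega))
    rcases hdiv with hd | rfl
    · have : 3 ∣ s + 1 ∨ 3 ∣ 2 * s + 1 := by
        have : s % 3 = 0 ∨ s % 3 = 1 ∨ s % 3 = 2 := by omega
        omega
      rcases this with h6 | h6
      · have := eq3 h1 h6; omega
      · have := eq3 h2 h6; omega
    · exact Or.inr ⟨n, _, _, h2, h1, by omega, by omega, hq⟩

/-- Two odd primes divide the order of `PSL₂(q)`, `q > 3` odd. -/
theorem exists_prime_ne_three (ho : Odd (Fintype.card F)) (h3 : 3 < Fintype.card F) :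
    ∃ s : ℕ, s.Prime ∧ s ≠ 2 ∧ s ≠ 3 ∧ s ∣ Nat.card (ProjectiveSpecialLinearGroup (Fin 2) F) := by
  have hc := card_L2_odd ho
  obtain ⟨c, hq⟩ := ho
  rw [hq, show 2 * c + 1 - 1 = 2 * c by omega] at hc
  have hN : Nat.card (ProjectiveSpecialLinearGroup (Fin 2) F) = (2 * c + 1) * (c * (2 * (c + 1))) := by
    apply Nat.eq_of_mul_eq_mul_left (show 0 < 2 by omega)
    rw [hc]; ring
  rw [hN]
  by_cases hd : 3 ∣ 2 * c + 1
  · rcases Nat.even_or_odd' c with ⟨s, rfl | rfl⟩
    · obtain ⟨r, hr, hrd⟩ := Nat.exists_prime_and_dvd (n := 2 * s + 1) (by omega)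
      exact ⟨r, hr, by rintro rfl; omega, by rintro rfl; omega, ((hrd.mul_left _).mul_left _).mul_left _⟩
    · obtain ⟨r, hr, hrd⟩ := Nat.exists_prime_and_dvd (n := 2 * s + 1) (by omega)
      exact ⟨r, hr, by rintro rfl; omega, by rintro rfl; omega, (hrd.mul_right _).mul_left _⟩
  · obtain ⟨r, hr, hrd⟩ := Nat.exists_prime_and_dvd (n := 2 * c + 1) (by omega)
    exact ⟨r, hr, by rintro rfl; omega, by rintro rfl; omega, hrd.mul_right _⟩

theorem three_dvd_card_L2 : 3 ∣ Nat.card (ProjectiveSpecialLinearGroup (Fin 2) F) := by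
  have := CL.SL2.card_psl_mul (F := F)
  have h3 : 3 ∣ Fintype.card F * (Fintype.card F ^ 2 - 1) := by
    generalize Fintype.card F = q
    rcases q with _ | q
    · simp
    · rw [show (q + 1) ^ 2 - 1 = q * (q + 2) by apply Nat.sub_eq_of_eq_add; ring]
      have : q % 3 = 0 ∨ (q + 1) % 3 = 0 ∨ (q + 2) % 3 = 0 := by omega
      rcases this with h | h | h
      · exact ((Nat.dvd_of_mod_eq_zero h).mul_right _).mul_left _
      · exact (Nat.dvd_of_mod_eq_zero h).mul_right _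
      · exact ((Nat.dvd_of_mod_eq_zero h).mul_left _).mul_left _
  rw [← this] at h3
  refine (Nat.Coprime.dvd_mul_right ?_).1 h3
  exact Nat.Coprime.coprime_dvd_right (Nat.gcd_dvd_left _ _) (by norm_num)

end L2

variable {G : Type*} [Group G]

theorem torus_mem_spec {F : Type*} [Field F] [Finite F] (M : CL.Chev.Sz.Model G F) {m : ℕ} (hm : 1 ≤ m)
    (hF : Nat.card F = 2 ^ (2 * m + 1)) : 2 ^ (2 * m + 1) + 2 ^ (m + 1) + 1 ∈ Spec G ∧
      2 ^ (2 * m + 1) - 2 ^ (m + 1) + 1 ∈ Spec G := by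
  haveI := M.finite
  obtain ⟨z₁, z₂, h₁, h₂, c₁, c₂, -⟩ := M.exists_tori hm hF
  have key : ∀ {z : G}, M.FPF z → Nat.card (Subgroup.centralizer ({z} : Set G)) ∈ Spec G := fun {z} hz => by
    haveI := hz.isCyclic_centralizer
    refine spec_subgroup_subset (Subgroup.centralizer ({z} : Set G)) ?_
    rw [spec_cyclic]; exact dvd_rfl
  exact ⟨c₁ ▸ key h₁, c₂ ▸ key h₂⟩

theorem fewComp_Sz {F : Type*} [Field F] [Finite F] (M : CL.Chev.Sz.Model G F) {m : ℕ} (hm : 1 ≤ m)
    (hF : Nat.card F = 2 ^ (2 * m + 1)) (h : FewComp (Spec G)) : m = 1 := by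
  obtain ⟨h1, h2⟩ := torus_mem_spec M hm hF
  have h4 : 4 ∈ Spec G := ⟨_, M.orderOf_T one_ne_zero 0⟩
  have a1 := CL.Chev.Sz.two_r_le hm
  have a2 := CL.Chev.Sz.four_le_r hm
  have p1 := h.prime h4 h1 (by omega) (by omega) (by omega) (by norm_num)
  have p2 := h.prime h4 h2 (by omega) (by omega) (by omega) (by norm_num)
  have h5 : 5 ∣ (2 ^ (2 * m + 1)) ^ 2 + 1 := by
    rw [← pow_mul, mul_comm, pow_mul]
    exact Odd.nat_add_dvd_pow_add_pow 4 1 ⟨m, rfl⟩ |>.trans (by simp)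
  rw [← CL.Chev.Sz.nplus_mul_nminus, Nat.prime_five.dvd_mul] at h5
  rcases h5 with h5 | h5
  · have := (Nat.prime_dvd_prime_iff_eq Nat.prime_five p1).1 h5
    omega
  · have h6 := (Nat.prime_dvd_prime_iff_eq Nat.prime_five p2).1 h5
    by_contra hm1
    have : 2 ^ 3 ≤ 2 ^ (m + 1) := Nat.pow_le_pow_right (by omega) (by omega)
    omega

/-- S3718 from the CIT theorem and Walter's theorem. -/
theorem fewComp_simple (hC : CITThm.{u}) (hW : CL.Abel2.Walter.{u}) : type_of% @Cfsg.CfsgFrozen.S3718.{u} := by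
  intro G _ _ _ h1
  have h : FewComp (Spec G) := h1
  by_cases hG : IsMulCommutative G
  · left
    letI : CommGroup G := { (inferInstance : Group G) with mul_comm := hG.1.1 }
    exact IsSimpleGroup.prime_card
  right
  have even : IsL2Even G → _ := fun ⟨F, _, _, n, hn, hF, ⟨e⟩⟩ =>
    show (∃ (F : Type) (_ : Field F) (_ : Fintype F), (Fintype.card F = 5 ∨ Fintype.card F = 16) ∧
      Nonempty (G ≃* ProjectiveSpecialLinearGroup (Fin 2) F)) ∨
      (∃ (F : Type) (_ : Field F) (_ : Fintype F), ∃ n r : ℕ, (2 ^ n - 1).Prime ∧ r.Prime ∧ 2 ^ n + 1 = 3 * r ∧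
        Fintype.card F = 2 ^ n ∧ Nonempty (G ≃* ProjectiveSpecialLinearGroup (Fin 2) F)) by
      rcases fewComp_L2_even hn hF (spec_congr e ▸ h) with rfl | rfl | ⟨r, a, b, c⟩
      · haveI : Fact (Nat.Prime 5) := ⟨Nat.prime_five⟩
        obtain ⟨e1⟩ := CL.Cls.nonempty_PSL2_four (F := F) hF
        obtain ⟨e2⟩ := CL.Cls.nonempty_PSL2_five (F := ZMod 5) (ZMod.card 5)
        exact Or.inl ⟨ZMod 5, inferInstance, inferInstance, Or.inl (ZMod.card 5), ⟨(e.trans e1).trans e2.symm⟩⟩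
      · exact Or.inl ⟨F, inferInstance, inferInstance, Or.inr hF, ⟨e⟩⟩
      · exact Or.inr ⟨F, inferInstance, inferInstance, n, r, a, b, c, hF, ⟨e⟩⟩
  have odd : ∀ (F : Type) [Field F] [Fintype F], Odd (Fintype.card F) → 3 < Fintype.card F →
      (G ≃* ProjectiveSpecialLinearGroup (Fin 2) F) → _ := fun F _ _ ho h3 e =>
    fewComp_L2_odd ho h3 (spec_congr e ▸ h)
  by_cases hcit : IsCIT G
  · have hO : pCore 2 G = ⊥ := by
      rcases (inferInstance : (pCore 2 G).Normal).eq_bot_or_eq_top with h0 | h0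
      · exact h0
      · exfalso
        haveI : Fact (Nat.Prime 2) := ⟨Nat.prime_two⟩
        have hp : IsPGroup 2 G := (h0 ▸ CL.Grp.pCore_isPGroup 2 G : IsPGroup 2 (⊤ : Subgroup G)).of_surjective
          (Subgroup.subtype ⊤) fun g => ⟨⟨g, trivial⟩, rfl⟩
        haveI := hp.isNilpotent
        exact hG ⟨⟨IsSimpleGroup.comm_iff_isSolvable.2 inferInstance⟩⟩
    rcases hC G hcit (CL.C2Low.even_card_of_simple hG) hO (CL.C2Low.oddCore_eq_bot_of_simple hG) with
      h2 | h2 | h2 | h2 | h2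
    · rcases even h2 with ⟨F, _, _, a, b⟩ | a
      · exact Or.inl ⟨F, inferInstance, inferInstance, by omega, b⟩
      · exact Or.inr (Or.inr (Or.inr (Or.inr a)))
    · obtain ⟨F, _, _, m, hm, hF, ⟨e⟩⟩ := h2
      obtain rfl := fewComp_Sz ((CL.Chev.Sz.modelLie hm hF).ofEquiv e) hm (Nat.card_eq_fintype_card.trans hF) h
      exact Or.inr (Or.inr (Or.inl ⟨F, inferInstance, inferInstance, hF, ⟨e⟩⟩))
    · obtain ⟨F, _, _, h7, hF, ⟨e⟩⟩ := h2
      have ho : Odd (Fintype.card F) := by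
        rcases hF with hF | ⟨hp, -⟩
        · rw [hF]; decide
        · exact hp.odd_of_ne_two (by omega)
      rcases odd F ho (by omega) e with a | ⟨n, r, s, a, b, c, d, f⟩
      · exact Or.inl ⟨F, inferInstance, inferInstance, by omega, ⟨e⟩⟩
      · exact Or.inr (Or.inr (Or.inr (Or.inl ⟨F, inferInstance, inferInstance, n, r, s, a, b, c, d, f, ⟨e⟩⟩)))
    · exact Or.inr (Or.inl h2)
    · exfalso
      obtain ⟨N, hN, h2, -⟩ := h2
      rcases hN.eq_bot_or_eq_top with rfl | rfl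
      · rw [Subgroup.index_bot] at h2
        haveI : Fact (Nat.Prime 2) := ⟨Nat.prime_two⟩
        haveI := isCyclic_of_prime_card h2
        exact hG inferInstance
      · simp at h2
  · rw [isCIT_iff_spec] at hcit
    push Not at hcit
    obtain ⟨s, hs, hs2, hm⟩ := hcit
    have hs3 := hs.two_le
    have hns : ¬ (2 * s).Prime := Nat.not_prime_mul (by omega) (by omega)
    have h4 : 4 ∉ Spec G := fun h4 =>
      absurd (h.prime hm h4 (by omega) (by omega) (by omega) hns) (by norm_num)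
    have hab : CL.Abel2.AbSyl G := by
      intro P hP
      have hsq : ∀ x ∈ P, x * x = 1 := by
        intro x hx
        obtain ⟨k, hk⟩ := hP ⟨x, hx⟩
        have hk' : x ^ 2 ^ k = 1 := congrArg Subtype.val hk
        obtain ⟨j, -, hj⟩ := (Nat.dvd_prime_pow Nat.prime_two).1 (orderOf_dvd_of_pow_eq_one hk')
        rw [← pow_two, ← orderOf_dvd_iff_pow_eq_one, hj]
        rcases j with _ | _ | j
        · simp
        · simp
        · exact absurd (mem_spec_of_dvd_orderOf x (by rw [hj, pow_add, pow_add]; exact ⟨2 ^ j, by ring⟩)) h4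
      intro x hx
      rw [Subgroup.mem_centralizer_iff]
      intro y hy
      have e1 := hsq _ (P.mul_mem hy hx)
      calc y * x = (y * x)⁻¹ := (inv_eq_of_mul_eq_one_right e1).symm
        _ = x * y := by rw [_root_.mul_inv_rev, inv_eq_of_mul_eq_one_right (hsq x hx), inv_eq_of_mul_eq_one_right (hsq y hy)]
    rcases hW G hG hab with ⟨n, hn, F, _, _, hF, e⟩ | ⟨q, hq, h3, F, _, _, rfl, ⟨e⟩⟩ | ⟨q, hq⟩
    · rcases even ⟨F, inferInstance, inferInstance, n, hn, hF, e⟩ with ⟨F, _, _, a, b⟩ | a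
      · exact Or.inl ⟨F, inferInstance, inferInstance, by omega, b⟩
      · exact Or.inr (Or.inr (Or.inr (Or.inr a)))
    · rcases odd F (Nat.odd_iff.2 (by omega)) h3 e with a | ⟨n, r, s, a, b, c, d, f⟩
      · exact Or.inl ⟨F, inferInstance, inferInstance, by omega, ⟨e⟩⟩
      · exact Or.inr (Or.inr (Or.inr (Or.inl ⟨F, inferInstance, inferInstance, n, r, s, a, b, c, d, f, ⟨e⟩⟩)))
    · exfalso
      obtain ⟨t, E, L, hd⟩ := hq.data
      obtain ⟨F, _, _, rfl, ⟨e⟩⟩ := hd.psl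
      have hLt : L ≤ Subgroup.centralizer ({t} : Set G) := hd.le.trans hd.prod.2.1
      have key : ∀ r : ℕ, r.Prime → r ≠ 2 → r ∣ Nat.card L → 2 * r ∈ Spec G := by
        intro r hr hr2 hrd
        obtain ⟨x, hx⟩ := (prime_mem_spec_iff hr).2 hrd
        have hc : Commute t (x : G) := (Subgroup.mem_centralizer_singleton_iff.1 (hLt x.2)).symm
        exact mul_mem_spec_of_commute_of_dvd hc ((Nat.coprime_primes Nat.prime_two hr).2 hr2.symm)
          (hd.ord ▸ dvd_rfl) (by rw [Subgroup.orderOf_coe, hx])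
      obtain ⟨r, hr, hr2, hr3, hrd⟩ := exists_prime_ne_three hq.odd hq.gt
      have k1 := key r hr hr2 (by rwa [Nat.card_congr e.toEquiv])
      have k2 := key 3 Nat.prime_three (by omega) (by
        rw [Nat.card_congr e.toEquiv]; exact three_dvd_card_L2)
      have := hr.two_le
      exact absurd (h.prime k1 k2 (by omega) (by omega) (by omega) (Nat.not_prime_mul (by omega) (by omega)))
        (by norm_num)

end CL.Cit
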