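/-
Corollaries of the CIT theorems, part 1: simple CIT-groups, non-solvable CN-groups.
-/
import Cfsg.Agent.Cit.FewComp
import Cfsg.Agent.Cit.FF
import Cfsg.Agent.Char.CN1
import Cfsg.Agent.Perm.SL25Pres
import Cfsg.Agent.Odd.FT
import Cfsg.Agent.S0225
import Cfsg.Agent.S1162
import Cfsg.Agent.S1163
import Cfsg.Statements.S0337
import Cfsg.Statements.S0348
import Cfsg.Statements.S4351

set_option autoImplicit false

open Cfsg CL.Perm CL.Grp CL.Even Matrix
open scoped Pointwise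

namespace CL.Cit

universe u

section Simple
variable {G : Type*} [Group G]

theorem isSuzuki_of_isoSuzuki (h : Lie.IsoSuzuki G) : IsSuzuki G := by
  obtain ⟨F, _, _, m, hm, hF, ⟨e⟩⟩ := h
  haveI := Cfsg.Agent.S1162.result hm hF
  refine ⟨e.isSimpleGroup, m, hm, ?_⟩
  rw [Nat.card_congr e.toEquiv, (Cfsg.Agent.S1163.result hm hF).1]
  ring

theorem not_comm_of_simple [IsSimpleGroup G] [Finite G] (h : ¬ (Nat.card G).Prime) : ¬ IsMulCommutative G := by
  intro hG
  letI : CommGroup G := { (inferInstance : Group G) with mul_comm := hG.1.1 }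
  exact h IsSimpleGroup.prime_card

theorem not_prime_of_two_three {n : ℕ} (h2 : 2 ∣ n) (h3 : 3 ∣ n) : ¬ n.Prime := fun h => by
  have a := (Nat.prime_dvd_prime_iff_eq Nat.prime_two h).1 h2
  have b := (Nat.prime_dvd_prime_iff_eq Nat.prime_three h).1 h3
  omega

theorem IsL2Even.simple (h : IsL2Even G) : IsSimpleGroup G ∧ ¬ IsMulCommutative G := by
  have h3 := h.three_dvd
  obtain ⟨F, _, _, n, hn, hF, ⟨e⟩⟩ := h
  have h4 : 2 ^ 2 ≤ 2 ^ n := Nat.pow_le_pow_right (by omega) hn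
  haveI := CL.SLn.isSimpleGroup_PSL_fin (F := F) 2 le_rfl (fun _ => by omega)
  haveI := e.isSimpleGroup
  haveI : Finite G := Finite.of_equiv _ e.toEquiv.symm
  refine ⟨inferInstance, not_comm_of_simple (not_prime_of_two_three ?_ h3)⟩
  rw [Nat.card_congr e.toEquiv, card_L2_even hF]
  exact (dvd_pow_self 2 (by omega)).mul_right _

theorem IsL2FM.simple (h : IsL2FM G) : IsSimpleGroup G ∧ ¬ IsMulCommutative G := by
  have h3 := h.three_dvd
  have h2 : 2 ∣ Nat.card G := by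
    rcases h.card with a | ⟨k, -, -, a⟩ | ⟨k, -, -, a⟩
    · rw [a]; decide
    · rw [a]; exact (dvd_pow_self 2 (by omega)).mul_right _
    · rw [a]; exact (dvd_pow_self 2 (by omega)).mul_right _
  obtain ⟨F, _, _, hn, hF, ⟨e⟩⟩ := h
  haveI := CL.SLn.isSimpleGroup_PSL_fin (F := F) 2 le_rfl (fun _ => by omega)
  haveI := e.isSimpleGroup
  haveI : Finite G := Finite.of_equiv _ e.toEquiv.symm
  exact ⟨inferInstance, not_comm_of_simple (not_prime_of_two_three h2 h3)⟩

theorem IsL34.simple (h : IsL34 G) : IsSimpleGroup G ∧ ¬ IsMulCommutative G := by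
  have h2 := h.card
  obtain ⟨F, _, _, hF, ⟨e⟩⟩ := h
  haveI := CL.SLn.isSimpleGroup_PSL_fin (F := F) 3 (by omega) (fun _ => by omega)
  haveI := e.isSimpleGroup
  haveI : Finite G := Finite.of_equiv _ e.toEquiv.symm
  exact ⟨inferInstance, not_comm_of_simple (by rw [h2]; norm_num)⟩

theorem simple_of_isoSuzuki (h : Lie.IsoSuzuki G) : IsSimpleGroup G ∧ ¬ IsMulCommutative G := by
  exact ⟨(isSuzuki_of_isoSuzuki h).1, fun hG => not_isCT_of_isoSuzuki h fun a _ c _ _ _ _ _ => hG.1.1 a c⟩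

theorem IsM10.not_simple (h : IsM10 G) : ¬ IsSimpleGroup G := by
  intro hG
  have hc := h.card
  obtain ⟨N, hN, h2, -⟩ := h
  rcases hN.eq_bot_or_eq_top with rfl | rfl
  · rw [Subgroup.index_bot] at h2
    omega
  · simp at h2

theorem pCore_eq_bot_of_simple [Finite G] [IsSimpleGroup G] (hG : ¬ IsMulCommutative G) : pCore 2 G = ⊥ := by
  rcases (inferInstance : (pCore 2 G).Normal).eq_bot_or_eq_top with h0 | h0
  · exact h0
  · exfalso
    haveI : Fact (Nat.Prime 2) := ⟨Nat.prime_two⟩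
    have hp : IsPGroup 2 G := (h0 ▸ CL.Grp.pCore_isPGroup 2 G : IsPGroup 2 (⊤ : Subgroup G)).of_surjective
      (Subgroup.subtype ⊤) fun g => ⟨⟨g, trivial⟩, rfl⟩
    haveI := hp.isNilpotent
    exact hG ⟨⟨IsSimpleGroup.comm_iff_isSolvable.2 inferInstance⟩⟩

end Simple

/-- The simple CIT-groups. -/
theorem cit_simple (hC : CITThm.{u}) {G : Type u} [Group G] [Finite G] [IsSimpleGroup G]
    (hG : ¬ IsMulCommutative G) (h : IsCIT G) : IsL2Even G ∨ Lie.IsoSuzuki G ∨ IsL2FM G ∨ IsL34 G := by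
  rcases hC G h (CL.C2Low.even_card_of_simple hG) (pCore_eq_bot_of_simple hG)
    (CL.C2Low.oddCore_eq_bot_of_simple hG) with a | a | a | a | a
  · exact Or.inl a
  · exact Or.inr (Or.inl a)
  · exact Or.inr (Or.inr (Or.inl a))
  · exact Or.inr (Or.inr (Or.inr a))
  · exact absurd ‹IsSimpleGroup G› a.not_simple

theorem s0348 (hC : CITThm.{u}) : type_of% @Cfsg.CfsgFrozen.S0348.{u} := by
  intro G _ _ _ hG h
  have hG' : ¬ IsMulCommutative G := fun e => by
    obtain ⟨a, b, hab⟩ := hG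
    exact hab (e.1.1 a b)
  rcases cit_simple hC hG' h with a | a | a | a
  · obtain ⟨F, _, _, n, -, hF, e⟩ := a
    exact Or.inl ⟨F, inferInstance, inferInstance, Or.inr (Or.inl ⟨n, hF⟩), e⟩
  · exact Or.inr (Or.inr (isSuzuki_of_isoSuzuki a))
  · obtain ⟨F, _, _, -, hF, e⟩ := a
    exact Or.inl ⟨F, inferInstance, inferInstance, hF.imp_right Or.inr, e⟩
  · exact Or.inr (Or.inl a)

/-- A non-solvable CN-group is a CIT-group. -/
theorem isCIT_of_isCN {G : Type u} [Group G] [Finite G] (hCN : IsCNGroup G) (hs : ¬ Group.IsSolvable G) :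
    IsCIT G := by
  intro t ht
  by_contra hC
  haveI : Fact (Nat.Prime 2) := ⟨Nat.prime_two⟩
  have ht1 : t ≠ 1 := by rintro rfl; simp at ht
  obtain ⟨H, hH, hCH⟩ := CL.CN.exists_isMaxNilp_ge (hCN t ht1)
  have htH : t ∈ H := hCH (Subgroup.mem_centralizer_singleton_iff.2 rfl)
  have hH2 : ¬ IsPGroup 2 H := fun h => hC (h.to_le hCH)
  have hpp : ∀ p : ℕ, p.Prime → ¬ IsPGroup p H := by
    intro p hp h
    obtain ⟨k, hk⟩ := h ⟨t, htH⟩
    have : 2 ∣ p ^ k := ht ▸ orderOf_dvd_of_pow_eq_one (congrArg Subtype.val hk)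
    obtain rfl := (Nat.prime_dvd_prime_iff_eq Nat.prime_two hp).1 (Nat.prime_two.dvd_of_dvd_pow this)
    exact hH2 h
  have heq : ∀ K : Subgroup G, CL.CN.IsMaxNilp K → ∀ x ∈ H, x ≠ 1 → x ∈ K → K = H := fun K hK x hx hx1 hxK =>
    hH.2 K hK.1 (CL.CN.IsMaxNilp.le_of_inf_ne_bot hCN hH.1 hK hpp fun e =>
      hx1 (Subgroup.mem_bot.1 (e ▸ Subgroup.mem_inf.2 ⟨hx, hxK⟩)))
  have hcent : ∀ h ∈ H, h ≠ 1 → ∀ g : G, g * h = h * g → g ∈ H := by
    intro h hh h1 g hg
    obtain ⟨K, hK, hCK⟩ := CL.CN.exists_isMaxNilp_ge (hCN h h1)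
    rw [← heq K hK h hh h1 (hCK (Subgroup.mem_centralizer_singleton_iff.2 rfl))]
    exact hCK (Subgroup.mem_centralizer_singleton_iff.2 hg)
  have hti : ∀ h ∈ H, h ≠ 1 → ∀ g : G, g * h * g⁻¹ ∈ H → g ∈ Subgroup.normalizer (H : Set G) := by
    intro h hh h1 g hg
    have := heq _ (hH.conj g) _ hg (fun e => h1 (by simpa using e))
      (Subgroup.smul_mem_pointwise_smul h (MulAut.conj g) H hh)
    exact mem_normalizer_iff_conj_smul_eq.2 this
  have h2H : 2 ∣ Nat.card H := ht ▸ H.orderOf_dvd_natCard htH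
  obtain ⟨z, hz, hz1⟩ := exists_mem_oz (pCoreOf_isPGroup 2 H) (CL.CN.pCoreOf_ne_bot_of_dvd hH.1 h2H)
  have hzH : z ∈ H := pCoreOf_le 2 H hz.1
  have hz2 : orderOf z = 2 := orderOf_eq_prime (by rw [pow_two, hz.2.1]) hz1
  have hCz : Subgroup.centralizer ({z} : Set G) = H := by
    refine le_antisymm (fun g hg => hcent z hzH hz1 g (Subgroup.mem_centralizer_singleton_iff.1 hg)) ?_
    refine (CL.CN.le_pCoreOf_sup_pPrimeCoreOf hH.1 2).trans (sup_le (fun d hd => ?_) fun d hd => ?_)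
    · exact Subgroup.mem_centralizer_singleton_iff.2 (hz.2.2 d hd)
    · exact Subgroup.mem_centralizer_singleton_iff.2 (CL.CN.commute_pCoreOf_pPrimeCoreOf 2 hH.1 z hz.1 d hd).symm
  have hodd : Odd H.index := by
    rw [← Nat.not_even_iff_odd, even_iff_two_dvd]
    intro h2
    have := Nat.dvd_gcd h2H h2
    rw [hH.coprime hCN] at this
    omega
  have hn : ¬ H.Normal := fun hn => by
    haveI := hH.1
    exact hs (isSolvable_of_normal_of_quotient H inferInstance (CL.Odd.feit_thompson hodd))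
  by_cases htwo : ∃ t ∈ H, orderOf t = 2 ∧ t ≠ z
  · exact hH2 (tiThm.{u} G H z hz2 hCz hcent hti htwo hn).1
  push Not at htwo
  obtain ⟨P, hP⟩ := hH.exists_sylow_eq hCN h2H
  obtain ⟨w, hw, N, hN, hNo, hwN⟩ := Cfsg.Agent.S0225.result (G := G)
    (even_iff_two_dvd.2 (ht ▸ orderOf_dvd_natCard t)) (fun E hE => by
      have hE2 : IsPGroup 2 E := IsPGroup.of_card (n := 2) hE.card_four
      obtain ⟨Q, hQ⟩ := hE2.exists_le_sylow
      obtain ⟨g, hg⟩ := MulAction.exists_smul_eq G Q P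
      have key : ∀ x ∈ E, x = 1 ∨ x = g⁻¹ * z * g := by
        intro x hx
        by_cases hx1 : x = 1
        · exact Or.inl hx1
        right
        have h1 : g * x * g⁻¹ ∈ H := by
          refine pCoreOf_le 2 H ?_
          rw [← hP, ← hg]
          exact Subgroup.smul_mem_pointwise_smul x (MulAut.conj g) (Q : Subgroup G) (hQ hx)
        have h2 : x ^ 2 = 1 := by
          have := Monoid.pow_exponent_eq_one (⟨x, hx⟩ : E)
          rw [hE.exponent_two] at this
          exact congrArg Subtype.val this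
        have h3 := htwo _ h1 (orderOf_eq_prime (by rw [conj_pow, h2]; group) fun e => hx1 (by simpa using e))
        rw [← h3]; group
      have h4 : (E : Set G) ⊆ {1, g⁻¹ * z * g} := fun x hx => key x hx
      have h5 := Set.ncard_le_ncard h4 (Set.toFinite _)
      have h6 := (Set.ncard_insert_le (1 : G) {g⁻¹ * z * g}).trans_eq (by rw [Set.ncard_singleton])
      have h7 : (E : Set G).ncard = 4 := hE.card_four
      omega)
  have hNs := CL.Odd.feit_thompson hNo
  have hq := CL.CN.isCN_quotient hCN N hNs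
  have hw1 : (w : G ⧸ N) ≠ 1 := fun e => by
    have := N.orderOf_dvd_natCard ((QuotientGroup.eq_one_iff w).1 e)
    rw [hw] at this
    exact (Nat.not_even_iff_odd.2 hNo) (even_iff_two_dvd.2 this)
  have h1 := hq w hw1
  have h2 : Subgroup.centralizer ({(w : G ⧸ N)} : Set (G ⧸ N)) = ⊤ := by
    rw [eq_top_iff]
    intro y _
    obtain ⟨g, rfl⟩ := QuotientGroup.mk_surjective y
    have := (QuotientGroup.eq_one_iff _).2 (hwN g)
    rw [Subgroup.mem_centralizer_singleton_iff]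
    simp only [QuotientGroup.mk_mul, QuotientGroup.mk_inv] at this
    rw [mul_inv_eq_one, mul_inv_eq_iff_eq_mul] at this
    exact this.symm
  rw [h2] at h1
  haveI : Group.IsNilpotent (G ⧸ N) := Group.nilpotent_of_mulEquiv Subgroup.topEquiv
  exact hs (isSolvable_of_normal_of_quotient N hNs inferInstance)

theorem s0337 (hC : CITThm.{u}) : type_of% @Cfsg.CfsgFrozen.S0337.{u} := by
  intro G _ _ _ hG h
  refine s0348 hC hG (isCIT_of_isCN h fun hs => ?_)
  obtain ⟨a, b, hab⟩ := hG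
  exact hab (IsSimpleGroup.comm_iff_isSolvable.2 hs a b)

section Higman
variable {G : Type*} [Group G] [Finite G]

omit [Finite G] in
theorem IsCIT.not_two_of_map {Q : Type*} [Group Q] (π : G →* Q) {x : G} (ho : Odd (orderOf (π x)))
    (h1 : π x ≠ 1) : ¬ Two x := fun ⟨k, hk⟩ =>
  h1 (Two.eq_one_of_odd ⟨k, by rw [← map_pow, hk, map_one]⟩ ho)

/-- elements of odd order lift to elements of the same order -/
theorem IsCIT.pow_eq_one_of_map (h : IsCIT G) {Q : Type*} [Group Q] (π : G →* Q) (hk : IsPGroup 2 π.ker) {x : G}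
    (ho : Odd (orderOf (π x))) (h1 : π x ≠ 1) {n : ℕ} (hn : π x ^ n = 1) : x ^ n = 1 :=
  h.eq_one_of_two_pow (IsCIT.not_two_of_map π ho h1) (two_of_mem hk (by rw [MonoidHom.mem_ker, map_pow, hn]))

/-- an involution inverting an element of odd order lifts to an involution -/
theorem IsCIT.exists_lift_inv (h : IsCIT G) {Q : Type*} [Group Q] (π : G →* Q) (hπ : Function.Surjective π)
    (hk : IsPGroup 2 π.ker) {Y B : Q} (ho : Odd (orderOf Y)) (h1 : Y ≠ 1) (hB : B * B = 1)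
    (e : Y * (B * Y * B⁻¹) = 1) : ∃ b : G, π b = B ∧ b * b = 1 := by
  obtain ⟨y, rfl⟩ := hπ Y
  obtain ⟨s, rfl⟩ := hπ B
  have hn : ∀ g : G, g ∈ 𝒩(π.ker) := fun g => by
    rw [Subgroup.normalizer_eq_top_iff.2 inferInstance]; trivial
  obtain ⟨c, hc, h2, -⟩ := h.exists_inv_lift hk (IsCIT.not_two_of_map π ho h1) (hn y) (hn s)
    (by rw [MonoidHom.mem_ker, map_mul, hB]) (by simpa [MonoidHom.mem_ker] using e)
  exact ⟨c * s, by rw [map_mul, MonoidHom.mem_ker.1 hc, one_mul], h2⟩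

theorem odd_orderOf_of_cube {Q : Type*} [Group Q] {X : Q} (h3 : X ^ 3 = 1) : Odd (orderOf X) :=
  Odd.of_dvd_nat (by decide) (orderOf_dvd_of_pow_eq_one h3)

theorem IsCIT.higman_of_map (h : IsCIT G) {Q : Type*} [Group Q] (π : G →* Q) (hπ : Function.Surjective π)
    (hk : π.ker = pCore 2 G) {X Y B : Q} (X3 : X ^ 3 = 1) (X1 : X ≠ 1) (Y3 : Y ^ 3 = 1) (Y1 : Y ≠ 1)
    (hB : B * B = 1) (B1 : B ≠ 1) (e : Y * (B * Y * B⁻¹) = 1) (e' : X * (B * X * B⁻¹) ≠ 1) :
    ∀ d ∈ pCore 2 G, d * d = 1 := by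
  haveI : Fact (Nat.Prime 2) := ⟨Nat.prime_two⟩
  have hk2 : IsPGroup 2 π.ker := hk ▸ pCore_isPGroup 2 G
  obtain ⟨b, rfl, hb⟩ := h.exists_lift_inv π hπ hk2 (odd_orderOf_of_cube Y3) Y1 hB e
  obtain ⟨x, rfl⟩ := hπ X
  refine (core_pCore h).higman (x := x) (b := b) trivial
    (h.pow_eq_one_of_map π hk2 (odd_orderOf_of_cube X3) X1 X3) (fun e => X1 (by rw [e, map_one])) trivial hb ?_ ?_
  · rwa [← hk, MonoidHom.mem_ker]
  · rw [← hk, MonoidHom.mem_ker]
    simpa using e'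

/-- Higman: if `G/O₂(G) ≅ SL₂(2^n)`, `n ≥ 2`, then `O₂(G)` is elementary abelian. -/
theorem IsCIT.sq_eq_one_of_isL2Even (h : IsCIT G) (h2 : IsL2Even (G ⧸ pCore 2 G)) : ∀ d ∈ pCore 2 G, d * d = 1 := by
  obtain ⟨F, _, _, n, hn, hF, ⟨e⟩⟩ := h2
  haveI := charP_two_of_card hF
  have h4 : 2 ^ 2 ≤ 2 ^ n := Nat.pow_le_pow_right (by omega) hn
  obtain ⟨a, ha0, ha1⟩ : ∃ a : F, a ≠ 0 ∧ a ≠ 1 := by
    by_contra hne
    push Not at hne
    classical
    have : (Finset.univ : Finset F) ⊆ {0, 1} := fun a _ => by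
      by_cases h0 : a = 0
      · simp [h0]
      · simp [hne a h0]
    have h5 := (Finset.card_le_card this).trans Finset.card_le_two
    rw [Finset.card_univ] at h5
    omega
  have h20 : (2 : F) = 0 := CharP.cast_eq_zero F 2
  have h11 : (1 : F) + 1 = 0 := by linear_combination h20
  let π : G →* SpecialLinearGroup (Fin 2) F :=
    ((e.trans psl2EquivSL2).toMonoidHom).comp (QuotientGroup.mk' (pCore 2 G))
  let ι : SpecialLinearGroup (Fin 2) F →* Matrix (Fin 2) (Fin 2) F := SpecialLinearGroup.coeMonoidHom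
  have hι : Function.Injective ι := SpecialLinearGroup.coeMonoidHom_injective
  obtain ⟨X, hX⟩ : ∃ X, ι X = !![0, 1; 1, 1] :=
    ⟨⟨!![0, 1; 1, 1], by rw [det_fin_two_of]; linear_combination -h20⟩, rfl⟩
  obtain ⟨Y, hY⟩ : ∃ X, ι X = !![0, a; a⁻¹, 1] :=
    ⟨⟨!![0, a; a⁻¹, 1], by rw [det_fin_two_of, mul_inv_cancel₀ ha0]; linear_combination -h20⟩, rfl⟩
  obtain ⟨B, hB0⟩ : ∃ X, ι X = !![1, a; 0, 1] := ⟨⟨!![1, a; 0, 1], by rw [det_fin_two_of]; ring⟩, rfl⟩
  clear_value ι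
  have hB : B * B = 1 := by
    apply hι
    rw [map_mul, map_one, one_fin_two, hB0, mul_fin_two]
    simp only [CharTwo.add_self_eq_zero, mul_one, mul_zero, one_mul, zero_mul, add_zero, zero_add]
  have hBi := inv_eq_of_mul_eq_one_right hB
  refine h.higman_of_map π ((e.trans psl2EquivSL2).surjective.comp (QuotientGroup.mk'_surjective _)) ?_
    (X := X) (Y := Y) (B := B) ?_ ?_ ?_ ?_ hB ?_ ?_ ?_
  · ext g
    simp [π, MonoidHom.mem_ker]
  · apply hι
    rw [map_pow, map_one, one_fin_two, hX]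
    simp [pow_succ, h11]
  · rintro rfl
    have := congrFun (congrFun hX 0) 0
    simp at this
  · apply hι
    rw [map_pow, map_one, one_fin_two, hY, pow_three, mul_fin_two, mul_fin_two]
    simp only [CharTwo.add_self_eq_zero, mul_one, mul_zero, one_mul, zero_mul, add_zero, zero_add,
      mul_inv_cancel₀ ha0, inv_mul_cancel₀ ha0]
  · rintro rfl
    have := congrFun (congrFun hY 0) 0
    simp at this
  · rintro rfl
    have := congrFun (congrFun hB0 0) 1
    simp [ha0.symm] at this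
  · rw [hBi]
    apply hι
    simp only [map_mul]
    rw [map_one, one_fin_two, hY, hB0, mul_fin_two, mul_fin_two, mul_fin_two]
    simp only [CharTwo.add_self_eq_zero, mul_one, mul_zero, one_mul, zero_mul, add_zero, zero_add,
      mul_inv_cancel₀ ha0, inv_mul_cancel₀ ha0]
  · rw [hBi]
    intro e1
    have e2 := congrArg ι e1
    simp only [map_mul, map_one, hX, hB0] at e2
    have := congrFun (congrFun e2 0) 1
    simp at this
    exact ha1 (by linear_combination this - h20)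

end Higman

/-- Martineau's theorem in the form needed for CIT-groups. -/
def Martineau : Prop :=
  ∀ (G : Type u) [Group G] [Finite G], IsCIT G → Lie.IsoSuzuki (G ⧸ pCore 2 G) → ∀ d ∈ pCore 2 G, d * d = 1

theorem s4351 (hC : CITStruct.{u}) (hM : Martineau.{u}) : type_of% @Cfsg.CfsgFrozen.S4351.{u} := by
  intro G _ _ hs hCN
  haveI : Fact (Nat.Prime 2) := ⟨Nat.prime_two⟩
  have h := isCIT_of_isCN hCN hs
  rcases hC G h hs with ⟨-, a | a | a⟩ | ⟨N, hN, rfl, a⟩
  · exact Or.inl a.simple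
  · exact Or.inl a.simple
  · obtain ⟨N, hN, h2, -, b⟩ := a
    exact Or.inr (Or.inl ⟨N, hN, h2, b⟩)
  by_cases h0 : pCore 2 G = ⊥
  · left
    have b : IsSimpleGroup (G ⧸ pCore 2 G) ∧ ¬ IsMulCommutative (G ⧸ pCore 2 G) :=
      a.elim IsL2Even.simple simple_of_isoSuzuki
    let e : G ⧸ pCore 2 G ≃* G := (QuotientGroup.quotientMulEquivOfEq h0).trans QuotientGroup.quotientBot
    haveI := b.1
    refine ⟨e.symm.isSimpleGroup, fun c => b.2 ⟨⟨fun x y => e.injective ?_⟩⟩⟩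
    rw [map_mul, map_mul]
    exact c.1.1 _ _
  have hsq : EA (pCore 2 G) := a.elim h.sq_eq_one_of_isL2Even (hM G h)
  refine Or.inr (Or.inr ⟨pCore 2 G, hN, h0, pCore_isPGroup 2 G,
    ⟨⟨fun x y => Subtype.ext (hsq.comm x.2 y.2)⟩⟩, hsq, a.imp ?_ isSuzuki_of_isoSuzuki⟩)
  rintro ⟨F, _, _, n, hn, hF, e⟩
  have h4 : 2 ^ 2 ≤ 2 ^ n := Nat.pow_le_pow_right (by omega) hn
  exact ⟨F, inferInstance, inferInstance, charP_two_of_card hF, by omega, e⟩

end CL.Cit
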