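/-
Simple CIT-groups with a self-centralising four-group.
-/
import Cfsg.Agent.Cit.CentBase
import Cfsg.Agent.Cit.Dih

set_option autoImplicit false

open Subgroup Cfsg CL.Grp CL.Fgs CL.Inv CL.SL2 Matrix
open scoped MatrixGroups

universe u

namespace CL.Cit

variable {G : Type u} [Group G] [Finite G]

theorem exists_MC_of_selfCent {V : Subgroup G} (hV : IsKleinFour V) (hC : centralizer (V : Set G) ≤ V) (S : Sylow 2 G)
    (hS : V ≤ S) : (S : Subgroup G) = V ∨
      ∃ n, Nonempty (MC (S : Subgroup G) n 0 0) ∨ Nonempty (MC (S : Subgroup G) n (2 * zq n) 0) := by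
  refine or_iff_not_imp_left.2 fun hne => ?_
  obtain ⟨m, hm⟩ := IsPGroup.iff_card.1 S.isPGroup'
  have h8 : 2 ^ 2 < 2 ^ m := by
    rw [← hm, show 2 ^ 2 = Nat.card V from hV.card_four.symm]
    exact lt_of_not_ge fun h => hne (eq_of_le_of_card_ge hS h).symm
  rw [Nat.pow_lt_pow_iff_right one_lt_two] at h8
  obtain ⟨n, rfl⟩ : ∃ n, m = n + 1 := ⟨m - 1, by omega⟩
  have hn : 2 ≤ n := by omega
  have hc : Nat.card (V.subgroupOf S) = 2 ^ 2 := by
    rw [Nat.card_congr (subgroupOfEquivOfLe hS).toEquiv, hV.card_four]; rfl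
  have hC : centralizer ((V.subgroupOf S : Subgroup S) : Set S) = V.subgroupOf S :=
    le_antisymm (fun g h => hC fun v hv => congrArg Subtype.val (h ⟨v, hS hv⟩ hv))
      fun g h v hv => Subtype.ext (IsKleinFour.comm_of_mem hV hv h)
  obtain ⟨x, hx⟩ := exists_centralizer_eq_of_selfCentralizing_sq S.isPGroup' _ hc hC
  obtain ⟨a, b, h⟩ := exists_dqsGen_of_card_centralizer_le hn hm x (by rw [hx, hc]; norm_num)
  rcases h.cases with ⟨⟨e⟩⟩ | ⟨⟨e⟩⟩ | ⟨-, h⟩
  · exact ⟨n, Or.inl (nonempty_MC_of_dihedral hn e)⟩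
  · obtain ⟨D⟩ := nonempty_MC_of_quaternion (by omega) e
    obtain ⟨i, -, hi⟩ := D.kleinFour_cases hS hV
    exact absurd (by simpa using hi) D.h2
  · obtain ⟨k, -, hk⟩ := exists_MC_of_isQuasiDihedral_subgroup h
    exact ⟨k, Or.inr hk⟩

/-- A `2`-subgroup containing a self-centralising four-group properly has no automorphism of odd order. -/
theorem eq_of_hasCoprimeAut {V R : Subgroup G} (hV : IsKleinFour V) (hC : centralizer (V : Set G) ≤ V)
    (hR : IsPGroup 2 R) (hVR : V ≤ R) (h : HasCoprimeAut 2 R) : R = V := by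
  obtain ⟨S, hS⟩ := hR.exists_le_sylow
  have key : ∀ {n : ℕ} {e d : ZMod (2 ^ n)}, MC (S : Subgroup G) n e d → R = V := fun {n e d} D => by
    obtain ⟨i, ⟨rfl, -⟩ | ⟨rfl, hi⟩⟩ := D.aut_cases hS h.not_isPGroup_mulAut
    · exact (eq_of_le_of_card_ge hVR (by rw [D.card_sub_z, hV.card_four])).symm
    obtain ⟨j, rfl, hj⟩ := D.kleinFour_cases (hVR.trans hS) hV
    obtain ⟨r, rfl⟩ := (D.b_mem_sub ⟨2, by ring⟩ i j).1 (hVR (D.b_mem_sub_self _ j))
    exact absurd (by linear_combination hj - hi - r * D.e_q) D.h2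
  rcases exists_MC_of_selfCent hV hC S (hVR.trans hS) with e | ⟨n, ⟨⟨D⟩⟩ | ⟨⟨D⟩⟩⟩
  · exact le_antisymm (e ▸ hS) hVR
  · exact key D
  · exact key D

theorem psl_of_selfCent [IsSimpleGroup G] (hna : ¬ IsMulCommutative G) (hG : IsCIT G) {V : Subgroup G}
    (hV : IsKleinFour V) (hC : centralizer (V : Set G) ≤ V) :
    Nonempty (G ≃* PSL(2, GaloisField 2 2)) ∨ IsL2FM G := by
  obtain ⟨S, hS⟩ := (IsKleinFour.isPGroup_two hV).exists_le_sylow
  have h4 : 4 ∣ Nat.card G := hV.card_four ▸ card_subgroup_dvd_card V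
  have hO : pCore 2 G = ⊥ := (pCore_normal 2 G).eq_bot_or_eq_top.resolve_right fun e =>
    sylow_ne_top_of_simple hna S (eq_top_iff.2 (e ▸ pCore_le_sylow S))
  have h2 : ∀ H : Subgroup G, H.index ≠ 2 := BSW.index_ne_two_of_simple fun e => by simp [e] at h4
  rcases exists_MC_of_selfCent hV hC S hS with e | ⟨n, ⟨⟨D⟩⟩ | ⟨⟨D⟩⟩⟩
  · have hA : AbCent G := fun t a b ht ha hb => by
      obtain ⟨g, hg⟩ := exists_conj_le_sylow S (hG t ht)
      have := IsKleinFour.comm_of_mem hV (e ▸ hg (conj_mem_conj_smul g (mem_centralizer_singleton_iff.2 ha)))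
        (e ▸ hg (conj_mem_conj_smul g (mem_centralizer_singleton_iff.2 hb)))
      exact (MulAut.conj g).injective (by rw [map_mul, map_mul]; exact this)
    obtain ⟨n, hn, ⟨f⟩⟩ := psl_of_abCent hA (center_eq_bot_of_simple hna) (not_isSolvable_of_simple hna)
    letI : Fintype (GaloisField 2 n) := Fintype.ofFinite _
    have h1 : 2 ^ n ∣ Nat.card S := S.pow_dvd_card_of_pow_dvd_card (by
      rw [Nat.card_congr f.toEquiv, ← card_galoisField n (by omega), ← Nat.card_eq_fintype_card, ← card_Q_psl 2 pinf]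
      exact card_subgroup_dvd_card _)
    rw [e, hV.card_four, show 4 = 2 ^ 2 from rfl, Nat.pow_dvd_pow_iff_le_right one_lt_two] at h1
    obtain rfl := le_antisymm h1 hn
    exact Or.inl ⟨f⟩
  · exact Or.inr (isL2FM_of_dihedral hG hO D)
  exfalso
  by_cases hT : D.FT
  · obtain ⟨N, -, hN, -⟩ := isM10_of_quasiDihedral hG hO D hT
    exact h2 N hN
  by_cases hQ : D.FQ
  · obtain ⟨⟨N, -, hN, -⟩, -⟩ := D.qd_case26 hT hQ
    exact h2 N hN
  · exact not_npc_of_simple hna (Dvd.dvd.trans (by norm_num) h4) (D.qd_case22 hT hQ).1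

end CL.Cit
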