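/-
Corollaries of the CIT theorems, part 2: groups all of whose elements have prime power order.
-/
import Cfsg.Agent.Cit.Cor1
import Cfsg.Agent.Perm.SpecAlt
import Cfsg.Agent.S0254
import Cfsg.Statements.S2497
import Cfsg.Statements.S4087
import Cfsg.Statements.S3396
import Cfsg.Statements.S3433

set_option autoImplicit false

open Cfsg CL.Perm CL.Grp CL.Even Matrix

namespace CL.Cit

universe u v

/-- every member of `A` other than `1` is a prime power -/
def PP (A : Set ℕ) : Prop := ∀ n ∈ A, n ≠ 1 → IsPrimePow n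

theorem PP.mono {A B : Set ℕ} (h : PP B) (hAB : A ⊆ B) : PP A := fun n hn => h n (hAB hn)

theorem PP.eq {A : Set ℕ} (h : PP A) {n p r : ℕ} (hn : n ∈ A) (hp : p.Prime) (hr : r.Prime) (h1 : p ∣ n)
    (h2 : r ∣ n) : r = p := by
  have hn1 : n ≠ 1 := by rintro rfl; exact hp.one_lt.ne' (Nat.dvd_one.1 h1)
  exact (isPrimePow_iff_unique_prime_dvd.1 (h n hn hn1)).unique ⟨hr, h2⟩ ⟨hp, h1⟩

theorem PP.not_mul {A : Set ℕ} (h : PP A) {p r : ℕ} (hp : p.Prime) (hr : r.Prime) (hpr : p ≠ r) : p * r ∉ A :=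
  fun hn => hpr (h.eq hn hr hp (dvd_mul_left _ _) (dvd_mul_right _ _))

theorem pp_spec {G : Type*} [Group G] (h : ∀ g : G, g ≠ 1 → IsPrimePow (orderOf g)) : PP (Spec G) := by
  rintro _ ⟨g, rfl⟩ hg
  exact h g fun e => hg (by rw [e, orderOf_one])

theorem PP.isCIT {G : Type*} [Group G] [Finite G] (h : PP (Spec G)) : IsCIT G :=
  isCIT_iff_spec.2 fun _ hs hs2 => h.not_mul Nat.prime_two hs hs2.symm

theorem PP.card_le_two {G : Type*} [Group G] [Finite G] (h : PP (Spec G)) (hs : Group.IsSolvable G) :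
    (Nat.card G).primeFactors.card ≤ 2 := by
  by_contra hc
  obtain ⟨p, hp, q, hq, r, hr, hpq, hpr, hqr⟩ := Finset.two_lt_card.1 (not_le.1 hc)
  rw [Nat.mem_primeFactors] at hp hq hr
  rcases three_primes_of_isSolvable hs hp.1 hq.1 hr.1 hpq hpr hqr hp.2.1 hq.2.1 hr.2.1 with a | a | a
  · exact h.not_mul hp.1 hq.1 hpq a
  · exact h.not_mul hp.1 hr.1 hpr a
  · exact h.not_mul hq.1 hr.1 hqr a

/-! ### Arithmetic -/

theorem eq_three_of_two_pow_add_one {k : ℕ} (hk : 2 ≤ k) (h : ∀ t : ℕ, t.Prime → t ∣ 2 ^ k + 1 → t = 3) :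
    k = 3 := by
  by_contra h3
  obtain ⟨r, hr, -, hlt, hd⟩ := exists_prime_ord_two (n := 2 * k) (by omega) (by omega)
  have h1 := (hd (2 * k)).2 dvd_rfl
  rw [two_pow_two_mul_sub_one, hr.dvd_mul] at h1
  rcases h1 with h1 | h1
  · have := Nat.le_of_dvd (by omega) ((hd k).1 h1)
    omega
  · have := h r hr h1
    omega

theorem le_two_of_five_pow {m k : ℕ} (hk : k ≠ 0) (hd : 2 ^ (m + 1) ∣ 5 ^ k - 1) (hlt : 5 ^ k < 2 ^ (2 * m + 2)) :
    m ≤ 2 := by
  by_contra hm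
  obtain ⟨n, rfl⟩ : ∃ n, m = n + 1 := ⟨m - 1, by omega⟩
  have h1 : (5 : ZMod (2 ^ (n + 2))) ^ k = 1 := by
    have h2 := (ZMod.natCast_eq_zero_iff _ _).2 hd
    rw [Nat.cast_sub (Nat.one_le_pow _ _ (by omega)), sub_eq_zero] at h2
    exact_mod_cast h2
  have h2 := orderOf_dvd_of_pow_eq_one h1
  rw [ZMod.orderOf_five] at h2
  have h3 := Nat.le_of_dvd (by omega) h2
  have h4 : ∀ j : ℕ, j + 4 ≤ 2 ^ (j + 2) := fun j => by
    induction j with
    | zero => norm_num
    | succ i ih => rw [show i + 1 + 2 = (i + 2) + 1 by ring, pow_succ]; omega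
  have h5 := h4 (n - 2)
  rw [show n - 2 + 2 = n by omega] at h5
  have h6 : 2 ^ (2 * (n + 1) + 2) ≤ 4 ^ k := by
    rw [show (4 : ℕ) = 2 ^ 2 by norm_num, ← pow_mul]
    exact Nat.pow_le_pow_right (by omega) (by omega)
  have h7 : 4 ^ k ≤ 5 ^ k := Nat.pow_le_pow_left (by omega) k
  omega

section L2
variable {F : Type*} [Field F] [Fintype F]

theorem pp_L2_even {n : ℕ} (hn : 2 ≤ n) (hF : Fintype.card F = 2 ^ n)
    (h : PP (Spec (ProjectiveSpecialLinearGroup (Fin 2) F))) : Fintype.card F = 4 ∨ Fintype.card F = 8 := by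
  haveI := charP_two_of_card hF
  rw [spec_PSL2 2, CL.SL2.gcd_two_of_eq (CL.Chev.Sz.two_eq_zero_of_card hF), hF, Nat.div_one, Nat.div_one] at h
  have h3 := three_dvd_two_pow_two_mul_sub_one n
  rw [two_pow_two_mul_sub_one, Nat.prime_three.dvd_mul] at h3
  rcases h3 with h3 | h3
  · left
    by_contra h4
    have : n ≠ 2 := by rintro rfl; exact h4 hF
    exact two_pow_sub_one_ne_three_pow (k := n) (by omega) fun t ht hd =>
      h.eq (Or.inr (Or.inl dvd_rfl)) Nat.prime_three ht h3 hd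
  · right
    rw [hF, eq_three_of_two_pow_add_one hn fun t ht hd =>
      h.eq (Or.inr (Or.inr dvd_rfl)) Nat.prime_three ht h3 hd]
    norm_num

theorem spec_L2_odd {c : ℕ} (hc : Fintype.card F = 2 * c + 1) :
    c ∈ Spec (ProjectiveSpecialLinearGroup (Fin 2) F) ∧ c + 1 ∈ Spec (ProjectiveSpecialLinearGroup (Fin 2) F) := by
  obtain ⟨p, hpc, n, hp, hq⟩ := FiniteField.card' F
  have hg : Nat.gcd 2 (Fintype.card F - 1) = 2 := by rw [hc]; simp
  rw [spec_PSL2 p, hg, hc, show (2 * c + 1 - 1) / 2 = c by omega, show (2 * c + 1 + 1) / 2 = c + 1 by omega]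
  exact ⟨Or.inr (Or.inl dvd_rfl), Or.inr (Or.inr dvd_rfl)⟩

theorem pp_L2_fm (h7 : 7 ≤ Fintype.card F) (hp : (Fintype.card F).Prime) {k : ℕ}
    (hk : Fintype.card F = 2 ^ k + 1 ∨ Fintype.card F + 1 = 2 ^ k)
    (h : PP (Spec (ProjectiveSpecialLinearGroup (Fin 2) F))) : Fintype.card F = 7 ∨ Fintype.card F = 17 := by
  obtain ⟨c, hc⟩ := hp.odd_of_ne_two (by omega)
  obtain ⟨h1, h2⟩ := spec_L2_odd hc
  have h3 : ¬ 3 ∣ 2 * c + 1 := fun e => by
    have := (Nat.prime_dvd_prime_iff_eq Nat.prime_three hp).1 (hc ▸ e)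
    omega
  obtain ⟨j, rfl⟩ : ∃ j, k = j + 1 := ⟨k - 1, by
    have : k ≠ 0 := by rintro rfl; simp at hk; omega
    omega⟩
  have h2j : ¬ 3 ∣ 2 ^ j := fun e => by
    have := Nat.prime_three.dvd_of_dvd_pow e
    omega
  have hj : 2 ≤ j := by
    by_contra hj
    have : 2 ^ (j + 1) ≤ 2 ^ 2 := Nat.pow_le_pow_right (by omega) (by omega)
    omega
  rw [pow_succ] at hk
  rcases hk with hk | hk
  · right
    have e : c = 2 ^ j := by omega
    have e3 : 3 ∣ c + 1 := by
      rw [← e] at h2j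
      have : c % 3 = 0 ∨ c % 3 = 1 ∨ c % 3 = 2 := by omega
      omega
    have := eq_three_of_two_pow_add_one hj fun t ht hd => h.eq h2 Nat.prime_three ht e3 (e ▸ hd)
    rw [hk, this]; norm_num
  · left
    have e : c = 2 ^ j - 1 := by omega
    have e3 : 3 ∣ c := by
      rw [show 2 ^ j = c + 1 by omega] at h2j
      have : c % 3 = 0 ∨ c % 3 = 1 ∨ c % 3 = 2 := by omega
      omega
    by_contra h4
    have : j ≠ 2 := by rintro rfl; omega
    exact two_pow_sub_one_ne_three_pow (k := j) (by omega) fun t ht hd =>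
      h.eq h1 Nat.prime_three ht e3 (e ▸ hd)

theorem card_L2_of {q N : ℕ} (hF : Fintype.card F = q) (ho : Odd q) (hN : 2 * N = q * ((q - 1) * (q + 1))) :
    Nat.card (ProjectiveSpecialLinearGroup (Fin 2) F) = N := by
  have := card_L2_odd (F := F) (hF ▸ ho)
  rw [hF] at this
  omega

end L2

section Small
variable {G : Type*} [Group G]

/-- `G ≅ PSL₂(q)` -/
def L2q (G : Type*) [Group G] (q : ℕ) : Prop :=
  ∃ (F : Type) (_ : Field F) (_ : Fintype F), Fintype.card F = q ∧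
    Nonempty (G ≃* ProjectiveSpecialLinearGroup (Fin 2) F)

/-- `G ≅ Sz(8)` or `G ≅ Sz(32)` -/
def SzSmall (G : Type*) [Group G] : Prop :=
  ∃ (F : Type) (_ : Field F) (_ : Fintype F),
    (Fintype.card F = 8 ∧ Nonempty (G ≃* Lie.Sz F 4)) ∨ (Fintype.card F = 32 ∧ Nonempty (G ≃* Lie.Sz F 8))

theorem IsL2Even.pp (h : IsL2Even G) (hp : PP (Spec G)) : L2q G 4 ∨ L2q G 8 := by
  obtain ⟨F, _, _, n, hn, hF, ⟨e⟩⟩ := h
  exact (pp_L2_even hn hF (spec_congr e ▸ hp)).imp (fun a => ⟨F, _, _, a, ⟨e⟩⟩) fun a => ⟨F, _, _, a, ⟨e⟩⟩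

theorem IsL2FM.pp (h : IsL2FM G) (hp : PP (Spec G)) : L2q G 7 ∨ L2q G 9 ∨ L2q G 17 := by
  obtain ⟨F, _, _, h7, hF | ⟨hF, k, hk⟩, ⟨e⟩⟩ := h
  · exact Or.inr (Or.inl ⟨F, _, _, hF, ⟨e⟩⟩)
  · exact (pp_L2_fm h7 hF hk (spec_congr e ▸ hp)).imp (fun a => ⟨F, _, _, a, ⟨e⟩⟩)
      fun a => Or.inr ⟨F, _, _, a, ⟨e⟩⟩

theorem szSmall_of_pp (h : Lie.IsoSuzuki G) (hp : PP (Spec G)) : SzSmall G := by
  obtain ⟨F, _, _, m, hm, hF, ⟨e⟩⟩ := h
  obtain ⟨h1, h2⟩ := torus_mem_spec ((CL.Chev.Sz.modelLie hm hF).ofEquiv e) hm (Nat.card_eq_fintype_card.trans hF)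
  have a1 := CL.Chev.Sz.two_r_le hm
  have a2 := CL.Chev.Sz.four_le_r hm
  have h5 : 5 ∣ (2 ^ (2 * m + 1)) ^ 2 + 1 := by
    rw [← pow_mul, mul_comm, pow_mul]
    exact Odd.nat_add_dvd_pow_add_pow 4 1 ⟨m, rfl⟩ |>.trans (by simp)
  have key : ∀ n, n ∈ Spec G → 5 ∣ n → 2 ^ (m + 1) ∣ n - 1 → n < 2 ^ (2 * m + 2) → m ≤ 2 := by
    intro n hn h5 hd hlt
    obtain ⟨p, k, hpp, hk, rfl⟩ := (isPrimePow_nat_iff n).1 (hp n hn (by rintro rfl; omega))
    obtain rfl := (Nat.prime_dvd_prime_iff_eq Nat.prime_five hpp).1 (Nat.prime_five.dvd_of_dvd_pow h5)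
    exact le_two_of_five_pow (by omega) hd hlt
  have hd : 2 ^ (m + 1) ∣ 2 ^ (2 * m + 1) := pow_dvd_pow 2 (by omega)
  have e2 : 2 ^ (2 * m + 2) = 2 * 2 ^ (2 * m + 1) := by ring
  have hm2 : m ≤ 2 := by
    rw [← CL.Chev.Sz.nplus_mul_nminus, Nat.prime_five.dvd_mul] at h5
    rcases h5 with h5 | h5
    · exact key _ h1 h5 (by simpa using hd) (by omega)
    · exact key _ h2 h5 (by simpa using Nat.dvd_sub hd dvd_rfl) (by omega)
  obtain rfl | rfl : m = 1 ∨ m = 2 := by omega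
  · exact ⟨F, _, _, Or.inl ⟨hF, ⟨e⟩⟩⟩
  · exact ⟨F, _, _, Or.inr ⟨hF, ⟨e⟩⟩⟩

theorem L2q.card_four (h : L2q G 4) : Nat.card G = 60 := by
  obtain ⟨F, _, _, hF, ⟨e⟩⟩ := h
  rw [Nat.card_congr e.toEquiv, card_L2_even (n := 2) hF]; norm_num

theorem L2q.card_eight (h : L2q G 8) : Nat.card G = 504 := by
  obtain ⟨F, _, _, hF, ⟨e⟩⟩ := h
  rw [Nat.card_congr e.toEquiv, card_L2_even (n := 3) hF]; norm_num

theorem L2q.card_seven (h : L2q G 7) : Nat.card G = 168 := by
  obtain ⟨F, _, _, hF, ⟨e⟩⟩ := h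
  rw [Nat.card_congr e.toEquiv, card_L2_of hF (by decide) (N := 168) (by norm_num)]

theorem L2q.card_nine (h : L2q G 9) : Nat.card G = 360 := by
  obtain ⟨F, _, _, hF, ⟨e⟩⟩ := h
  rw [Nat.card_congr e.toEquiv, card_L2_of hF (by decide) (N := 360) (by norm_num)]

theorem L2q.card_seventeen (h : L2q G 17) : Nat.card G = 2448 := by
  obtain ⟨F, _, _, hF, ⟨e⟩⟩ := h
  rw [Nat.card_congr e.toEquiv, card_L2_of hF (by decide) (N := 2448) (by norm_num)]

theorem SzSmall.card (h : SzSmall G) : Nat.card G = 29120 ∨ Nat.card G = 32537600 := by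
  obtain ⟨F, _, _, ⟨hF, ⟨e⟩⟩ | ⟨hF, ⟨e⟩⟩⟩ := h
  · left
    rw [Nat.card_congr e.toEquiv]
    exact (Cfsg.Agent.S1163.result (m := 1) le_rfl hF).1
  · right
    rw [Nat.card_congr e.toEquiv]
    exact (Cfsg.Agent.S1163.result (m := 2) (by omega) hF).1

theorem L2q.nine_mem_eight (h : L2q G 8) : 9 ∈ Spec G := by
  obtain ⟨F, _, _, hF, ⟨e⟩⟩ := h
  haveI := charP_two_of_card (n := 3) hF
  rw [spec_congr e, spec_PSL2 2, hF]
  exact Or.inr (Or.inr (by norm_num))

theorem L2q.nine_mem_seventeen (h : L2q G 17) : 9 ∈ Spec G := by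
  obtain ⟨F, _, _, hF, ⟨e⟩⟩ := h
  exact spec_congr e ▸ (spec_L2_odd (c := 8) hF).2

theorem L2q.alt_six (h : L2q G 9) : Nonempty (G ≃* alternatingGroup (Fin 6)) := by
  obtain ⟨F, _, _, hF, ⟨e⟩⟩ := h
  obtain ⟨e'⟩ := Cfsg.Agent.S0254.result hF
  exact ⟨e.trans e'⟩

theorem L2q.alt_five (h : L2q G 4) : Nonempty (G ≃* alternatingGroup (Fin 5)) := by
  obtain ⟨F, _, _, hF, ⟨e⟩⟩ := h
  obtain ⟨e'⟩ := CL.Cls.nonempty_PSL2_four hF
  exact ⟨e.trans e'⟩

theorem L2q.isL2Even (h : L2q G 4) : IsL2Even G := by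
  obtain ⟨F, _, _, hF, e⟩ := h
  exact ⟨F, _, _, 2, le_rfl, hF, e⟩

/-- `M₁₀` has elements of order greater than `5`. -/
theorem IsM10.exists_lt_orderOf [Finite G] (h : IsM10 G) : ∃ g : G, 5 < orderOf g := by
  obtain ⟨N, hN, h2, hinv, F, _, _, hF, ⟨e⟩⟩ := h
  obtain ⟨e'⟩ := Cfsg.Agent.S0254.result hF
  let φ : alternatingGroup (Fin 6) →* G := N.subtype.comp (e.trans e').symm.toMonoidHom
  have hφ : Function.Injective φ := N.subtype_injective.comp (e.trans e').symm.injective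
  have hmem : ∀ g : G, g ∈ N ↔ ∃ a, φ a = g := fun g =>
    ⟨fun hg => ⟨(e.trans e') ⟨g, hg⟩, by simp [φ]⟩, fun ⟨a, ha⟩ => ha ▸ ((e.trans e').symm a).2⟩
  clear_value φ
  let t : Equiv.Perm (Fin 6) := Equiv.swap 0 1 * Equiv.swap 2 3
  let r : Equiv.Perm (Fin 6) := Equiv.swap 0 3 * Equiv.swap 0 1 * Equiv.swap 0 2 * Equiv.swap 4 5
  let s : Equiv.Perm (Fin 6) := Equiv.swap 0 1 * Equiv.swap 4 5
  have K1 : ∀ b : Equiv.Perm (Fin 6), b * b = 1 → b ≠ 1 → Equiv.Perm.sign b = 1 →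
      ∃ c : Equiv.Perm (Fin 6), c * b = t * c ∧ Equiv.Perm.sign c = 1 := by decide +kernel
  have K2 : ∀ b : Equiv.Perm (Fin 6), b * t = t * b → Equiv.Perm.sign b = 1 → b * b ≠ 1 →
      b = r ∨ b * r = 1 := by decide +kernel
  have K3 : ∀ b : Equiv.Perm (Fin 6), b * r = r * b → Equiv.Perm.sign b = 1 → b * b = 1 → b ≠ 1 →
      b = t := by decide +kernel
  obtain ⟨T, hT⟩ : ∃ T : alternatingGroup (Fin 6), T = t := ⟨⟨t, Equiv.Perm.mem_alternatingGroup.2 (by decide)⟩, rfl⟩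
  obtain ⟨R, hR⟩ : ∃ T : alternatingGroup (Fin 6), T = r := ⟨⟨r, Equiv.Perm.mem_alternatingGroup.2 (by decide)⟩, rfl⟩
  obtain ⟨S, hS⟩ : ∃ T : alternatingGroup (Fin 6), T = s := ⟨⟨s, Equiv.Perm.mem_alternatingGroup.2 (by decide)⟩, rfl⟩
  have hTT : T * T = 1 := Subtype.ext (by rw [Subgroup.coe_mul, hT]; decide)
  have hT1 : T ≠ 1 := fun e => by rw [e] at hT; exact absurd hT (by decide)
  have hRT : R * T = T * R := Subtype.ext (by rw [Subgroup.coe_mul, Subgroup.coe_mul, hT, hR]; decide)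
  have hST : S * T = T * S := Subtype.ext (by rw [Subgroup.coe_mul, Subgroup.coe_mul, hT, hS]; decide)
  have hRR : R * R ≠ 1 := fun e => by
    have := congrArg Subtype.val e
    rw [Subgroup.coe_mul, hR] at this
    exact absurd this (by decide)
  have hRS : R * S ≠ S * R := fun e => by
    have := congrArg Subtype.val e
    rw [Subgroup.coe_mul, Subgroup.coe_mul, hR, hS] at this
    exact absurd this (by decide)
  -- an element outside `N` centralising `T`
  obtain ⟨g, hg, hgT⟩ : ∃ g : G, g ∉ N ∧ g * φ T = φ T * g := by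
    obtain ⟨g, hg⟩ : ∃ g : G, g ∉ N := by
      by_contra hne
      push Not at hne
      rw [(Subgroup.eq_top_iff' N).2 hne] at h2
      simp at h2
    obtain ⟨b, hb⟩ := (hmem _).1 (hN.conj_mem _ ((hmem _).2 ⟨T, rfl⟩) g)
    have hbb : b * b = 1 := hφ (by
      rw [map_mul, hb, map_one]
      calc g * φ T * g⁻¹ * (g * φ T * g⁻¹) = g * φ (T * T) * g⁻¹ := by rw [map_mul]; group
        _ = 1 := by rw [hTT, map_one]; group)
    have hb1 : b ≠ 1 := fun e => hT1 (hφ (by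
      rw [e, map_one] at hb
      rw [map_one]
      simpa using hb.symm))
    obtain ⟨c, hc, hc1⟩ := K1 b (congrArg Subtype.val hbb) (fun e => hb1 (Subtype.ext e))
      (Equiv.Perm.mem_alternatingGroup.1 b.2)
    have hc2 : (⟨c, Equiv.Perm.mem_alternatingGroup.2 hc1⟩ * b : alternatingGroup (Fin 6)) =
        T * ⟨c, Equiv.Perm.mem_alternatingGroup.2 hc1⟩ :=
      Subtype.ext (by rw [Subgroup.coe_mul, Subgroup.coe_mul, hT]; exact hc)
    have hc3 := congrArg φ hc2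
    rw [map_mul, map_mul, hb] at hc3
    refine ⟨φ ⟨c, Equiv.Perm.mem_alternatingGroup.2 hc1⟩ * g,
      fun e => hg ((N.mul_mem_cancel_left ((hmem _).2 ⟨_, rfl⟩)).1 e), ?_⟩
    rw [← mul_assoc, ← hc3]; group
  by_contra hlt
  push Not at hlt
  have sq : ∀ g : G, g ∉ N → g * φ T = φ T * g → g * g = φ T := by
    intro g hg hgT
    have hgg : g * g ∈ N := Subgroup.mul_self_mem_of_index_two h2 g
    have h4 : g ^ 4 = 1 := by
      have h5 := hlt g
      have h6 := orderOf_pos g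
      have h7 : ¬ Odd (orderOf g) := fun ⟨k, hk⟩ => hg (by
        have : g = ((g * g) ^ k)⁻¹ := by
          rw [eq_inv_iff_mul_eq_one, ← pow_two, ← pow_mul, ← pow_succ', ← hk, pow_orderOf_eq_one]
        rw [this]
        exact N.inv_mem (N.pow_mem hgg k))
      rw [← orderOf_dvd_iff_pow_eq_one]
      rw [Nat.odd_iff] at h7
      obtain e | e : orderOf g = 2 ∨ orderOf g = 4 := by omega
      · rw [e]; decide
      · rw [e]
    have conj : g * φ R * g⁻¹ = φ R ∨ g * φ R * g⁻¹ = (φ R)⁻¹ := by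
      obtain ⟨b, hb⟩ := (hmem _).1 (hN.conj_mem _ ((hmem _).2 ⟨R, rfl⟩) g)
      have b1 : b * T = T * b := hφ (by
        rw [map_mul, map_mul, hb]
        calc g * φ R * g⁻¹ * φ T = g * φ R * (g⁻¹ * (φ T * g) * g⁻¹) := by group
          _ = g * φ (R * T) * g⁻¹ := by rw [← hgT, map_mul]; group
          _ = _ := by rw [hRT, map_mul, ← mul_assoc, hgT]; group)
      have b2 : b * b ≠ 1 := fun e => hRR (hφ (by
        have := congrArg φ e
        rw [map_mul, hb, map_one] at this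
        rw [map_mul, map_one]
        calc φ R * φ R = g⁻¹ * (g * φ R * g⁻¹ * (g * φ R * g⁻¹)) * g := by group
          _ = 1 := by rw [this]; group))
      rcases K2 b (by rw [← hT]; exact congrArg Subtype.val b1) (Equiv.Perm.mem_alternatingGroup.1 b.2)
        (fun e => b2 (Subtype.ext e)) with e | e
      · left
        rw [← hb, show b = R from Subtype.ext (e.trans hR.symm)]
      · right
        rw [← hb, eq_inv_iff_mul_eq_one, ← map_mul,
          show b * R = 1 from Subtype.ext (by rw [Subgroup.coe_mul, hR]; exact e), map_one]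
    have hc : g * g * φ R = φ R * (g * g) := by
      have : g * (g * φ R * g⁻¹) * g⁻¹ = φ R := by
        rcases conj with e | e
        · rw [e, e]
        · rw [e, ← conj_inv, e, inv_inv]
      calc g * g * φ R = (g * (g * φ R * g⁻¹) * g⁻¹) * (g * g) := by group
        _ = _ := by rw [this]
    obtain ⟨b, hb⟩ := (hmem _).1 hgg
    have b1 : b * R = R * b := hφ (by rw [map_mul, map_mul, hb, hc])
    have b2 : b * b = 1 := hφ (by rw [map_mul, hb, map_one, ← h4]; simp only [pow_succ, pow_zero]; group)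
    have b3 : b ≠ 1 := fun e => hg (hinv g (by rw [← hb, e, map_one]))
    rw [← hb, show b = T from Subtype.ext ((K3 b (by rw [← hR]; exact congrArg Subtype.val b1)
      (Equiv.Perm.mem_alternatingGroup.1 b.2) (congrArg Subtype.val b2) fun e => b3 (Subtype.ext e)).trans hT.symm)]
  have inv : ∀ d : alternatingGroup (Fin 6), d * T = T * d → g⁻¹ * φ d * g = (φ d)⁻¹ := by
    intro d hd
    have h1 := sq (g * φ d) (fun e => hg ((N.mul_mem_cancel_right ((hmem _).2 ⟨_, rfl⟩)).1 e))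
      (by rw [mul_assoc, ← map_mul, hd, map_mul, ← mul_assoc, hgT, mul_assoc])
    rw [← sq g hg hgT] at h1
    calc g⁻¹ * φ d * g = g⁻¹ * g⁻¹ * (g * φ d * (g * φ d)) * (φ d)⁻¹ := by group
      _ = _ := by rw [h1]; group
  refine hRS (hφ ?_)
  have h1 := inv (R * S) (by rw [mul_assoc, hST, ← mul_assoc, hRT, mul_assoc])
  rw [map_mul, show g⁻¹ * (φ R * φ S) * g = (g⁻¹ * φ R * g) * (g⁻¹ * φ S * g) by group, inv R hRT, inv S hST,
    ← _root_.mul_inv_rev, _root_.inv_inj] at h1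
  rw [map_mul, map_mul, h1]

end Small

/-- The non-solvable groups all of whose elements have prime power order. -/
theorem pp_struct (hC : CITStruct.{u}) {G : Type u} [Group G] [Finite G] (h : PP (Spec G))
    (hs : ¬ Group.IsSolvable G) : L2q G 7 ∨ L2q G 9 ∨ L2q G 17 ∨ IsL34 G ∨ IsM10 G ∨
      L2q (G ⧸ pCore 2 G) 4 ∨ L2q (G ⧸ pCore 2 G) 8 ∨ SzSmall (G ⧸ pCore 2 G) := by
  rcases hC G h.isCIT hs with ⟨-, a | a | a⟩ | ⟨N, hN, rfl, a | a⟩
  · rcases a.pp h with a | a | a <;> tauto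
  · tauto
  · tauto
  · rcases a.pp (h.mono (spec_quotient_subset _)) with a | a <;> tauto
  · have := szSmall_of_pp a (h.mono (spec_quotient_subset _))
    tauto

theorem s2497 (hC : CITThm.{u}) : type_of% @Cfsg.CfsgFrozen.S2497.{u} := by
  intro G _ _ _ hG h
  have hp := pp_spec h
  have l2 : ∀ q, q ∈ ({4, 7, 8, 17} : Finset ℕ) → L2q G q → ∃ (F : Type) (_ : Field F) (_ : Fintype F),
      Fintype.card F ∈ ({4, 7, 8, 17} : Finset ℕ) ∧ Nonempty (G ≃* ProjectiveSpecialLinearGroup (Fin 2) F) :=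
    fun q hq ⟨F, _, _, hF, e⟩ => ⟨F, _, _, hF ▸ hq, e⟩
  rcases cit_simple hC hG hp.isCIT with a | a | a | a
  · exact Or.inr (Or.inl ((a.pp hp).elim (l2 4 (by decide)) (l2 8 (by decide))))
  · exact Or.inr (Or.inr (Or.inr (szSmall_of_pp a hp)))
  · rcases a.pp hp with a | a | a
    · exact Or.inr (Or.inl (l2 7 (by decide) a))
    · exact Or.inl a.alt_six
    · exact Or.inr (Or.inl (l2 17 (by decide) a))
  · exact Or.inr (Or.inr (Or.inl a))

theorem primeFactors_card_quot {G : Type*} [Group G] [Finite G] (h : 2 ∣ Nat.card (G ⧸ pCore 2 G)) :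
    (Nat.card G).primeFactors = (Nat.card (G ⧸ pCore 2 G)).primeFactors := by
  ext r
  simp only [Nat.mem_primeFactors, Nat.card_pos.ne', ne_eq, not_false_eq_true, and_true]
  refine and_congr_right fun hr => ?_
  by_cases h2 : r = 2
  · subst h2
    exact ⟨fun _ => h, fun _ => h.trans (Subgroup.card_quotient_dvd_card _)⟩
  · exact (dvd_card_quot_pCore hr h2).symm

theorem s4087 (hC : CITStruct.{u}) : type_of% @Cfsg.CfsgFrozen.S4087.{u} := by
  intro G _ _ h
  haveI : Fact (Nat.Prime 2) := ⟨Nat.prime_two⟩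
  have hp := pp_spec h
  by_cases hs : Group.IsSolvable G
  · have := hp.card_le_two hs
    exact ⟨by omega, fun _ => by omega⟩
  have three : ∀ {P : Prop}, (Nat.card G).primeFactors.card = 3 →
    (Nat.card G).primeFactors.card ≤ 4 ∧ ((Nat.card G).primeFactors.card = 4 → P) := fun e =>
    ⟨by omega, fun _ => by omega⟩
  rcases pp_struct hC hp hs with a | a | a | a | a | a | a | a
  · exact three (by rw [a.card_seven]; simp [Nat.primeFactors])
  · exact three (by rw [a.card_nine]; simp [Nat.primeFactors])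
  · exact three (by rw [a.card_seventeen]; simp [Nat.primeFactors])
  · exact ⟨by rw [a.card]; simp [Nat.primeFactors], fun _ => Or.inl a⟩
  · exact three (by rw [a.card]; simp [Nat.primeFactors])
  · exact three (by rw [primeFactors_card_quot (by rw [a.card_four]; decide), a.card_four]; simp [Nat.primeFactors])
  · exact three (by rw [primeFactors_card_quot (by rw [a.card_eight]; decide), a.card_eight]; simp [Nat.primeFactors])
  · refine ⟨?_, fun _ => Or.inr ⟨pCore 2 G, inferInstance, pCore_isPGroup 2 G, a⟩⟩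
    rcases a.card with b | b
    · rw [primeFactors_card_quot (by rw [b]; decide), b]; simp [Nat.primeFactors]
    · rw [primeFactors_card_quot (by rw [b]; decide), b]; simp [Nat.primeFactors]

theorem s3396 (hC : CITStruct.{u}) : type_of% @Cfsg.CfsgFrozen.S3396.{u, v} := by
  intro G _ _ F _ _ hF h3 h
  have h' : ∀ n ∈ Spec G, n ≠ 1 → (∃ k : ℕ, n = 2 ^ k) ∨ (n.Prime ∧ n ≠ 5) := by
    rintro _ ⟨g, rfl⟩ hg
    exact h g fun e => hg (by rw [e, orderOf_one])
  have hp : PP (Spec G) := fun n hn h1 => by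
    rcases h' n hn h1 with ⟨k, rfl⟩ | ⟨a, -⟩
    · exact Nat.prime_two.isPrimePow.pow (by rintro rfl; exact h1 rfl)
    · exact a.isPrimePow
  have odd : ∀ n ∈ Spec G, n ≠ 1 → Odd n → n.Prime ∧ n ≠ 5 := fun n hn h1 ho =>
    (h' n hn h1).resolve_left fun ⟨k, hk⟩ => by
      rcases k with _ | k
      · exact h1 hk
      · rw [hk, pow_succ, Nat.odd_iff] at ho; omega
  have h5 : ¬ 5 ∣ Nat.card G := fun e =>
    (odd 5 ((prime_mem_spec_iff Nat.prime_five).2 e) (by omega) (by decide)).2 rfl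
  have h5' : ¬ 5 ∣ Nat.card (G ⧸ pCore 2 G) := fun e => h5 (e.trans (Subgroup.card_quotient_dvd_card _))
  have h9 : 9 ∉ Spec G := fun e => absurd (odd 9 e (by omega) (by decide)).1 (by norm_num)
  rcases pp_struct hC hp (fun hs => by have := hp.card_le_two hs; omega) with a | a | a | a | a | a | a | a
  · obtain ⟨K, _, _, hK, ⟨e⟩⟩ := a
    exact ⟨e.trans (CL.SLn.pslMapEquiv (FiniteField.ringEquivOfCardEq (hK.trans hF.symm)))⟩
  · exact absurd (by rw [a.card_nine]; decide) h5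
  · exact absurd a.nine_mem_seventeen h9
  · exact absurd (by rw [a.card]; decide) h5
  · exact absurd (by rw [a.card]; decide) h5
  · exact absurd (by rw [a.card_four]; decide) h5'
  · exact absurd (spec_quotient_subset _ a.nine_mem_eight) h9
  · rcases a.card with b | b <;> exact absurd (by rw [b]; decide) h5'

/-- Groups with spectrum `{1, 2, 3, 4, 5}`. -/
theorem spec_five (hC : CITStruct.{u}) {G : Type u} [Group G] [Finite G]
    (h : Spec G = {k : ℕ | 1 ≤ k ∧ k ≤ 5}) : IsCIT G ∧ (L2q G 9 ∨ L2q (G ⧸ pCore 2 G) 4) := by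
  have hp : PP (Spec G) := fun n hn h1 => by
    rw [h] at hn
    obtain ⟨a, b⟩ := hn
    interval_cases n
    · exact absurd rfl h1
    · exact Nat.prime_two.isPrimePow
    · exact Nat.prime_three.isPrimePow
    · exact Nat.prime_two.isPrimePow.pow (k := 2) (by omega)
    · exact Nat.prime_five.isPrimePow
  have hd : ∀ p : ℕ, p.Prime → (p ∣ Nat.card G ↔ p ≤ 5) := fun p hp => by
    rw [← prime_mem_spec_iff hp, h]
    exact ⟨fun a => a.2, fun a => ⟨hp.one_le, a⟩⟩
  have h7 : ¬ 7 ∣ Nat.card G := by rw [hd 7 (by norm_num)]; omega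
  have h7' : ¬ 7 ∣ Nat.card (G ⧸ pCore 2 G) := fun e => h7 (e.trans (Subgroup.card_quotient_dvd_card _))
  have hs : ¬ Group.IsSolvable G := fun hs => by
    rcases three_primes_of_isSolvable hs Nat.prime_two Nat.prime_three Nat.prime_five (by omega) (by omega)
      (by omega) ((hd 2 Nat.prime_two).2 (by omega)) ((hd 3 Nat.prime_three).2 (by omega))
      ((hd 5 Nat.prime_five).2 (by omega)) with a | a | a <;>
    · rw [h] at a
      have := a.2
      omega
  refine ⟨hp.isCIT, ?_⟩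
  rcases pp_struct hC hp hs with a | a | a | a | a | a | a | a
  · exact absurd (by rw [a.card_seven]; decide) h7
  · exact Or.inl a
  · have := (hd 17 (by norm_num)).1 (by rw [a.card_seventeen]; decide)
    omega
  · exact absurd (by rw [a.card]; decide) h7
  · obtain ⟨g, hg⟩ := a.exists_lt_orderOf
    have := (h ▸ orderOf_mem_spec g : orderOf g ∈ {k : ℕ | 1 ≤ k ∧ k ≤ 5}).2
    omega
  · exact Or.inr a
  · exact absurd (by rw [a.card_eight]; decide) h7'
  · have h3 := (dvd_card_quot_pCore Nat.prime_three (by omega)).2 ((hd 3 Nat.prime_three).2 (by omega))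
    rcases a.card with b | b <;> exact absurd (b ▸ h3) (by decide)

theorem s3433 (hC : CITStruct.{u}) : type_of% @Cfsg.CfsgFrozen.S3433.{u} := by
  intro G _ _ h
  obtain ⟨hcit, a | a⟩ := spec_five hC h
  · exact Or.inl a.alt_six
  · have hsq : EA (pCore 2 G) := hcit.sq_eq_one_of_isL2Even a.isL2Even
    exact Or.inr ⟨pCore 2 G, inferInstance,
      ⟨⟨⟨fun x y => Subtype.ext (hsq.comm x.2 y.2)⟩⟩, fun x hx => by rw [pow_two, hsq x hx]⟩, a.alt_five⟩

end CL.Cit
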