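/-
Corollaries of the CIT theorems, part 3: the group `2⁴ : SL₂(4)`.
-/
import Cfsg.Agent.Cit.Cor2
import Cfsg.Agent.Grp.Frob2
import Cfsg.Agent.Perm.SpecASL2
import Cfsg.Statements.S3600

set_option autoImplicit false

open Cfsg CL.Perm CL.Grp CL.Even Matrix

namespace CL.Cit

universe u

variable {G : Type*} [Group G]

/-- generators of `2⁴ : A₅` inside an extension of an elementary abelian group `D` -/
structure Conf5 (D : Subgroup G) (a b v : G) : Prop where
  ea : EA D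
  ha : a ∈ 𝒩(D)
  hb : b ∈ 𝒩(D)
  hv : v ∈ D
  aa : a * a = 1
  av : a * v = v * a
  b3 : ∀ d ∈ D, (d * b) ^ 3 = 1
  y5 : ∀ d ∈ D, (d * (b * a)) ^ 5 = 1

theorem EA.card_sup_zpowers_le [Finite G] {D X : Subgroup G} (h : EA D) (hX : X ≤ D) {w : G} (hw : w ∈ D) :
    Nat.card (Subgroup.zpowers w ⊔ X : Subgroup G) ≤ 2 * Nat.card X := by
  refine (Nat.le_of_dvd (Nat.mul_pos Nat.card_pos Nat.card_pos)
    (card_sup_dvd (h.le_norm (Subgroup.zpowers_le.2 hw) hX))).trans (Nat.mul_le_mul_right _ ?_)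
  rw [Nat.card_zpowers]
  exact orderOf_le_of_pow_eq_one (by omega) (by rw [pow_two, h w hw])

theorem Conf5.card_le [Finite G] {D : Subgroup G} {a b v : G} (h : Conf5 D a b v) :
    Nat.card (Subgroup.closure ({a, b, v} : Set G)) ≤ 960 := by
  have ai : a⁻¹ = a := inv_eq_of_mul_eq_one_right h.aa
  have b3 : b ^ 3 = 1 := by simpa using h.b3 1 D.one_mem
  have y5 : (b * a) ^ 5 = 1 := by simpa using h.y5 1 D.one_mem
  set w2 := b * v * b⁻¹ with e2
  set w3 := a * w2 * a⁻¹ with e3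
  set w4 := b * w3 * b⁻¹ with e4
  have m2 : w2 ∈ D := conj_mem h.hb h.hv
  have m3 : w3 ∈ D := conj_mem h.ha m2
  have m4 : w4 ∈ D := conj_mem h.hb m3
  set V := Subgroup.closure ({v, w2, w3, w4} : Set G) with hV
  have v1 : v ∈ V := Subgroup.subset_closure (by simp)
  have v2 : w2 ∈ V := Subgroup.subset_closure (by simp)
  have v3 : w3 ∈ V := Subgroup.subset_closure (by simp)
  have v4 : w4 ∈ V := Subgroup.subset_closure (by simp)
  have cV : Nat.card V ≤ 16 := by
    have e : V = Subgroup.zpowers v ⊔ (Subgroup.zpowers w2 ⊔ (Subgroup.zpowers w3 ⊔ (Subgroup.zpowers w4 ⊔ ⊥))) := by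
      simp only [hV, Subgroup.zpowers_eq_closure, sup_bot_eq, ← Subgroup.closure_union, Set.singleton_union]
    have l4 : Subgroup.zpowers w4 ⊔ ⊥ ≤ D := sup_le (Subgroup.zpowers_le.2 m4) bot_le
    have l3 := sup_le (Subgroup.zpowers_le.2 m3) l4
    have l2 := sup_le (Subgroup.zpowers_le.2 m2) l3
    have c4 := h.ea.card_sup_zpowers_le bot_le m4
    have c3 := h.ea.card_sup_zpowers_le l4 m3
    have c2 := h.ea.card_sup_zpowers_le l3 m2
    have c1 := h.ea.card_sup_zpowers_le l2 h.hv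
    rw [Subgroup.card_bot] at c4
    rw [e]; omega
  have nb : ∀ d ∈ D, b * (b * d * b⁻¹) * b⁻¹ = (d * (b * d * b⁻¹))⁻¹ := fun d hd => by
    refine eq_inv_of_mul_eq_one_right ?_
    have e : (d * b) ^ 3 = d * (b * d * b⁻¹) * (b * (b * d * b⁻¹) * b⁻¹) * b ^ 3 := by
      simp [pow_succ, mul_assoc]
    rw [h.b3 d hd, b3, mul_one] at e
    exact e.symm
  have hbV : b ∈ 𝒩(V) := by
    refine Subgroup.mem_normalizer_fintype fun n hn => ?_
    refine Subgroup.closure_induction (p := fun n _ => b * n * b⁻¹ ∈ V) ?_ (by simp) ?_ ?_ hn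
    · rintro _ (rfl | rfl | rfl | rfl)
      · exact v2
      · rw [nb _ h.hv]; exact V.inv_mem (V.mul_mem v1 v2)
      · exact v4
      · rw [nb _ m3]; exact V.inv_mem (V.mul_mem v3 v4)
    · intro x y _ _ hx hy
      rw [← conj_mul]; exact V.mul_mem hx hy
    · intro x _ hx
      rw [← conj_inv]; exact V.inv_mem hx
  have av : a * v * a⁻¹ = v := by rw [h.av]; group
  have a3 : a * w3 * a⁻¹ = w2 := by
    calc a * w3 * a⁻¹ = (a * a) * w2 * (a * a)⁻¹ := by rw [e3]; group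
      _ = w2 := by rw [h.aa]; group
  have a4 : a * w4 * a⁻¹ ∈ V := by
    have k1 : (b * a) * v * (b * a)⁻¹ = w2 := by
      calc (b * a) * v * (b * a)⁻¹ = b * (a * v * a⁻¹) * b⁻¹ := by group
        _ = w2 := by rw [av]
    have k2 : (b * a) * w2 * (b * a)⁻¹ = w4 := by rw [e4, e3]; group
    have k4 : (b * a)⁻¹ * v * (b * a) ∈ V := by
      have e : (b * a)⁻¹ * v * (b * a) = a * (b * (b * v * b⁻¹) * b⁻¹) * a⁻¹ := by
        calc (b * a)⁻¹ * v * (b * a) = a⁻¹ * (b ^ 3 * b⁻¹ * v * b * (b ^ 3)⁻¹) * a := by rw [b3]; group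
          _ = _ := by rw [ai]; simp only [pow_succ, pow_zero]; group
      rw [e, nb _ h.hv, ← conj_inv, ← conj_mul, av]
      exact V.inv_mem (V.mul_mem v1 v3)
    have k5 := h.y5 v h.hv
    set y := b * a with hy
    have k6 : y * w4 * y⁻¹ = (v * w2 * w4)⁻¹ * (y⁻¹ * v * y)⁻¹ := by
      have e : (v * y) ^ 5 = v * (y * v * y⁻¹) * (y * (y * v * y⁻¹) * y⁻¹) * (y * (y * (y * v * y⁻¹) * y⁻¹) * y⁻¹) *
          (y ^ 5 * (y⁻¹ * v * y) * (y ^ 5)⁻¹) * y ^ 5 := by simp [pow_succ, mul_assoc]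
      rw [k5, y5, k1, k2, mul_one, one_mul, inv_one, mul_one] at e
      calc y * w4 * y⁻¹ = (v * w2 * w4)⁻¹ * (v * w2 * w4 * (y * w4 * y⁻¹) * (y⁻¹ * v * y)) * (y⁻¹ * v * y)⁻¹ := by
            group
        _ = _ := by rw [← e, mul_one]
    have k7 : y * w4 * y⁻¹ ∈ V := k6 ▸ V.mul_mem (V.inv_mem (V.mul_mem (V.mul_mem v1 v2) v4)) (V.inv_mem k4)
    have := conj_mem' hbV k7
    rwa [show b⁻¹ * (y * w4 * y⁻¹) * b = a * w4 * a⁻¹ by rw [hy]; group] at this
  have haV : a ∈ 𝒩(V) := by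
    refine Subgroup.mem_normalizer_fintype fun n hn => ?_
    refine Subgroup.closure_induction (p := fun n _ => a * n * a⁻¹ ∈ V) ?_ (by simp) ?_ ?_ hn
    · rintro _ (rfl | rfl | rfl | rfl)
      · rwa [av]
      · exact v3
      · rwa [a3]
      · exact a4
    · intro x y _ _ hx hy
      rw [← conj_mul]; exact V.mul_mem hx hy
    · intro x _ hx
      rw [← conj_inv]; exact V.inv_mem hx
  set L := Subgroup.closure ({b⁻¹, b * a} : Set G) with hL
  have cL : Nat.card L ≤ 12 * 5 :=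
    (card_closure_le_of_235 (z := 1) (by rw [inv_pow, b3, inv_one]) y5 (mul_one _) (by simp) (by simp)
      (by rw [inv_mul_cancel_left, pow_two, h.aa]) (by omega) (by rw [mul_one, y5])).2
  have hLV : L ≤ 𝒩(V) := (Subgroup.closure_le _).2 (by
    rintro _ (rfl | rfl)
    · exact Subgroup.inv_mem _ hbV
    · exact Subgroup.mul_mem _ hbV haV)
  have l1 : b⁻¹ ∈ L := Subgroup.subset_closure (by simp)
  have l2 : b * a ∈ L := Subgroup.subset_closure (by simp)
  have hle : Subgroup.closure ({a, b, v} : Set G) ≤ L ⊔ V := (Subgroup.closure_le _).2 (by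
    rintro _ (rfl | rfl | rfl)
    · exact Subgroup.mem_sup_left (by simpa using L.mul_mem l1 l2)
    · exact Subgroup.mem_sup_left (by simpa using L.inv_mem l1)
    · exact Subgroup.mem_sup_right v1)
  have c1 := Subgroup.card_le_of_le hle
  have c2 := Nat.le_of_dvd (Nat.mul_pos Nat.card_pos Nat.card_pos) (card_sup_dvd hLV)
  have c3 := Nat.mul_le_mul cL cV
  omega

theorem Conf5.prod {G' : Type*} [Group G'] {D : Subgroup G} {a b v : G} (h : Conf5 D a b v) {D' : Subgroup G'}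
    {a' b' v' : G'} (h' : Conf5 D' a' b' v') : Conf5 (D.prod D') (a, a') (b, b') (v, v') := by
  have nn : ∀ {g : G} {g' : G'}, g ∈ 𝒩(D) → g' ∈ 𝒩(D') → (g, g') ∈ 𝒩(D.prod D') := fun hg hg' =>
    Subgroup.mem_normalizer_iff.2 fun x => and_congr (Subgroup.mem_normalizer_iff.1 hg x.1)
      (Subgroup.mem_normalizer_iff.1 hg' x.2)
  exact ⟨fun x hx => Prod.ext (h.ea _ hx.1) (h'.ea _ hx.2), nn h.ha h'.ha, nn h.hb h'.hb, ⟨h.hv, h'.hv⟩,
    Prod.ext h.aa h'.aa, Prod.ext h.av h'.av, fun x hx => Prod.ext (h.b3 _ hx.1) (h'.b3 _ hx.2),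
    fun x hx => Prod.ext (h.y5 _ hx.1) (h'.y5 _ hx.2)⟩

theorem Conf5.nonempty_equiv [Finite G] {G' : Type*} [Group G'] [Finite G'] {D : Subgroup G} {a b v : G}
    (h : Conf5 D a b v) {D' : Subgroup G'} {a' b' v' : G'} (h' : Conf5 D' a' b' v')
    (g : Subgroup.closure ({a, b, v} : Set G) = ⊤) (g' : Subgroup.closure ({a', b', v'} : Set G') = ⊤)
    (c : 960 ≤ Nat.card G) (c' : 960 ≤ Nat.card G') : Nonempty (G ≃* G') := by
  have hc := (h.prod h').card_le
  set K := Subgroup.closure ({(a, a'), (b, b'), (v, v')} : Set (G × G')) with hK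
  have s1 : Function.Surjective ((MonoidHom.fst G G').comp K.subtype) := by
    rw [← MonoidHom.range_eq_top, MonoidHom.range_comp, Subgroup.range_subtype, hK, MonoidHom.map_closure, ← g]
    simp [Set.image_insert_eq]
  have s2 : Function.Surjective ((MonoidHom.snd G G').comp K.subtype) := by
    rw [← MonoidHom.range_eq_top, MonoidHom.range_comp, Subgroup.range_subtype, hK, MonoidHom.map_closure, ← g']
    simp [Set.image_insert_eq]
  have c1 := Nat.card_le_card_of_surjective _ s1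
  have c2 := Nat.card_le_card_of_surjective _ s2
  exact ⟨(MulEquiv.ofBijective _ ((Nat.bijective_iff_surjective_and_card _).2 ⟨s1, by omega⟩)).symm.trans
    (MulEquiv.ofBijective _ ((Nat.bijective_iff_surjective_and_card _).2 ⟨s2, by omega⟩))⟩

theorem exists_gens_alt5 : ∃ A B C : alternatingGroup (Fin 5), A * A = 1 ∧ B ^ 3 = 1 ∧ B ≠ 1 ∧ (B * A) ^ 5 = 1 ∧
    B * A ≠ 1 ∧ C ^ 3 = 1 ∧ C ≠ 1 ∧ C * (A * C * A⁻¹) = 1 ∧ (A * (B⁻¹ * A * B)) ^ 5 = 1 ∧ A * (B⁻¹ * A * B) ≠ 1 ∧
    Subgroup.closure ({A, B} : Set (alternatingGroup (Fin 5))) = ⊤ := by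
  let A : alternatingGroup (Fin 5) := ⟨Equiv.swap 1 2 * Equiv.swap 3 4,
    Equiv.Perm.mem_alternatingGroup.mpr (by decide)⟩
  let B : alternatingGroup (Fin 5) := ⟨Equiv.swap 0 3 * Equiv.swap 0 1,
    Equiv.Perm.mem_alternatingGroup.mpr (by decide)⟩
  let C : alternatingGroup (Fin 5) := ⟨Equiv.swap 0 1 * Equiv.swap 1 2,
    Equiv.Perm.mem_alternatingGroup.mpr (by decide)⟩
  have h1 : B ^ 3 = 1 := by decide
  have h2 : (B * A) ^ 5 = 1 := by decide
  have h3 : A ^ 2 = 1 := by decide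
  refine ⟨A, B, C, by decide, h1, by decide, h2, by decide, by decide, by decide, by decide, by decide +kernel, by decide, ?_⟩
  set K := Subgroup.closure ({A, B} : Set (alternatingGroup (Fin 5)))
  have hxK : A ∈ K := Subgroup.subset_closure (by simp)
  have hyK : B ∈ K := Subgroup.subset_closure (by simp)
  have : Fact (Nat.Prime 5) := ⟨by norm_num⟩
  have d1 : 3 ∣ Nat.card K := orderOf_eq_prime h1 (by decide) ▸ K.orderOf_dvd_natCard hyK
  have d2 : 5 ∣ Nat.card K := by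
    have := K.orderOf_dvd_natCard (mul_mem hyK hxK)
    rwa [orderOf_eq_prime h2 (by decide)] at this
  have d3 : 2 ∣ Nat.card K := orderOf_eq_prime h3 (by decide) ▸ K.orderOf_dvd_natCard hxK
  have h5 := K.card_mul_index
  rw [card_alt_five] at h5
  have h6 : K.index = 1 ∨ K.index = 2 := by
    obtain ⟨c, hc⟩ : 30 ∣ Nat.card K := by omega
    rw [hc, mul_assoc] at h5
    have : K.index ∣ 2 := Dvd.intro_left c (by omega)
    exact (Nat.dvd_prime Nat.prime_two).mp this
  rcases h6 with h | h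
  · exact Subgroup.index_eq_one.mp h
  · have := alternatingGroup.isSimpleGroup (α := Fin 5) (by simp)
    rcases (Subgroup.normal_of_index_eq_two h).eq_bot_or_eq_top with e | e
    · rw [e, Subgroup.card_bot] at d1
      omega
    · exact e

theorem odd_orderOf_of_fifth {Q : Type*} [Group Q] {X : Q} (h : X ^ 5 = 1) : Odd (orderOf X) :=
  Odd.of_dvd_nat (by decide) (orderOf_dvd_of_pow_eq_one h)

theorem IsCIT.card_ge [Finite G] (h : IsCIT G) (π : G →* alternatingGroup (Fin 5)) (hπ : Function.Surjective π)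
    (hk : IsPGroup 2 π.ker) (h1 : π.ker ≠ ⊥) : 960 ≤ Nat.card G := by
  haveI : Fact (Nat.Prime 2) := ⟨Nat.prime_two⟩
  haveI : Fact (Nat.Prime 5) := ⟨Nat.prime_five⟩
  have hc := π.ker.card_mul_index
  rw [Subgroup.index_ker, MonoidHom.range_eq_top.2 hπ, Subgroup.card_top, card_alt_five] at hc
  obtain ⟨y, hy⟩ := exists_prime_orderOf_dvd_card' (G := G) 5 (by omega)
  have hd := card_dvd_card_sub_one_of_fpf (A := Subgroup.zpowers y) (K := π.ker)
    Subgroup.le_normalizer_of_normal fun x hx hx1 => by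
      rw [eq_bot_iff]
      rintro d ⟨hd, hdx⟩
      refine h.fpf (x := x) (fun h2 => hx1 (h2.eq_one_of_odd ?_)) (two_of_mem hk hd)
        (Subgroup.mem_centralizer_singleton_iff.1 hdx)
      exact Odd.of_dvd_nat (by decide : Odd 5) (hy ▸ orderOf_dvd_of_mem_zpowers hx)
  rw [Nat.card_zpowers, hy] at hd
  obtain ⟨k, hk2⟩ := IsPGroup.iff_card.1 hk
  have h2 := (Subgroup.one_lt_card_iff_ne_bot _).2 h1
  have : 16 ≤ Nat.card π.ker := by
    rw [hk2] at hd h2 ⊢
    by_contra hlt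
    have : k < 4 := by
      by_contra h4
      exact hlt (Nat.pow_le_pow_right (n := 2) (by omega) (not_lt.1 h4))
    interval_cases k <;> omega
  omega

theorem IsCIT.exists_conf5 [Finite G] (h : IsCIT G) (π : G →* alternatingGroup (Fin 5))
    (hπ : Function.Surjective π) (hk : EA π.ker) (h1 : π.ker ≠ ⊥) :
    ∃ a b v : G, Conf5 π.ker a b v ∧ 960 ≤ Nat.card (Subgroup.closure ({a, b, v} : Set G)) ∧
      4 ∈ Spec (Subgroup.closure ({a, b, v} : Set G)) := by
  haveI : Fact (Nat.Prime 2) := ⟨Nat.prime_two⟩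
  obtain ⟨A, B, C, AA, B3, B1, Y5, Y1, C3, C1, hC, Z5, Z1, hgen⟩ := exists_gens_alt5
  obtain ⟨a, rfl, aa⟩ := h.exists_lift_inv π hπ hk.isPGroup (odd_orderOf_of_cube C3) C1 AA hC
  obtain ⟨b, rfl⟩ := hπ B
  have hn : ∀ g : G, g ∈ 𝒩(π.ker) := fun g => Subgroup.le_normalizer_of_normal (Subgroup.mem_top g)
  obtain ⟨v, hv, hv1, av⟩ : ∃ v ∈ π.ker, v ≠ 1 ∧ a * v = v * a := by
    obtain ⟨⟨d, hd⟩, hd1⟩ := Subgroup.ne_bot_iff_exists_ne_one.1 h1
    by_cases e : a * d = d * a
    · exact ⟨d, hd, fun e => hd1 (Subtype.ext e), e⟩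
    · obtain ⟨m1, m2⟩ := mem_fixd.1 (hk.comm_mem_fixd (hn a) aa hd)
      refine ⟨_, m1, fun e1 => e ?_, m2.symm⟩
      rw [mul_eq_one_iff_eq_inv, hk.inv hd, mul_inv_eq_iff_eq_mul] at e1
      exact e1
  have hmul : ∀ d ∈ π.ker, ∀ g : G, π (d * g) = π g := fun d hd g => by
    rw [map_mul, MonoidHom.mem_ker.1 hd, one_mul]
  have conf : Conf5 π.ker a b v := by
    refine ⟨hk, hn a, hn b, hv, aa, av, fun d hd => ?_, fun d hd => ?_⟩
    · exact h.pow_eq_one_of_map π hk.isPGroup (by rw [hmul d hd]; exact odd_orderOf_of_cube B3)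
        (by rwa [hmul d hd]) (by rwa [hmul d hd])
    · exact h.pow_eq_one_of_map π hk.isPGroup (by rw [hmul d hd, map_mul]; exact odd_orderOf_of_fifth Y5)
        (by rwa [hmul d hd, map_mul]) (by rwa [hmul d hd, map_mul])
  set K := Subgroup.closure ({a, b, v} : Set G) with hK
  have ka : a ∈ K := Subgroup.subset_closure (by simp)
  have kb : b ∈ K := Subgroup.subset_closure (by simp)
  have kv : v ∈ K := Subgroup.subset_closure (by simp)
  refine ⟨a, b, v, conf, (h.subgroup K).card_ge (π.comp K.subtype) ?_ ?_ ?_, ?_⟩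
  · rw [← MonoidHom.range_eq_top, MonoidHom.range_comp, Subgroup.range_subtype, eq_top_iff, ← hgen,
      Subgroup.closure_le]
    rintro _ (rfl | rfl)
    · exact ⟨a, ka, rfl⟩
    · exact ⟨b, kb, rfl⟩
  · exact EA.isPGroup fun x hx => Subtype.ext (hk _ hx)
  · intro e
    have m : (⟨v, kv⟩ : K) ∈ (π.comp K.subtype).ker := hv
    rw [e, Subgroup.mem_bot] at m
    exact hv1 (congrArg Subtype.val m)
  · have mu : b * v * b⁻¹ ∈ π.ker := conj_mem (hn b) hv
    set w := b * v * b⁻¹ with hw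
    have e : (a * w) ^ 2 = a * w * a⁻¹ * w := by rw [inv_eq_of_mul_eq_one_right aa, pow_two]; group
    have m : (a * w) ^ 2 ∈ π.ker := e ▸ π.ker.mul_mem (conj_mem (hn a) mu) mu
    refine ⟨⟨a * w, K.mul_mem ka (K.mul_mem (K.mul_mem kb kv) (K.inv_mem kb))⟩, ?_⟩
    rw [Subgroup.orderOf_mk]
    refine orderOf_eq_prime_pow (p := 2) (n := 1) (fun e1 => ?_) ?_
    · rw [pow_one, e, mul_eq_one_iff_eq_inv, hk.inv mu] at e1
      refine IsCIT.not_two_of_map π (x := a * (b⁻¹ * a * b)) (by simpa using odd_orderOf_of_fifth Z5)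
        (by simpa using Z1) (h.two_of_comm' (two_of_sq (hk v hv)) hv1 ?_)
      calc a * (b⁻¹ * a * b) * v = a * (b⁻¹ * (a * w * a⁻¹) * a * b) := by rw [hw]; group
        _ = (a * v) * (b⁻¹ * a * b) := by rw [e1, hw]; group
        _ = _ := by rw [av]; group
    · rw [show 2 ^ (1 + 1) = 2 + 2 by norm_num, pow_add, hk _ m]

section Affine
variable {F : Type*} [Field F]

/-- the affine group `F² ⋊ SL₂(F)` inside `SL₃(F)` -/
def affSL3 : Aff (slAct (Fin 2) F) →* SpecialLinearGroup (Fin 3) F where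
  toFun x := ⟨!![x.g 0 0, x.g 0 1, x.v 0; x.g 1 0, x.g 1 1, x.v 1; 0, 0, 1], by
    have := x.g.det_coe
    rw [det_fin_two] at this
    simp [det_fin_three, this]⟩
  map_one' := by
    ext i j
    fin_cases i <;> fin_cases j <;> rfl
  map_mul' x y := by
    apply Subtype.ext
    change _ = (!![x.g 0 0, x.g 0 1, x.v 0; x.g 1 0, x.g 1 1, x.v 1; 0, 0, 1] *
      !![y.g 0 0, y.g 0 1, y.v 0; y.g 1 0, y.g 1 1, y.v 1; 0, 0, 1] : Matrix (Fin 3) (Fin 3) F)
    rw [mul_fin_three]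
    simp [slAct_apply, Matrix.mul_apply, Fin.sum_univ_two, add_comm]

theorem affSL3_apply (x : Aff (slAct (Fin 2) F)) : (affSL3 x : Matrix (Fin 3) (Fin 3) F) =
    !![x.g 0 0, x.g 0 1, x.v 0; x.g 1 0, x.g 1 1, x.v 1; 0, 0, 1] := rfl

theorem affSL3_injective : Function.Injective (affSL3 (F := F)) := by
  intro x y h
  have e : ∀ i j, (affSL3 x : Matrix (Fin 3) (Fin 3) F) i j = (affSL3 y : Matrix (Fin 3) (Fin 3) F) i j :=
    fun i j => by rw [h]
  ext i
  · fin_cases i
    · exact e 0 2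
    · exact e 1 2
  · rename_i j
    fin_cases i <;> fin_cases j
    · exact e 0 0
    · exact e 0 1
    · exact e 1 0
    · exact e 1 1

theorem range_affSL3 : (affSL3 (F := F)).range = Subgroup.closure {M : SpecialLinearGroup (Fin 3) F |
    (M : Matrix (Fin 3) (Fin 3) F) 2 0 = 0 ∧ (M : Matrix (Fin 3) (Fin 3) F) 2 1 = 0 ∧
      (M : Matrix (Fin 3) (Fin 3) F) 2 2 = 1} := by
  refine le_antisymm ?_ ((Subgroup.closure_le _).2 ?_)
  · rintro _ ⟨x, rfl⟩
    exact Subgroup.subset_closure ⟨rfl, rfl, rfl⟩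
  · rintro M ⟨h0, h1, h2⟩
    have hd := M.det_coe
    rw [det_fin_three, h0, h1, h2] at hd
    refine ⟨⟨![M 0 2, M 1 2], ⟨!![M 0 0, M 0 1; M 1 0, M 1 1], ?_⟩⟩, ?_⟩
    · rw [det_fin_two_of]; linear_combination hd
    · ext i j
      fin_cases i <;> fin_cases j <;> first | rfl | exact h0.symm | exact h1.symm | exact h2.symm

end Affine

theorem s3600 (hC : CITStruct.{u}) : type_of% @Cfsg.CfsgFrozen.S3600.{u} := by
  rintro G _ _ ⟨h, hcrit⟩
  have hset : ({1, 2, 3, 4, 5} : Set ℕ) = {k : ℕ | 1 ≤ k ∧ k ≤ 5} := by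
    ext k
    simp only [Set.mem_insert_iff, Set.mem_singleton_iff, Set.mem_ofPred_eq]
    omega
  obtain ⟨hcit, a | a⟩ := spec_five hC (h.trans hset)
  · exact Or.inl a.alt_six
  right
  have hsq : EA (pCore 2 G) := hcit.sq_eq_one_of_isL2Even a.isL2Even
  obtain ⟨e⟩ := a.alt_five
  let π : G →* alternatingGroup (Fin 5) := e.toMonoidHom.comp (QuotientGroup.mk' _)
  have hπ : Function.Surjective π := e.surjective.comp (QuotientGroup.mk'_surjective _)
  have hker : π.ker = pCore 2 G := by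
    ext g
    simp [π]
  have h1 : π.ker ≠ ⊥ := fun e1 => by
    have h4 : 4 ∈ Spec G := by rw [show Spec G = _ from h]; simp
    have := spec_subset_of_injective π ((MonoidHom.ker_eq_bot_iff π).1 e1) h4
    rw [spec_alt5] at this
    simp at this
  obtain ⟨x, y, v, conf, c1, c4⟩ := hcit.exists_conf5 π hπ (hker ▸ hsq) h1
  have c2 := conf.card_le
  have gen : Subgroup.closure ({x, y, v} : Set G) = ⊤ := by
    by_contra hne
    refine hcrit _ ⊥ (Or.inl hne) ((spec_congr QuotientGroup.quotientBot).trans (Set.Subset.antisymm ?_ ?_))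
    · exact (spec_subgroup_subset _).trans h.subset
    · have hc : Nat.card (Subgroup.closure ({x, y, v} : Set G)) = 960 := by omega
      rintro _ (rfl | rfl | rfl | rfl | rfl)
      · exact one_mem_spec
      · exact (prime_mem_spec_iff Nat.prime_two).2 (by rw [hc]; decide)
      · exact (prime_mem_spec_iff Nat.prime_three).2 (by rw [hc]; decide)
      · exact c4
      · exact (prime_mem_spec_iff Nat.prime_five).2 (by rw [hc]; decide)
  rw [gen, Subgroup.card_top] at c1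
  haveI : Fact (Nat.Prime 2) := ⟨Nat.prime_two⟩
  let F := GaloisField 2 2
  letI : Fintype F := Fintype.ofFinite F
  have hF : Fintype.card F = 4 := by
    rw [← Nat.card_eq_fintype_card, GaloisField.card 2 2 (by omega)]; norm_num
  refine ⟨F, inferInstance, inferInstance, hF, ?_⟩
  obtain ⟨e'⟩ := CL.Cls.nonempty_PSL2_four hF
  let e2 : SpecialLinearGroup (Fin 2) F ≃* alternatingGroup (Fin 5) := psl2EquivSL2.symm.trans e'
  let π' : Aff (slAct (Fin 2) F) →* alternatingGroup (Fin 5) := e2.toMonoidHom.comp (Aff.proj _)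
  have hker' : π'.ker = (Aff.proj (slAct (Fin 2) F)).ker := by
    ext g
    simp [π', MonoidHom.mem_ker]
  have hcit' : IsCIT (Aff (slAct (Fin 2) F)) := isCIT_iff_spec.2 fun s hs hs2 hm => by
    rw [spec_ASL2, hF] at hm
    have := hs.two_le
    rcases hm with hm | hm | hm
    · have := Nat.le_of_dvd (by omega) hm
      omega
    · have := Nat.le_of_dvd (by omega) hm
      omega
    · have := Nat.le_of_dvd (by omega) hm
      omega
  obtain ⟨x', y', v', conf', c1', -⟩ := hcit'.exists_conf5 π' (e2.surjective.comp Aff.proj_surjective)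
    (by
      rw [hker', ← Aff.range_inl]
      rintro _ ⟨w, rfl⟩
      rw [← map_mul, ← map_one (Aff.inl _)]
      congr 1
      have := char_smul_vec 2 (F := F) w.toAdd
      rw [two_smul] at this
      exact this) (hker' ▸ Aff.ker_proj_ne_bot)
  have cA : Nat.card (Aff (slAct (Fin 2) F)) = 960 := by
    rw [Aff.card_eq, Nat.card_congr e2.toEquiv, card_alt_five, Nat.card_fun, Nat.card_eq_fintype_card (α := F), hF]
    simp
  obtain ⟨e3⟩ := conf.nonempty_equiv conf' gen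
    (Subgroup.eq_top_of_le_card _ (by omega)) c1 cA.ge
  exact ⟨e3.trans ((MonoidHom.ofInjective affSL3_injective).trans (MulEquiv.subgroupCongr range_affSL3))⟩

end CL.Cit
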