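/-
Groups with a 2-central involution whose centraliser is generalised dihedral over a TI-subgroup:
`PSL₂(q)` and `PGL₂(q)`, `q` odd.
-/
import Cfsg.Agent.Cit.Ext2
import Cfsg.Agent.Fus.SubGrp
import Cfsg.Agent.Transfer.Control
import Cfsg.Agent.Grp.HallConverse

set_option autoImplicit false

open Cfsg CL.Odd CL.Grp CL.Inv.SE
open scoped Pointwise

namespace CL.Cit

universe u

/-- no nontrivial abelian normal subgroup -/
def NoAb (G : Type*) [Group G] : Prop := ∀ A : Subgroup G, A.Normal → IsMulCommutative A → A = ⊥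

section NoAb
variable {G : Type u} [Group G] [Finite G]

theorem NoAb.eq_bot (h : NoAb G) {N : Subgroup G} (hn : N.Normal) (hs : Group.IsSolvable N) : N = ⊥ := by
  by_contra h1
  obtain ⟨A, p, -, hA, -, he⟩ := exists_isMinNormal_isElementaryAbelian_le N h1 hs
  exact hA.ne_bot (h A hA.normal he.1)

theorem NoAb.not_isSolvable [Nontrivial G] (h : NoAb G) : ¬ Group.IsSolvable G := fun _ =>
  top_ne_bot (h.eq_bot (N := ⊤) inferInstance inferInstance)

omit [Finite G] in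
theorem NoAb.center (h : NoAb G) : Subgroup.center G = ⊥ := h _ inferInstance inferInstance

theorem NoAb.exists_conj (h : NoAb G) {z : G} (hz : orderOf z = 2) :
    ∃ g : G, g * z * g⁻¹ * z = z * (g * z * g⁻¹) ∧ g * z * g⁻¹ ≠ z := by
  by_contra hh
  push Not at hh
  obtain ⟨A, h1, h2, h3⟩ := exists_abelian_normal_of_isolated ⟨hz, fun g hg => hh g hg.symm⟩
  exact h2 (h A h1 h3)

theorem NoAb.not_dvd [Nontrivial G] (h : NoAb G) : ¬ Nat.card G ∣ 24 := fun hd =>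
  h.not_isSolvable (isSolvable_of_forall_prime_eq_or Nat.prime_two Nat.prime_three G fun r hr h1 => by
    have h2 : r ∣ 2 ^ 3 * 3 := h1.trans hd
    rcases hr.dvd_mul.1 h2 with h3 | h3
    · exact Or.inl ((Nat.prime_dvd_prime_iff_eq hr Nat.prime_two).1 (hr.dvd_of_dvd_pow h3))
    · exact Or.inr ((Nat.prime_dvd_prime_iff_eq hr Nat.prime_three).1 h3))

end NoAb

variable {G : Type u} [Group G]

/-- An involution is conjugate into every subgroup of odd index. -/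
theorem exists_conj_mem_of_odd_index [Finite G] {H : Subgroup G} (ho : Odd H.index) {t : G} (ht : t * t = 1) :
    ∃ g : G, g * t * g⁻¹ ∈ H := by
  obtain ⟨x, hx⟩ := exists_fixed_of_odd (Ω := G ⧸ H) ht ho
  obtain ⟨g, rfl⟩ := QuotientGroup.mk_surjective x
  exact ⟨g⁻¹, by simpa using (smul_mk_eq_iff H t g).1 hx⟩

/-- `C(z) = X⟨u⟩` has odd index, `u` inverts the abelian TI-subgroup `X`. -/
structure DihHyp (z u : G) (X : Subgroup G) : Prop where
  hz : orderOf z = 2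
  zX : z ∈ X
  comm : ∀ a ∈ X, ∀ b ∈ X, a * b = b * a
  uX : u ∉ X
  uu : u * u = 1
  inv : ∀ x ∈ X, u * x * u⁻¹ = x⁻¹
  mem : ∀ h : G, h * z = z * h → h ∈ X ∨ h * u ∈ X
  ti : ∀ x ∈ X, x ≠ 1 → ∀ g : G, g * x * g⁻¹ ∈ X → g * z = z * g
  odd : Odd (C1[z]).index

namespace DihHyp

variable {z u : G} {X : Subgroup G} (h : DihHyp z u X)
include h

theorem zz : z * z = 1 := mul_self_of_inv h.hz

theorem inv' {v : G} (hv : v * u ∈ X) {x : G} (hx : x ∈ X) : v * x * v⁻¹ = x⁻¹ := by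
  calc v * x * v⁻¹ = v * u * (u * x * u⁻¹) * (v * u)⁻¹ := by
        rw [show v * u * (u * x * u⁻¹) * (v * u)⁻¹ = v * (u * u) * x * (u * u)⁻¹ * v⁻¹ by group, h.uu]; group
    _ = x⁻¹ := by rw [h.inv x hx, h.comm _ hv _ (X.inv_mem hx)]; group

theorem mul_mem {v w : G} (hv : v * u ∈ X) (hw : w * u ∈ X) : v * w ∈ X := by
  have : v * w = v * u * (u * (w * u) * u⁻¹) := by
    rw [show v * u * (u * (w * u) * u⁻¹) = v * (u * u) * w by group, h.uu]; group
  rw [this, h.inv _ hw]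
  exact X.mul_mem hv (X.inv_mem hw)

theorem notMem {v : G} (hv : v * u ∈ X) : v ∉ X := fun hv' => h.uX ((X.mul_mem_cancel_left hv').1 hv)

theorem sq {v : G} (hv : v * u ∈ X) : v * v = 1 := by
  have := h.inv _ hv
  calc v * v = v * u * (u * (v * u) * u⁻¹) := by
        rw [show v * u * (u * (v * u) * u⁻¹) = v * (u * u) * v by group, h.uu]; group
    _ = 1 := by rw [this, mul_inv_cancel]

theorem replace {v : G} (hv : v * u ∈ X) : DihHyp z v X :=
  ⟨h.hz, h.zX, h.comm, h.notMem hv, h.sq hv, fun _ hx => h.inv' hv hx,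
    fun g hg => (h.mem g hg).imp_right fun hg' => h.mul_mem hg' hv, h.ti, h.odd⟩

theorem uz : u * z = z * u := by
  have := h.inv z h.zX
  rwa [inv_eq_of_inv h.hz, mul_inv_eq_iff_eq_mul] at this

theorem cent_eq : C1[z] = X ⊔ Subgroup.zpowers u := by
  refine le_antisymm (fun g hg => ?_) (sup_le (fun x hx => mem_c1.2 (h.comm x hx z h.zX))
    (Subgroup.zpowers_le.2 (mem_c1.2 h.uz)))
  rcases h.mem g (mem_c1.1 hg) with h1 | h1
  · exact Subgroup.mem_sup_left h1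
  · rw [show g = g * u * u⁻¹ by group]
    exact Subgroup.mul_mem _ (Subgroup.mem_sup_left h1)
      (Subgroup.inv_mem _ (Subgroup.mem_sup_right (Subgroup.mem_zpowers u)))

variable [Finite G]

theorem exists_conj (hA : NoAb G) : ∃ g : G, g * z * g⁻¹ * u ∈ X ∧ g * z ≠ z * g := by
  obtain ⟨g, h1, h2⟩ := hA.exists_conj h.hz
  have h3 : g * z ≠ z * g := fun e => h2 (by rw [e, mul_inv_cancel_right])
  exact ⟨g, (h.mem _ h1).resolve_left fun h4 => h3 (h.ti z h.zX (ne_one_of_inv h.hz) g h4), h3⟩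

theorem inv_eq (hA : NoAb G) {w : G} (hw : w ∈ X) (hww : w * w = 1) : w = 1 ∨ w = z := by
  obtain ⟨g, h1, h2⟩ := h.exists_conj hA
  have h3 : ∀ x ∈ X, x ≠ 1 → g⁻¹ * x * g ∉ X := fun x hx hx1 hg => h2 (by
    have := h.ti x hx hx1 g⁻¹ (by simpa using hg)
    calc g * z = g * (z * g⁻¹) * g := by group
      _ = z * g := by rw [← this]; group)
  have h4 : ∀ x ∈ X, x ≠ 1 → x * x = 1 → g⁻¹ * x * g * u ∈ X := by
    intro x hx hx1 hxx
    refine (h.mem _ ?_).resolve_left (h3 x hx hx1)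
    have := h.inv' h1 hx
    rw [inv_eq_of_mul_eq_one_right hxx, mul_inv_eq_iff_eq_mul] at this
    calc g⁻¹ * x * g * z = g⁻¹ * (x * (g * z * g⁻¹)) * g := by group
      _ = _ := by rw [← this]; group
  by_contra hh
  push Not at hh
  have h5 := h.mul_mem (h4 w hw hh.1 hww) (h4 z h.zX (ne_one_of_inv h.hz) h.zz)
  refine h3 (w * z) (X.mul_mem hw h.zX) (fun e => hh.2 ?_) (by simpa [mul_assoc] using h5)
  rw [eq_inv_of_mul_eq_one_left e, inv_eq_of_inv h.hz]

omit [Finite G] in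
/-- the squares of `X` -/
def sqHom : X →* G where
  toFun c := c * c
  map_one' := by simp
  map_mul' a b := by
    simp only [Subgroup.coe_mul]
    calc (a : G) * b * (a * b) = a * (b * a) * b := by group
      _ = _ := by rw [h.comm _ b.2 _ a.2]; group

omit [Finite G] in
theorem mem_sq {g : G} : g ∈ h.sqHom.range ↔ ∃ c ∈ X, c * c = g :=
  ⟨fun ⟨c, e⟩ => ⟨c, c.2, e⟩, fun ⟨c, hc, e⟩ => ⟨⟨c, hc⟩, e⟩⟩

omit [Finite G] in
theorem sq_le : h.sqHom.range ≤ X := fun _ ⟨c, e⟩ => e ▸ X.mul_mem c.2 c.2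

theorem card_sq (hA : NoAb G) : Nat.card X = 2 * Nat.card h.sqHom.range := by
  have h1 : h.sqHom.ker = Subgroup.zpowers ⟨z, h.zX⟩ := by
    refine le_antisymm (fun c hc => ?_) (Subgroup.zpowers_le.2 h.zz)
    rcases h.inv_eq hA c.2 hc with e | e
    · rw [show c = 1 from Subtype.ext e]; exact Subgroup.one_mem _
    · rw [show c = ⟨z, h.zX⟩ from Subtype.ext e]; exact Subgroup.mem_zpowers _
  rw [← h.sqHom.ker.card_mul_index, Subgroup.index_ker, h1, Nat.card_zpowers, ← Subgroup.orderOf_coe, h.hz]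

omit [Finite G] in
theorem conj_of_sq {v : G} (hv : v * u ∈ h.sqHom.range) : IsConj u v := by
  obtain ⟨c, hc, e⟩ := h.mem_sq.1 hv
  refine isConj_iff.2 ⟨c, ?_⟩
  calc c * u * c⁻¹ = c * (u * c⁻¹ * u⁻¹) * u := by group
    _ = c * c * u := by rw [h.inv _ (X.inv_mem hc), inv_inv]
    _ = v := by rw [e, mul_assoc, h.uu, mul_one]

theorem relIndex_sq (hA : NoAb G) : h.sqHom.range.relIndex X = 2 := by
  have := card_mul_relIndex h.sq_le
  rw [h.card_sq hA, mul_comm 2] at this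
  exact Nat.eq_of_mul_eq_mul_left Nat.card_pos this

theorem exists_index_two (hA : NoAb G) (hu : IsConj z u) {t : G} (ht : orderOf t = 2) (hzt : ¬ IsConj z t) :
    ∃ N : Subgroup G, N.Normal ∧ N.index = 2 ∧ t ∉ N := by
  haveI : Fact (Nat.Prime 2) := ⟨Nat.prime_two⟩
  have hn : ∀ Y ≤ X, u ∈ N[Y] := fun Y hY => mem_norm_of_cj_le fun y' hy' => by
    obtain ⟨y, hy, rfl⟩ := mem_cj_iff_exists.1 hy'
    rw [h.inv y (hY hy)]; exact Y.inv_mem hy
  have hu2 : u ^ 2 = 1 := by rw [pow_two, h.uu]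
  refine CL.Transfer.thompson_transfer C1[z] (h.sqHom.range ⊔ Subgroup.zpowers u) h.odd ?_ t
    (ht ▸ pow_orderOf_eq_one t) fun g hg => hzt ?_
  · have hle : h.sqHom.range ⊔ Subgroup.zpowers u ≤ C1[z] := h.cent_eq ▸ sup_le_sup_right h.sq_le _
    have h1 := card_mul_relIndex hle
    rw [h.cent_eq, CL.Fus.card_sup_zpowers_of_normalizer (p := 2) (hn X le_rfl) h.uX (hu2 ▸ X.one_mem),
      CL.Fus.card_sup_zpowers_of_normalizer (p := 2) (hn _ h.sq_le) (fun e => h.uX (h.sq_le e))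
        (hu2 ▸ Subgroup.one_mem _), h.card_sq hA, mul_comm 2 (2 * _)] at h1
    rw [h.cent_eq]
    exact Nat.eq_of_mul_eq_mul_left (by have := Nat.card_pos (α := h.sqHom.range); omega) h1
  · refine IsConj.trans ?_ (isConj_iff.2 ⟨g, rfl⟩).symm
    obtain ⟨a, ha, b, hb, e⟩ := (mem_sup_norm (Subgroup.zpowers_le.2 (hn _ h.sq_le))).1 hg
    have hb' : b = 1 ∨ b = u := by
      obtain ⟨k, rfl⟩ := Subgroup.mem_zpowers_iff.1 hb
      rcases Int.even_or_odd' k with ⟨j, rfl | rfl⟩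
      · left; rw [zpow_mul, zpow_two, h.uu, one_zpow]
      · right; rw [zpow_add, zpow_mul, zpow_two, h.uu, one_zpow, one_mul, zpow_one]
    have h2 := inv_conj ht g
    rcases hb' with rfl | rfl
    · rw [mul_one] at e
      rcases h.inv_eq hA (h.sq_le (e ▸ ha)) (mul_self_of_inv h2) with e' | e'
      · exact absurd e' (ne_one_of_inv h2)
      · rw [e']
    · exact hu.trans (h.conj_of_sq (by rw [e, mul_assoc, h.uu, mul_one]; exact ha))

theorem concl (hA : NoAb G)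
    (hv : ∀ g v : G, orderOf g = 2 → v ≠ 1 → Odd (orderOf v) → g * v = v * g →
      ∀ c : G, c * v = v * c → c * g = g * c)
    (hj : ∀ j : G, orderOf j = 2 → ∃ Y : Subgroup G, j ∈ Y ∧ (∀ a ∈ Y, ∀ b ∈ Y, a * b = b * a) ∧
      ∀ h : G, h * j = j * h → h ∈ Y ∨ h * h = 1) :
    ∃ (F : Type) (_ : Field F) (_ : Fintype F), 3 < Fintype.card F ∧ Odd (Fintype.card F) ∧
      (Nonempty (G ≃* Matrix.ProjectiveSpecialLinearGroup (Fin 2) F) ∨
        Nonempty (G ≃* Matrix.ProjGenLinGroup (Fin 2) F)) := by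
  haveI : Nontrivial G := ⟨z, 1, ne_one_of_inv h.hz⟩
  obtain ⟨g₀, hg₀, -⟩ := h.exists_conj hA
  replace h := h.replace hg₀
  have hu : IsConj z (g₀ * z * g₀⁻¹) := isConj_iff.2 ⟨g₀, rfl⟩
  clear hg₀
  generalize g₀ * z * g₀⁻¹ = u at h hu
  have three : ∀ {q : ℕ}, Odd q → 1 < q → Nat.card G ∣ q * (q ^ 2 - 1) → 3 < q := by
    intro q ho h1 hd
    by_contra h3
    obtain rfl : q = 3 := by obtain ⟨c, rfl⟩ := ho; omega
    exact hA.not_dvd hd
  by_cases hall : ∀ t : G, orderOf t = 2 → IsConj z t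
  · have hH : CL.Inv.BSW.Hyp z u X := ⟨h.hz, h.comm, h.zX, h.uu, h.uX, h.mem,
      fun x hx hxx => h.inv_eq hA hx hxx, h.inv, h.ti, hall⟩
    obtain ⟨F, _, _, ho, -, ⟨e⟩⟩ := hH.psl
    refine ⟨F, inferInstance, inferInstance, three ho Fintype.one_lt_card ?_, ho, Or.inl ⟨e⟩⟩
    rw [Nat.card_congr e.toEquiv, ← CL.SL2.card_psl_mul]
    exact dvd_mul_right _ _
  push Not at hall
  obtain ⟨t, ht, hzt⟩ := hall
  obtain ⟨G₀, hn, hi, htG⟩ := h.exists_index_two hA hu ht hzt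
  have hsq : h.sqHom.range ≤ G₀ := fun _ ⟨c, e⟩ => e ▸ Subgroup.mul_self_mem_of_index_two hi (c : G)
  have hcj : ∀ {a b : G}, IsConj a b → (a ∈ G₀ ↔ b ∈ G₀) := fun hab => by
    obtain ⟨c, rfl⟩ := isConj_iff.1 hab
    exact ⟨fun e => hn.conj_mem _ e c, fun e => by simpa [mul_assoc] using hn.conj_mem' _ e c⟩
  have two : ∀ x ∈ X, x ∉ h.sqHom.range → ∀ y ∈ X, y ∉ h.sqHom.range → x * y ∈ h.sqHom.range :=
    fun x hx hx' y hy hy' => (Subgroup.mul_mem_iff_of_index_two (h.relIndex_sq hA) (a := ⟨x, hx⟩)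
      (b := ⟨y, hy⟩)).2 (iff_of_false hx' hy')
  -- every involution is conjugate to `z` or to an element `y u` with `y` not a square
  have cls : ∀ s : G, orderOf s = 2 → IsConj z s ∨ ∃ v : G, IsConj v s ∧ v * u ∈ X ∧ v * u ∉ h.sqHom.range := by
    intro s hs
    obtain ⟨g, hg⟩ := exists_conj_mem_of_odd_index h.odd (mul_self_of_inv hs)
    have h1 : IsConj (g * s * g⁻¹) s := (isConj_iff.2 ⟨g, rfl⟩).symm
    have h2 := inv_conj hs g
    rcases h.mem _ (mem_c1.1 hg) with h3 | h3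
    · rcases h.inv_eq hA h3 (mul_self_of_inv h2) with e | e
      · exact absurd e (ne_one_of_inv h2)
      · exact Or.inl (e ▸ h1)
    · by_cases h4 : g * s * g⁻¹ * u ∈ h.sqHom.range
      · exact Or.inl ((hu.trans (h.conj_of_sq h4)).trans h1)
      · exact Or.inr ⟨_, h1, h3, h4⟩
  have hX : ∀ y ∈ X, y ∉ h.sqHom.range → y ∈ G₀ → X ≤ G₀ := by
    intro y hy hy' hyG x hx
    by_cases hx' : x ∈ h.sqHom.range
    · exact hsq hx'
    · exact (G₀.mul_mem_cancel_right hyG).1 (hsq (two x hx hx' y hy hy'))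
  obtain ⟨v, hv1, hv2, hv3⟩ := (cls t ht).resolve_left hzt
  have hvG : v ∉ G₀ := fun e => htG ((hcj hv1).1 e)
  have hzG : z ∈ G₀ := by
    by_contra hzG
    exact hzG (hX _ hv2 hv3 ((Subgroup.mul_mem_iff_of_index_two hi).2
      (iff_of_false hvG fun e => hzG ((hcj hu).2 e))) h.zX)
  have huG : u ∈ G₀ := (hcj hu).1 hzG
  have hyG : v * u ∉ G₀ := fun e => hvG ((G₀.mul_mem_cancel_right huG).1 e)
  have hH : CL.Inv.BSW.Hyp (⟨z, hzG⟩ : G₀) ⟨u, huG⟩ (X.subgroupOf G₀) := by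
    refine ⟨by rw [← Subgroup.orderOf_coe]; exact h.hz, fun x hx y hy => Subtype.ext (h.comm _ hx _ hy), h.zX,
      Subtype.ext h.uu, h.uX, fun g hg => h.mem g (congrArg Subtype.val hg), fun x hx hxx => ?_,
      fun x hx => Subtype.ext (h.inv _ hx),
      fun x hx hx1 g hg => Subtype.ext (h.ti x hx (fun e => hx1 (Subtype.ext e)) g hg), fun s hs => ?_⟩
    · exact (h.inv_eq hA hx (congrArg Subtype.val hxx)).imp Subtype.ext Subtype.ext
    · have h1 : IsConj z s := by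
        refine (cls s (by rwa [Subgroup.orderOf_coe])).resolve_right ?_
        rintro ⟨w, hw1, hw2, hw3⟩
        exact hyG (hX _ hw2 hw3 (G₀.mul_mem ((hcj hw1).2 s.2) huG) hv2)
      obtain ⟨g, hg⟩ := isConj_iff.1 h1
      by_cases hgG : g ∈ G₀
      · exact isConj_iff.2 ⟨⟨g, hgG⟩, Subtype.ext hg⟩
      · refine isConj_iff.2 ⟨⟨g * (v * u), (Subgroup.mul_mem_iff_of_index_two hi).2 (iff_of_false hgG hyG)⟩,
          Subtype.ext ?_⟩
        show g * (v * u) * z * (g * (v * u))⁻¹ = s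
        rw [← hg, mul_assoc g, h.comm _ hv2 z h.zX]; group
  obtain ⟨Q, D, h1, h2, -, h4, h5, h6, -⟩ := hH.exists_concl
  have hcQ : Nat.card (Q.map G₀.subtype) = Nat.card Q := Subgroup.card_map_of_injective G₀.subtype_injective
  have hq1 : 1 < Nat.card Q := by
    by_contra hq
    have : Nat.card Q - 1 = 0 := by omega
    rw [this] at h1
    have := Nat.card_pos (α := G₀)
    omega
  have hmem : ∀ {x : G₀}, (x : G) ∈ Q.map G₀.subtype ↔ x ∈ Q := fun {x} =>
    Subgroup.mem_map_iff_mem (f := G₀.subtype) G₀.subtype_injective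
  have hoQ : Odd (Nat.card Q) := ⟨_, h4.symm⟩
  obtain ⟨K, _, _, hK, ⟨e⟩⟩ := pgl2_of_index_two (Q := Q.map G₀.subtype) hi hA.center (Subgroup.map_subtype_le Q)
    (by
      rintro _ ⟨x, hx, rfl⟩ hx1 g hg
      rw [show g = ((⟨g, hg⟩ : G₀) : G) from rfl, hmem, ← h2 x hx (fun e => hx1 (by simp [e])),
        Subgroup.mem_centralizer_singleton_iff]
      exact ⟨fun e => Subtype.ext e, fun e => congrArg Subtype.val e⟩)
    (hcQ ▸ hq1) (hcQ ▸ h1) (r := Nat.card D) (hcQ ▸ h4)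
    (by
      have hDN : D ≤ N[Q] := h6 ▸ le_sup_right
      rw [hcQ, ← card_sup_of_inf_eq_bot hDN (by rw [inf_comm, h5]), sup_comm, ← h6,
        ← Subgroup.card_map_of_injective (K := N[Q]) G₀.subtype_injective]
      congr 2
      ext g
      constructor
      · rintro ⟨hg, hgG⟩
        refine ⟨⟨g, hgG⟩, mem_norm_of_cj_le fun y hy => ?_, rfl⟩
        obtain ⟨y, hy', rfl⟩ := mem_cj_iff_exists.1 hy
        exact hmem.1 (conj_mem_of_norm hg (hmem.2 hy'))
      · rintro ⟨g, hg, rfl⟩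
        refine ⟨mem_norm_of_cj_le fun y hy => ?_, g.2⟩
        obtain ⟨_, ⟨y, hy', rfl⟩, rfl⟩ := mem_cj_iff_exists.1 hy
        exact hmem.2 (conj_mem_of_norm hg hy'))
    (by
      rintro g _ hg ⟨x, hx, rfl⟩ hx1 e _ ⟨c, hc, rfl⟩
      refine hv g x hg hx1 (Odd.of_dvd_nat hoQ ?_) e c (congrArg Subtype.val
        (CL.Inv.BSW.SelfCent.comm h2 hc hx))
      rw [Subgroup.orderOf_coe]
      exact Subgroup.orderOf_dvd_natCard Q hx) hj
  rw [hcQ] at hK
  refine ⟨K, inferInstance, inferInstance, three (hK ▸ hoQ) Fintype.one_lt_card ?_, hK ▸ hoQ, Or.inr ⟨e⟩⟩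
  rw [Nat.card_congr e.toEquiv, CL.SL2.card_pgl]

end DihHyp

end CL.Cit
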