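/-
Groups with a partition, part 1: conjugation invariant partitions, normal components, and a lemma on modules on which
all elements of order divisible by `p` have norm zero.
-/
import Cfsg.Agent.Cit.DihCent
import Cfsg.Agent.Grp.QuadStable
import Cfsg.Agent.Inv.BaerSuzuki

set_option autoImplicit false

open Cfsg CL.Odd CL.Grp CL.Inv.SE
open scoped Pointwise IsMulCommutative

namespace CL.Cit

universe u

variable {G : Type u} [Group G]

theorem orderOf_pow_div_prime [Finite G] {x : G} {p : ℕ} (h : p ∣ orderOf x) :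
    orderOf (x ^ (orderOf x / p)) = p :=
  orderOf_pow_orderOf_div (orderOf_pos x).ne' h

theorem hughes_of {Y : Subgroup G} (hY : Y ≠ ⊤) {p : ℕ} (h : ∀ g : G, g ∉ Y → g ^ p = 1) :
    Subgroup.closure {g : G | g ^ p ≠ 1} ≠ ⊤ := fun e =>
  hY (top_le_iff.1 (e ▸ (Subgroup.closure_le Y).2 fun g hg => by_contra fun h' => hg (h g h')))

/-- A proper normal subgroup containing the centralisers of its non-identity elements is a Frobenius kernel. -/
theorem exists_frob_of_cent [Finite G] {H : Subgroup G} [hn : H.Normal] (h1 : H ≠ ⊥) (h2 : H ≠ ⊤)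
    (hc : ∀ h ∈ H, h ≠ 1 → ∀ g : G, g * h = h * g → g ∈ H) : ∃ L : Subgroup G, IsFrobeniusComplement L := by
  have hco : (Nat.card H).Coprime H.index := by
    refine Nat.coprime_of_dvd fun p hp hd1 hd2 => ?_
    haveI := Fact.mk hp
    obtain ⟨x, hx⟩ := exists_prime_orderOf_dvd_card' (G := G ⧸ H) p hd2
    obtain ⟨g, rfl⟩ := QuotientGroup.mk_surjective x
    have h3 : g ∈ H := CL.Char.mem_of_centralizer_le_of_not_coprime H
      (fun k hk hk1 g hg => hc k hk hk1 g (mem_c1.1 hg)) g (by rw [norm_eq_top_iff.2 hn]; trivial)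
      fun h => hp.one_lt.ne' (Nat.eq_one_of_dvd_coprimes h
        (hx ▸ orderOf_map_dvd (QuotientGroup.mk' H) g) hd1)
    rw [(QuotientGroup.eq_one_iff g).2 h3, orderOf_one] at hx
    exact hp.one_lt.ne hx
  obtain ⟨L, hL⟩ := Subgroup.exists_right_complement'_of_coprime hco
  refine ⟨L, frob_of_fpf hL h1 (fun e => h2 ?_) fun g hg hg1 => ?_⟩
  · simpa [e] using hL.sup_eq_top
  · rw [eq_bot_iff]
    intro x hx
    by_contra hx1
    exact hg1 (eq_one_of_mem_of_eq_bot hL.disjoint.eq_bot ⟨hc x hx.1 hx1 g (mem_c1.1 hx.2).symm, hg⟩)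

/-- If all elements outside `C(V)` of order divisible by `p` have order `p` and the others act without fixed points on
the minimal normal `p`-subgroup `V`, then `G / C(V)` is a `p'`-group. -/
theorem not_dvd_index_cent [Finite G] {V : Subgroup G} (hV : IsMinNormal V) {p : ℕ} (hp : p.Prime)
    (hVp : IsPGroup p V) (h1 : ∀ g : G, g ∉ C[V] → p ∣ orderOf g → g ^ p = 1)
    (h2 : ∀ g : G, g ∉ C[V] → ¬ p ∣ orderOf g → ∀ v ∈ V, g * v = v * g → v = 1) : ¬ p ∣ (C[V]).index := by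
  haveI := Fact.mk hp
  haveI := hV.normal
  haveI : IsMulCommutative V := (hV.isElementaryAbelian_of_isPGroup hVp).1
  have hVC : V ≤ C[V] := abelian_iff.1 inferInstance
  have hO := pCore_quotient_centralizer_eq_bot V hVp hV.min
  intro hd
  obtain ⟨x, hx⟩ := exists_prime_orderOf_dvd_card' (G := G ⧸ C[V]) p hd
  have hx1 : x ≠ 1 := CL.Grp.ne_one_of_orderOf_prime hp hx
  have lift : ∀ g : G, p ∣ orderOf (g : G ⧸ C[V]) → g ^ p = 1 := fun g hg =>
    h1 g (fun e => by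
      rw [(QuotientGroup.eq_one_iff g).2 e, orderOf_one] at hg
      exact hp.one_lt.ne' (Nat.dvd_one.1 hg)) (hg.trans (orderOf_map_dvd (QuotientGroup.mk' _) g))
  obtain ⟨Q, hQ1, hQp, hxQ⟩ : ∃ Q : Subgroup (G ⧸ C[V]), Q ≠ ⊥ ∧ ¬ p ∣ Nat.card Q ∧ x ∈ N[Q] := by
    by_cases hp2 : p = 2
    · subst hp2
      obtain ⟨h, hh1, hho, hinv, -⟩ := CL.Inv.invol_inverts_odd_of_not_mem (mul_self_of_inv hx) fun hP =>
        hx1 (eq_one_of_mem_of_eq_bot (pCore_eq_bot_iff.1 hO _ inferInstance hP)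
          (Subgroup.subset_normalClosure rfl))
      refine ⟨Subgroup.zpowers h, by simpa using hh1, ?_, mem_normalizer_zpowers_of_conj_mem_zpowers ?_⟩
      · rw [Nat.card_zpowers, ← even_iff_two_dvd, Nat.not_even_iff_odd]; exact hho
      · rw [hinv]; exact Subgroup.inv_mem _ (Subgroup.mem_zpowers h)
    rcases Nat.even_or_odd (Nat.card (G ⧸ C[V])) with he | ho
    · haveI : Fact (Nat.Prime 2) := ⟨Nat.prime_two⟩
      obtain ⟨t, ht⟩ := exists_prime_orderOf_dvd_card' (G := G ⧸ C[V]) 2 he.two_dvd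
      have inv : ∀ s : G, orderOf (s : G ⧸ C[V]) = 2 → ∀ v ∈ V, s * v * s⁻¹ = v⁻¹ := by
        intro s hs v hv
        have hsC : s ∉ C[V] := fun e => ne_one_of_inv hs ((QuotientGroup.eq_one_iff s).2 e)
        have hss : s * s ∈ C[V] := (QuotientGroup.eq_one_iff _).1 (mul_self_of_inv hs)
        have hps : ¬ p ∣ orderOf s := fun hd => by
          have h3 : (s : G ⧸ C[V]) ^ p = 1 := by rw [← QuotientGroup.mk_pow, h1 s hsC hd]; rfl
          have := orderOf_dvd_of_pow_eq_one h3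
          rw [hs] at this
          exact hp2 ((Nat.prime_dvd_prime_iff_eq Nat.prime_two hp).1 this).symm
        have hv' : s * v * s⁻¹ ∈ V := hV.normal.conj_mem v hv s
        have h3 := h2 s hsC hps _ (V.mul_mem hv hv') (by
          calc s * (v * (s * v * s⁻¹)) = s * v * s⁻¹ * (s * s * v) * s⁻¹ := by group
            _ = s * v * s⁻¹ * v * s := by rw [← mem_cent.1 hss v hv]; group
            _ = _ := by rw [← mem_cent.1 (hVC hv') v hv])
        exact eq_inv_of_mul_eq_one_right h3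
      refine ⟨Subgroup.zpowers t, by simpa using ne_one_of_inv ht, ?_,
        mem_normalizer_zpowers_of_conj_mem_zpowers ?_⟩
      · rw [Nat.card_zpowers, ht]
        exact fun h => hp2 ((Nat.prime_dvd_prime_iff_eq hp Nat.prime_two).1 h)
      · have h3 := inv_conj ht x
        generalize x * t * x⁻¹ = s at h3
        obtain ⟨s, rfl⟩ := QuotientGroup.mk_surjective s
        obtain ⟨t, rfl⟩ := QuotientGroup.mk_surjective t
        have h4 : (s : G ⧸ C[V]) = t := QuotientGroup.eq.2 (mem_cent.2 fun v hv => by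
          have := (inv s h3 v hv).trans (inv t ht v hv).symm
          calc v * (s⁻¹ * t) = s⁻¹ * (s * v * s⁻¹) * t := by group
            _ = _ := by rw [this]; group)
        rw [h4]; exact Subgroup.mem_zpowers _
    · haveI := feit_thompson ho
      haveI : Nontrivial (G ⧸ C[V]) := ⟨x, 1, hx1⟩
      obtain ⟨M, r, hr, hM, hMe⟩ := exists_isMinNormal_isElementaryAbelian (G ⧸ C[V])
      have hMp := isPGroup_of_isElementaryAbelian hMe
      refine ⟨M, hM.ne_bot, fun hd => ?_, by rw [norm_eq_top_iff.2 hM.normal]; trivial⟩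
      haveI := Fact.mk hr
      obtain ⟨k, hk⟩ := hMp.exists_card_eq
      obtain rfl := (Nat.prime_dvd_prime_iff_eq hp hr).1 (hp.dvd_of_dvd_pow (hk ▸ hd))
      exact hM.ne_bot (pCore_eq_bot_iff.1 hO M hM.normal hMp)
  have hdv : ∀ q ∈ Q, p ∣ orderOf (q * x) := by
    intro q hq
    by_contra hn
    have h3 := CL.Fgs.mul_pow_mul_inv_mem hxQ hq (orderOf (q * x))
    rw [pow_orderOf_eq_one, one_mul, inv_mem_iff] at h3
    have h4 := Subgroup.orderOf_dvd_natCard Q h3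
    rw [(Nat.Coprime.orderOf_pow (by rw [hx]; exact (hp.coprime_iff_not_dvd.2 hn))), hx] at h4
    exact hQp h4
  let φ : G ⧸ C[V] →* MulAut V := QuotientGroup.lift _ MulAut.conjNormal fun g hg => by
    ext v
    rw [MulAut.conjNormal_apply, ← mem_cent.1 hg v v.2]; simp
  obtain ⟨y, hy, hy1⟩ := ne_bot_iff.1 hQ1
  obtain ⟨y, rfl⟩ := QuotientGroup.mk_surjective y
  refine hy1 ((QuotientGroup.eq_one_iff y).2 (mem_cent.2 fun v hv => ?_))
  have h3 := CL.Fgs.pow_card_smul_eq_of_norm φ hxQ hp (fun q hq => by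
      obtain ⟨g, hg⟩ := QuotientGroup.mk_surjective (q * x)
      rw [← hg, ← QuotientGroup.mk_pow, lift g (hg ▸ hdv q hq)]; rfl) ⟨v, hv⟩
    (fun q hq => by
      obtain ⟨g, hg⟩ := QuotientGroup.mk_surjective (q * x)
      have h4 := CL.Fgs.coe_prod_conjNormal_mul_pow (⟨v, hv⟩ : V) g p
      have h5 : ((v * g : G) : G ⧸ C[V]) = g := by
        rw [QuotientGroup.mk_mul, (QuotientGroup.eq_one_iff v).2 (hVC hv), one_mul]
      rw [lift g (hg ▸ hdv q hq), mul_one, lift (v * g) (by rw [h5, hg]; exact hdv q hq)] at h4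
      rw [← hg]
      exact Subtype.ext h4) hy
  obtain ⟨k, hk⟩ := hVp.exists_card_eq
  have hc : (Nat.card V).Coprime (Nat.card Q) := by
    rw [hk]; exact Nat.Coprime.pow_left _ (hp.coprime_iff_not_dvd.2 hQp)
  have h4 := congrArg Subtype.val ((powCoprime hc).injective h3)
  exact (mul_inv_eq_iff_eq_mul.1 h4).symm

/-- A nontrivial partition of `G` invariant under conjugation; `K x` is the component of `x ≠ 1`. -/
structure Part (G : Type u) [Group G] where
  K : G → Subgroup G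
  mem : ∀ x, x ∈ K x
  eq : ∀ {x y : G}, x ≠ 1 → y ≠ 1 → y ∈ K x → K y = K x
  conj : ∀ g x : G, K (g * x * g⁻¹) = cj g • K x
  ne_top : ∀ {x : G}, x ≠ 1 → K x ≠ ⊤

theorem nonempty_part (S : Set (Subgroup G)) (hS2 : ∃ H ∈ S, ∃ K ∈ S, H ≠ K) (hS1 : ∀ H ∈ S, H ≠ ⊥)
    (hpart : ∀ g : G, g ≠ 1 → ∃! H : Subgroup G, H ∈ S ∧ g ∈ H) : Nonempty (Part G) := by
  classical
  have hex : ∀ g : G, ∃ H : Subgroup G, g ∈ H ∧ (g ≠ 1 → H ∈ S) := fun g => by
    by_cases hg : g = 1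
    · exact ⟨⊥, by simp [hg], fun h => absurd hg h⟩
    · obtain ⟨H, h1, -⟩ := hpart g hg
      exact ⟨H, h1.2, fun _ => h1.1⟩
  choose H hH1 hH2 using hex
  have uniq : ∀ {g : G} {L : Subgroup G}, g ≠ 1 → L ∈ S → g ∈ L → H g = L := fun {g L} hg hL hgL =>
    (hpart g hg).unique ⟨hH2 g hg, hH1 g⟩ ⟨hL, hgL⟩
  have hm : ∀ x y : G, y ∈ (⨅ g : G, cj g⁻¹ • H (g * x * g⁻¹)) ↔ ∀ g : G, g * y * g⁻¹ ∈ H (g * x * g⁻¹) := by
    intro x y
    simp only [Subgroup.mem_iInf, mem_cj, inv_inv]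
  refine ⟨⟨fun x => ⨅ g : G, cj g⁻¹ • H (g * x * g⁻¹), fun x => (hm x x).2 fun g => hH1 _, ?_, ?_, ?_⟩⟩
  · intro x y hx hy h
    refine iInf_congr fun g => ?_
    rw [uniq (by simpa using hy) (hH2 _ (by simpa using hx)) ((hm x y).1 h g)]
  · intro g x
    ext y
    rw [mem_cj, hm, hm]
    refine ⟨fun h k => ?_, fun h k => ?_⟩
    · simpa [mul_assoc] using h (k * g⁻¹)
    · simpa [mul_assoc] using h (k * g)
  · intro x hx e
    have h1 : ∀ y, y ∈ H x := fun y => by simpa using (hm x y).1 (e ▸ Subgroup.mem_top y) 1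
    obtain ⟨A, hA, B, hB, hAB⟩ := hS2
    obtain ⟨a, ha, ha1⟩ := ne_bot_iff.1 (hS1 A hA)
    obtain ⟨b, hb, hb1⟩ := ne_bot_iff.1 (hS1 B hB)
    exact hAB (((uniq ha1 hA ha).symm.trans (uniq ha1 (hH2 x hx) (h1 a))).trans
      ((uniq hb1 (hH2 x hx) (h1 b)).symm.trans (uniq hb1 hB hb)))

namespace Part

variable (P : Part G) {x y g : G}

theorem symm (hx : x ≠ 1) (hy : y ≠ 1) (h : y ∈ P.K x) : x ∈ P.K y := P.eq hx hy h ▸ P.mem x

theorem ti (hx : x ≠ 1) (hy : y ∈ P.K x) (hy1 : y ≠ 1) (hg : g * y * g⁻¹ ∈ P.K x) : g ∈ N[P.K x] := by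
  rw [← cj_eq_self_iff, ← P.eq hx hy1 hy, ← P.conj, P.eq hx (by simpa using hy1) hg, P.eq hx hy1 hy]

theorem norm_of_comm (hx : x ≠ 1) (hy : y ∈ P.K x) (hy1 : y ≠ 1) (hg : g * y = y * g) : g ∈ N[P.K x] :=
  P.ti hx hy hy1 (by rwa [hg, mul_inv_cancel_right])

theorem eq_one (hx : x ≠ 1) (hy : y ∉ P.K x) {w : G} (h1 : w ∈ P.K x) (h2 : w ∈ P.K y) : w = 1 := by
  by_contra hw
  have hy1 : y ≠ 1 := fun e => hy (e ▸ Subgroup.one_mem _)
  exact hy ((P.eq hx hw h1).symm.trans (P.eq hy1 hw h2) ▸ P.mem y)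

theorem pow_eq_one (hx : x ≠ 1) (hy : y ∉ P.K x) {n : ℕ} (h : y ^ n ∈ P.K x) : y ^ n = 1 :=
  P.eq_one hx hy h (Subgroup.pow_mem _ (P.mem y) n)

theorem orderOf_dvd_of_comm (hx : x ≠ 1) (hy : y ∉ P.K x) (hc : x * y = y * x) : orderOf y ∣ orderOf x := by
  have hy1 : y ≠ 1 := fun e => hy (e ▸ Subgroup.one_mem _)
  have h1 : (x * y) ^ orderOf x = y ^ orderOf x := by rw [Commute.mul_pow hc, pow_orderOf_eq_one, one_mul]
  rw [orderOf_dvd_iff_pow_eq_one, ← h1]
  refine P.pow_eq_one hy1 (fun h => hy (P.symm hy1 hx ((Subgroup.mul_mem_cancel_right _ (P.mem y)).1 h))) ?_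
  rw [h1]; exact Subgroup.pow_mem _ (P.mem y) _

variable [Finite G]

/-- Commuting elements of different components have the same prime order. -/
theorem prime_of_comm (hx : x ≠ 1) (hy : y ∉ P.K x) (hc : x * y = y * x) :
    (orderOf x).Prime ∧ orderOf y = orderOf x := by
  have hy1 : y ≠ 1 := fun e => hy (e ▸ Subgroup.one_mem _)
  have h1 : orderOf y = orderOf x := Nat.dvd_antisymm (P.orderOf_dvd_of_comm hx hy hc)
    (P.orderOf_dvd_of_comm hy1 (fun h => hy (P.symm hy1 hx h)) hc.symm)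
  obtain ⟨p, k, hp, hk⟩ := exists_pow_orderOf_prime hx
  have h2 := CL.Grp.ne_one_of_orderOf_prime hp hk
  have h3 := P.orderOf_dvd_of_comm h2 (y := y) (by rwa [P.eq hx h2 (Subgroup.pow_mem _ (P.mem x) k)])
    (Commute.pow_left hc k)
  rw [hk, h1] at h3
  rcases (Nat.dvd_prime hp).1 h3 with h4 | h4
  · exact absurd (orderOf_eq_one_iff.1 h4) hx
  · exact ⟨h4 ▸ hp, h1⟩

/-- A `p`-group normalised by a `p'`-element `y` and meeting the component of `y` lies in it. -/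
theorem le_of_coprime {p : ℕ} (hp : p.Prime) {Q : Subgroup G} (hQ : IsPGroup p Q) (hy : y ≠ 1) (hn : y ∈ N[Q])
    (hpy : ¬ p ∣ orderOf y) {d : G} (hd : d ∈ Q) (hd' : d ∈ P.K y) (hd1 : d ≠ 1) : Q ≤ P.K y := by
  haveI := Fact.mk hp
  by_contra hle
  have h1 := lt_inf_normalizer_of_isPGroup hQ (inf_lt_left.2 hle)
  have hA : Subgroup.zpowers y ≤ N[Q ⊓ N[Q ⊓ P.K y]] := le_norm_inf (Subgroup.zpowers_le.2 hn)
    (le_norm_norm (le_norm_inf (Subgroup.zpowers_le.2 hn) (le_norm_of_le (Subgroup.zpowers_le.2 (P.mem y)))))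
  have hR : IsPGroup p (Q ⊓ N[Q ⊓ P.K y] : Subgroup G) := hQ.to_le inf_le_left
  obtain ⟨k, hk⟩ := hR.exists_card_eq
  have h2 := commutator_sup_centralizer_eq hA (by
    rw [hk, Nat.card_zpowers]; exact (Nat.Coprime.pow_left _ (hp.coprime_iff_not_dvd.2 hpy)).symm)
    (Or.inl (sol_of_abelian (abelian_zpowers y)))
  refine h1.not_ge (le_inf inf_le_left ?_)
  rw [← h2]
  refine sup_le ((Subgroup.commutator_mono le_rfl (Subgroup.zpowers_le.2 (P.mem y))).trans
    (comm_le_right fun r hr => P.ti hy hd' hd1 (conj_mem_of_norm hr.2 (⟨hd, hd'⟩ : d ∈ Q ⊓ P.K y)).2)) ?_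
  intro c hc
  by_contra hcK
  have h3 := (P.prime_of_comm hy hcK (mem_cent.1 hc.2 y (Subgroup.mem_zpowers y))).2
  exact hpy (h3 ▸ prime_dvd_orderOf_of_mem_isPGroup hQ hc.1.1 fun e => hcK (e ▸ Subgroup.one_mem _))

/-- An element normalising a component `H` from outside, of order divisible by a prime divisor `p` of `|H|`, has
order `p`. -/
theorem star (hx : x ≠ 1) {w : G} (hw : w ∈ N[P.K x]) (hw' : w ∉ P.K x) {p : ℕ} (hp : p.Prime)
    (h1 : p ∣ orderOf w) (h2 : p ∣ Nat.card (P.K x)) : orderOf w = p := by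
  haveI := Fact.mk hp
  have h3 := orderOf_pow_div_prime h1
  have h4 := CL.Grp.ne_one_of_orderOf_prime hp h3
  have hw1 : w ≠ 1 := fun e => hw' (e ▸ Subgroup.one_mem _)
  obtain ⟨v, hv, hv1, hc⟩ := CL.Char.exists_ne_one_commute_of_isPGroup (P.K x) _
    (isPGroup_zpowers_of_orderOf_eq h3) (Subgroup.zpowers_le.2 (Subgroup.pow_mem _ hw _)) h2
  have h5 : v ∈ N[P.K w] := P.norm_of_comm hw1 (Subgroup.pow_mem _ (P.mem w) _) h4
    (hc _ (Subgroup.mem_zpowers _)).symm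
  have h6 : v * w * v⁻¹ * w⁻¹ = 1 := P.eq_one hx hw'
    (by rw [show v * w * v⁻¹ * w⁻¹ = v * (w * v⁻¹ * w⁻¹) by group]
        exact Subgroup.mul_mem _ hv (conj_mem_of_norm hw (Subgroup.inv_mem _ hv)))
    (Subgroup.mul_mem _ (conj_mem_of_norm h5 (P.mem w)) (Subgroup.inv_mem _ (P.mem w)))
  rw [mul_inv_eq_one, mul_inv_eq_iff_eq_mul] at h6
  obtain ⟨h7, h8⟩ := P.prime_of_comm hv1 (y := w) (by rwa [P.eq hx hv1 hv]) h6
  exact ((Nat.prime_dvd_prime_iff_eq hp (h8 ▸ h7)).1 h1).symm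

omit [Finite G] in
/-- If `w ^ n = 1` and `w` normalises a component `H` from outside, the coset `H w` has exponent `n`. -/
theorem coset_pow (hx : x ≠ 1) {w : G} (hw : w ∈ N[P.K x]) (hw' : w ∉ P.K x) {n : ℕ} (hn : w ^ n = 1) {h : G}
    (hh : h ∈ P.K x) : (h * w) ^ n = 1 :=
  P.pow_eq_one hx (fun e => hw' ((Subgroup.mul_mem_cancel_left _ hh).1 e))
    (by simpa [hn] using CL.Fgs.mul_pow_mul_inv_mem hw hh n)

/-- A component which is not self-normalising is nilpotent. -/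
theorem nil (hx : x ≠ 1) {w : G} (hw : w ∈ N[P.K x]) (hw' : w ∉ P.K x) : Group.IsNilpotent (P.K x) := by
  have hw1 : w ≠ 1 := fun e => hw' (e ▸ Subgroup.one_mem _)
  obtain ⟨p, k, hp, hk⟩ := exists_pow_orderOf_prime hw1
  have h1 : w ^ k ∉ P.K x := fun e => CL.Grp.ne_one_of_orderOf_prime hp hk (P.pow_eq_one hx hw' e)
  have h2 : w ^ k ∈ N[P.K x] := Subgroup.pow_mem _ hw k
  haveI : ((P.K x).subgroupOf N[P.K x]).Normal := Subgroup.normal_in_normalizer
  have := CL.Fgs.isNilpotent_of_coset_pow_eq_one hp (H := (P.K x).subgroupOf N[P.K x]) (g := ⟨_, h2⟩) h1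
    fun h hh => Subtype.ext (P.coset_pow hx h2 h1 (hk ▸ pow_orderOf_eq_one _) hh)
  exact Group.nilpotent_of_mulEquiv (Subgroup.subgroupOfEquivOfLe (le_norm_self _))

end Part

end CL.Cit
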