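/-
Groups with a partition, part 2 (Baer): groups with a nontrivial abelian normal subgroup.
-/
import Cfsg.Agent.Cit.Part1
import Cfsg.Agent.Perm.Huppert3
import Cfsg.Agent.Inv.AutTwo
import Cfsg.Agent.S1012

set_option autoImplicit false

open Cfsg CL.Odd CL.Grp CL.Inv.SE
open scoped Pointwise IsMulCommutative

namespace CL.Cit

universe u

/-- some Hughes subgroup is proper -/
def Hughes (G : Type*) [Group G] : Prop := ∃ p : ℕ, p.Prime ∧ Subgroup.closure {g : G | g ^ p ≠ 1} ≠ ⊤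

/-- `G` is a Frobenius group -/
def IsFrob (G : Type*) [Group G] : Prop := ∃ H : Subgroup G, IsFrobeniusComplement H

variable {G : Type u} [Group G] [Finite G]

omit [Finite G] in
theorem orderOf_mk_dvd_index {N : Subgroup G} [N.Normal] {g : G} {p : ℕ} (hp : p.Prime) (hg : g ∉ N) {k : ℕ}
    (h : g ^ p ^ k ∈ N) : p ∣ N.index := by
  have h1 : (g : G ⧸ N) ^ p ^ k = 1 := by rw [← QuotientGroup.mk_pow, QuotientGroup.eq_one_iff]; exact h
  obtain ⟨j, -, hj⟩ := (Nat.dvd_prime_pow hp).1 (orderOf_dvd_of_pow_eq_one h1)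
  have hj0 : j ≠ 0 := by
    rintro rfl
    exact hg ((QuotientGroup.eq_one_iff g).1 (orderOf_eq_one_iff.1 hj))
  exact (hj ▸ dvd_pow_self p hj0 : p ∣ orderOf (g : G ⧸ N)).trans (orderOf_dvd_natCard _)

namespace Part

variable (P : Part G) {x : G}

/-- A group with a normal component. -/
theorem normal_comp (hx : x ≠ 1) (hn : (P.K x).Normal) : Hughes G ∨ IsFrob G := by
  have hN : ∀ g : G, g ∈ N[P.K x] := fun g => by rw [norm_eq_top_iff.2 hn]; trivial
  have hb : P.K x ≠ ⊥ := ne_bot_of_mem (P.mem x) hx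
  by_cases hc : ∀ h ∈ P.K x, h ≠ 1 → ∀ g : G, g * h = h * g → g ∈ P.K x
  · exact Or.inr (exists_frob_of_cent hb (P.ne_top hx) hc)
  push Not at hc
  obtain ⟨h, hh, hh1, w, hwh, hw⟩ := hc
  have L1 : ∀ {v g : G}, v ∈ P.K x → v ≠ 1 → g ∉ P.K x → g * v = v * g →
      (orderOf v).Prime ∧ orderOf g = orderOf v := fun hv hv1 hg e =>
    P.prime_of_comm hv1 (by rwa [P.eq hx hv1 hv]) e.symm
  have hnil := P.nil hx (hN w) hw
  have B : ∀ r : ℕ, r.Prime → r ∣ Nat.card (P.K x) → ∃ C : Subgroup G, C.Normal ∧ P.K x ≤ C ∧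
      (∀ g ∈ C, g ∉ P.K x → orderOf g = r) ∧ ∀ g : G, g ∉ P.K x → r ∣ orderOf g → g ∈ C := by
    intro r hr hd
    haveI := Fact.mk hr
    haveI : (pCoreOf r (P.K x)).Normal := NormalIn.top_iff.1 (NormalIn.pCore r (NormalIn.top_iff.2 hn))
    obtain ⟨V, hV, hVle⟩ := exists_isMinNormal_le (pCoreOf r (P.K x)) (pCoreOf_ne_bot_of_isNilpotent hnil hd)
    haveI := hV.normal
    have hVp : IsPGroup r V := (pCoreOf_isPGroup r _).to_le hVle
    have hVK : V ≤ P.K x := hVle.trans (pCoreOf_normalIn r _).le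
    have hKC : P.K x ≤ C[V] := hV.le_centralizer_of_isNilpotent hnil
    have ord : ∀ {v g : G}, v ∈ V → v ≠ 1 → g ∉ P.K x → g * v = v * g → orderOf g = r := by
      intro v g hv hv1 hg e
      obtain ⟨h1, h2⟩ := L1 (hVK hv) hv1 hg e
      rw [h2]
      exact ((Nat.prime_dvd_prime_iff_eq hr h1).1 (prime_dvd_orderOf_of_mem_isPGroup hVp hv hv1)).symm
    obtain ⟨v, hv, hv1⟩ := ne_bot_iff.1 hV.ne_bot
    refine ⟨C[V], inferInstance, hKC, fun g hg hg' => ord hv hv1 hg' (mem_cent.1 hg v hv).symm, fun g hg hd' => ?_⟩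
    by_contra hgC
    refine not_dvd_index_cent hV hr hVp (fun g hg hd' => ?_) (fun g hg hd' v hv e => ?_)
      (orderOf_mk_dvd_index hr hgC (k := 1) ?_)
    · rw [← P.star hx (hN g) (fun e => hg (hKC e)) hr hd' hd, pow_orderOf_eq_one]
    · by_contra hv1
      exact hd' (ord hv hv1 (fun e => hg (hKC e)) e ▸ dvd_rfl)
    · rw [pow_one, ← P.star hx (hN g) hg hr hd' hd, pow_orderOf_eq_one]; exact Subgroup.one_mem _
  obtain ⟨hr, hwr⟩ := L1 hh hh1 hw hwh
  obtain ⟨C, hCn, hKC, hC1, hC2⟩ := B _ hr (Subgroup.orderOf_dvd_natCard _ hh)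
  generalize orderOf h = r at hr hwr hC1 hC2
  by_cases hC : C = ⊤
  · exact Or.inl ⟨r, hr, hughes_of (P.ne_top hx) fun g hg => by
      rw [← hC1 g (hC ▸ Subgroup.mem_top g) hg, pow_orderOf_eq_one]⟩
  have key : ∀ c ∈ C, c ∉ P.K x → ∀ g : G, g ∉ C → c * g * c⁻¹ * g⁻¹ ∉ P.K x := by
    intro c hc hcK g hg e
    have h1 : c * g ∉ C := fun e => hg ((C.mul_mem_cancel_left hc).1 e)
    have h2 : ¬ r ∣ orderOf (c * g) := fun hd => h1 (hC2 _ (fun e => h1 (hKC e)) hd)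
    have h3 : ¬ r ∣ orderOf g := fun hd => hg (hC2 _ (fun e => hg (hKC e)) hd)
    have h4 : Commute (c : G ⧸ P.K x) g := by
      have := (QuotientGroup.eq_one_iff _).2 e
      simp only [QuotientGroup.mk_mul, QuotientGroup.mk_inv] at this
      rwa [mul_inv_eq_one, mul_inv_eq_iff_eq_mul] at this
    have h5 : ((c : G ⧸ P.K x) * g) ^ (orderOf (c * g) * orderOf g) = 1 := by
      rw [← QuotientGroup.mk_mul, ← QuotientGroup.mk_pow, pow_mul, pow_orderOf_eq_one, one_pow]; rfl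
    have h6 : (g : G ⧸ P.K x) ^ (orderOf (c * g) * orderOf g) = 1 := by
      rw [← QuotientGroup.mk_pow, mul_comm, pow_mul, pow_orderOf_eq_one, one_pow]; rfl
    rw [h4.mul_pow, h6, mul_one, ← QuotientGroup.mk_pow, QuotientGroup.eq_one_iff] at h5
    have h7 := orderOf_dvd_of_pow_eq_one (P.pow_eq_one hx hcK h5)
    rw [hC1 c hc hcK, hr.dvd_mul] at h7
    exact h7.elim h2 h3
  refine Or.inr (exists_frob_of_cent (fun e => hb (eq_bot_iff.2 (e ▸ hKC))) hC fun c hc hc1 g e => ?_)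
  by_contra hg
  by_cases hcK : c ∈ P.K x
  · have hgK : g ∉ P.K x := fun e => hg (hKC e)
    obtain ⟨hs, hgs⟩ := L1 hcK hc1 hgK e
    obtain ⟨D, hDn, -, hD1, hD2⟩ := B _ hs (Subgroup.orderOf_dvd_natCard _ hcK)
    have hwC : w ∈ C := hC2 w hw (hwr ▸ dvd_rfl)
    have hgD : g ∈ D := hD2 g hgK (hgs ▸ dvd_rfl)
    have h1 := key w hwC hw g hg
    have h2 := hC1 _ (by
      rw [show w * g * w⁻¹ * g⁻¹ = w * (g * w⁻¹ * g⁻¹) by group]
      exact C.mul_mem hwC (hCn.conj_mem _ (C.inv_mem hwC) g)) h1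
    have h3 := hD1 _ (D.mul_mem (hDn.conj_mem _ hgD w) (D.inv_mem hgD)) h1
    exact hg (hC2 g hgK (by rw [hgs, ← h3, h2]))
  · exact key c hc hcK g hg (by rw [← e]; simp)

section NotLe

variable {A : Subgroup G} {p : ℕ} (hA : IsMinNormal A) (hp : p.Prime) (he : IsElementaryAbelian p A)
  (hle : ∀ x : G, x ≠ 1 → ¬ A ≤ P.K x)
include hA hp he hle

omit hA hp in
theorem cent_pow {c : G} (hc : c ∈ C[A]) : c ^ p = 1 := by
  by_cases hc1 : c = 1
  · simp [hc1]
  obtain ⟨a, ha, haK⟩ := SetLike.not_le_iff_exists.1 (hle c hc1)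
  obtain ⟨h1, h2⟩ := P.prime_of_comm hc1 haK (mem_cent.1 hc a ha).symm
  rw [← orderOf_dvd_iff_pow_eq_one, ← h2, orderOf_dvd_iff_pow_eq_one]
  exact he.2 a ha

theorem eq_one_of_comm {x y : G} (hx : x ≠ 1) {k : ℕ} (hxk : x ^ p ^ k = 1) (hy : ¬ p ∣ orderOf y)
    (hc : x * y = y * x) : y = 1 := by
  haveI := Fact.mk hp
  have hAp := isPGroup_of_isElementaryAbelian he
  have hN : ∀ g : G, g ∈ N[A] := fun g => by rw [norm_eq_top_iff.2 hA.normal]; trivial
  by_contra hy1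
  have hxp : IsPGroup p (Subgroup.zpowers x) := by
    obtain ⟨j, -, hj⟩ := (Nat.dvd_prime_pow hp).1 (orderOf_dvd_of_pow_eq_one hxk)
    exact IsPGroup.of_card (by rw [Nat.card_zpowers, hj])
  have h1 : ∀ d ∈ A, d ∈ P.K y → d = 1 := fun d hd hd' => by_contra fun hd1 =>
    hle y hy1 (P.le_of_coprime hp hAp hy1 (hN y) hy hd hd' hd1)
  have h2 : x ∈ P.K y := by_contra fun h => hy ((P.prime_of_comm hy1 h hc.symm).2 ▸
    prime_dvd_orderOf_of_mem_isPGroup hxp (Subgroup.mem_zpowers x) hx)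
  obtain ⟨a, ha, ha1⟩ := ne_bot_iff.1 hA.ne_bot
  obtain ⟨u, hu, hu1, hux⟩ := CL.Char.exists_ne_one_commute_of_isPGroup A _ hxp (fun g _ => hN g)
    ((prime_dvd_orderOf_of_mem_isPGroup hAp ha ha1).trans (Subgroup.orderOf_dvd_natCard _ ha))
  have h3 : u ∈ N[P.K y] := P.norm_of_comm hy1 h2 hx (hux x (Subgroup.mem_zpowers x)).symm
  have h4 := h1 (u * y * u⁻¹ * y⁻¹) (by
      rw [show u * y * u⁻¹ * y⁻¹ = u * (y * u⁻¹ * y⁻¹) by group]
      exact A.mul_mem hu (hA.normal.conj_mem _ (A.inv_mem hu) y))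
    (Subgroup.mul_mem _ (conj_mem_of_norm h3 (P.mem y)) (Subgroup.inv_mem _ (P.mem y)))
  rw [mul_inv_eq_one, mul_inv_eq_iff_eq_mul] at h4
  exact hy ((P.prime_of_comm hy1 (fun h => hu1 (h1 u hu h)) h4.symm).2 ▸
    prime_dvd_orderOf_of_mem_isPGroup hAp hu hu1)

theorem exists_pow_eq_one {g : G} (hg : p ∣ orderOf g) : ∃ k : ℕ, g ^ p ^ k = 1 := by
  obtain ⟨k, m, hm, e⟩ := Nat.exists_eq_pow_mul_and_not_dvd (orderOf_pos g).ne' p hp.ne_one
  refine ⟨k, P.eq_one_of_comm hA hp he hle (x := g ^ m) (k := k) (fun h => hm ?_) ?_ (fun h => hm ?_) (by group)⟩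
  · exact hg.trans (orderOf_dvd_of_pow_eq_one h)
  · rw [← pow_mul, mul_comm, ← e, pow_orderOf_eq_one]
  · exact h.trans (orderOf_dvd_of_pow_eq_one (by rw [← pow_mul, ← e, pow_orderOf_eq_one]))

theorem exists_fixed {g : G} (hg : p ∣ orderOf g) : ∃ a ∈ A, a ≠ 1 ∧ g * a = a * g := by
  haveI := Fact.mk hp
  obtain ⟨k, hk⟩ := P.exists_pow_eq_one hA hp he hle hg
  obtain ⟨j, -, hj⟩ := (Nat.dvd_prime_pow hp).1 (orderOf_dvd_of_pow_eq_one hk)
  obtain ⟨a, ha, ha1⟩ := ne_bot_iff.1 hA.ne_bot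
  obtain ⟨u, hu, hu1, hux⟩ := CL.Char.exists_ne_one_commute_of_isPGroup A (Subgroup.zpowers g)
    (IsPGroup.of_card (p := p) (by rw [Nat.card_zpowers, hj])) (by rw [norm_eq_top_iff.2 hA.normal]; exact le_top)
    ((prime_dvd_orderOf_of_mem_isPGroup (isPGroup_of_isElementaryAbelian he) ha ha1).trans
      (Subgroup.orderOf_dvd_natCard _ ha))
  exact ⟨u, hu, hu1, hux g (Subgroup.mem_zpowers g)⟩

omit hA hp hle in
/-- If `g` centralises `a ∈ A#` and `g ^ p ≠ 1`, the elements `v g` with `v ∈ C(A) \ K a` have order `p`. -/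
theorem mul_pow_eq_one {g a v : G} (ha : a ∈ A) (ha1 : a ≠ 1) (hga : g * a = a * g) (hg : g ^ p ≠ 1)
    (hv : v ∈ C[A]) (hv' : v ∉ P.K a) : (v * g) ^ p = 1 := by
  have key : ∀ w : G, w * a = a * w → w ∉ P.K a → w ^ p = 1 := fun w hw hw' => by
    rw [← orderOf_dvd_iff_pow_eq_one, (P.prime_of_comm ha1 hw' hw.symm).2, orderOf_dvd_iff_pow_eq_one]
    exact he.2 a ha
  have hgK : g ∈ P.K a := by_contra fun h => hg (key g hga h)
  refine key _ ?_ fun h => hv' ((Subgroup.mul_mem_cancel_right _ hgK).1 h)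
  rw [mul_assoc, hga, ← mul_assoc, ← mem_cent.1 hv a ha, mul_assoc]

theorem pow_eq_one_of_ne_two (hp2 : p ≠ 2) {g : G} (hg : p ∣ orderOf g) : g ^ p = 1 := by
  haveI := hA.normal
  haveI := he.1
  obtain ⟨a, ha, ha1, hga⟩ := P.exists_fixed hA hp he hle hg
  by_contra hgp
  obtain ⟨v, hv, hvK⟩ := SetLike.not_le_iff_exists.1 (hle a ha1)
  have hAC : A ≤ C[A] := abelian_iff.1 he.1
  have hvv : v * v ∉ P.K a := fun h => hvK (by
    obtain ⟨m, hm⟩ := hp.odd_of_ne_two hp2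
    have : v = ((v * v) ^ m)⁻¹ := by
      rw [eq_inv_iff_mul_eq_one, ← pow_two, ← pow_mul, ← pow_succ', ← hm]; exact he.2 v hv
    rw [this]; exact Subgroup.inv_mem _ (Subgroup.pow_mem _ h m))
  have h1 := CL.Fgs.coe_prod_conjNormal_mul_pow (⟨v, hv⟩ : A) g p
  have h2 := CL.Fgs.coe_prod_conjNormal_mul_pow (⟨v, hv⟩ * ⟨v, hv⟩ : A) g p
  simp only [map_mul, Finset.prod_mul_distrib, Subgroup.coe_mul] at h2
  rw [P.mul_pow_eq_one he ha ha1 hga hgp (hAC hv) hvK] at h1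
  rw [P.mul_pow_eq_one he ha ha1 hga hgp (hAC (A.mul_mem hv hv)) hvv, mul_assoc, h1, mul_one] at h2
  rw [h2, one_mul] at h1
  exact hgp h1

end NotLe

theorem perm_four {A : Subgroup G} (hA : IsMinNormal A) (he : IsElementaryAbelian 2 A)
    (hle : ∀ x : G, x ≠ 1 → ¬ A ≤ P.K x) {g : G} (hg : 2 ∣ orderOf g) (hg2 : g ^ 2 ≠ 1) :
    Nonempty (G ≃* Equiv.Perm (Fin 4)) := by
  haveI := hA.normal
  haveI : Fact (Nat.Prime 2) := ⟨Nat.prime_two⟩
  have hp := Nat.prime_two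
  have hAC : A ≤ C[A] := abelian_iff.1 he.1
  have sq : ∀ c ∈ C[A], c * c = 1 := fun c hc => by rw [← pow_two]; exact P.cent_pow he hle hc
  have comm : ∀ c ∈ C[A], ∀ d ∈ C[A], c * d = d * c := fun c hc d hd => by
    have e := sq _ (Subgroup.mul_mem _ hc hd)
    calc c * d = (c * d)⁻¹ := (inv_eq_of_mul_eq_one_right e).symm
      _ = d * c := by rw [mul_inv_rev, inv_eq_of_mul_eq_one_right (sq c hc), inv_eq_of_mul_eq_one_right (sq d hd)]
  obtain ⟨a, ha, ha1, hga⟩ := P.exists_fixed hA hp he hle hg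
  obtain ⟨v, hv, hvK⟩ := SetLike.not_le_iff_exists.1 (hle a ha1)
  have h1 : ∀ w ∈ C[A], w ∉ P.K a → g * w * g⁻¹ = w * (g * g)⁻¹ := by
    intro w hw hwK
    have := P.mul_pow_eq_one he ha ha1 hga hg2 hw hwK
    rw [pow_two] at this
    calc g * w * g⁻¹ = w⁻¹ * (w * g * (w * g)) * (g * g)⁻¹ := by group
      _ = _ := by rw [this, mul_one, inv_eq_of_mul_eq_one_right (sq w hw)]
  have hn : (C[A]).Normal := inferInstance
  have hc : (g * g)⁻¹ ∈ C[A] := by
    have := hn.conj_mem v (hAC hv) g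
    rw [h1 v (hAC hv) hvK] at this
    exact (Subgroup.mul_mem_cancel_left _ (hAC hv)).1 this
  have h2 : ∀ w ∈ C[A], w ∉ P.K a → ∀ w' ∈ C[A], w' ∉ P.K a → g * (w * w') * g⁻¹ = w * w' := by
    intro w hw hwK w' hw' hwK'
    calc g * (w * w') * g⁻¹ = g * w * g⁻¹ * (g * w' * g⁻¹) := by group
      _ = w * ((g * g)⁻¹ * w') * (g * g)⁻¹ := by rw [h1 w hw hwK, h1 w' hw' hwK']; group
      _ = w * w' * ((g * g)⁻¹ * (g * g)⁻¹) := by rw [comm _ hc w' hw']; group
      _ = _ := by rw [sq _ hc, mul_one]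
  have h3 : (C1[g]).relIndex C[A] ∣ 2 := by
    refine Subgroup.index_dvd_two_iff.2 ⟨⟨v, hAC hv⟩, fun b => ?_⟩
    by_cases hb : (b : G) ∈ P.K a
    · right
      have := h2 (b * v) (Subgroup.mul_mem _ b.2 (hAC hv))
        (fun e => hvK ((Subgroup.mul_mem_cancel_left _ hb).1 e)) v (hAC hv) hvK
      rw [mul_assoc (b : G), sq v (hAC hv), mul_one, mul_inv_eq_iff_eq_mul] at this
      exact mem_c1.2 this.symm
    · left
      have := h2 b b.2 hb v (hAC hv) hvK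
      rw [mul_inv_eq_iff_eq_mul] at this
      exact mem_c1.2 this.symm
  have hgC : g ∉ C[A] := fun e => hg2 (by rw [pow_two, sq g e])
  have hgg : (g : G ⧸ C[A]) * g = 1 := by
    rw [← QuotientGroup.mk_mul, QuotientGroup.eq_one_iff]; exact inv_mem_iff.1 hc
  have hO := pCore_quotient_centralizer_eq_bot A (isPGroup_of_isElementaryAbelian he) hA.min
  obtain ⟨h, hh1, hho, -, k, n, hn'⟩ := CL.Inv.invol_inverts_odd_of_not_mem hgg fun hP =>
    hgC ((QuotientGroup.eq_one_iff g).1 (eq_one_of_mem_of_eq_bot (pCore_eq_bot_iff.1 hO _ inferInstance hP)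
      (Subgroup.subset_normalClosure rfl)))
  obtain ⟨k, rfl⟩ := QuotientGroup.mk_surjective k
  have hy : (((g * (k * g * k⁻¹)) ^ n : G) : G ⧸ C[A]) = h := by rw [← hn']; simp
  have h4 : C[A] ⊓ (C1[g] ⊓ C1[k * g * k⁻¹]) = ⊥ := by
    rw [eq_bot_iff]
    intro u hu
    by_contra hu1
    have hyu : (g * (k * g * k⁻¹)) ^ n ∈ C1[u] :=
      Subgroup.zpow_mem _ (Subgroup.mul_mem _ (mem_c1_comm.1 hu.2.1) (mem_c1_comm.1 hu.2.2)) n
    generalize (g * (k * g * k⁻¹)) ^ n = y at hy hyu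
    by_cases h2y : 2 ∣ orderOf y
    · obtain ⟨j, hj⟩ := P.exists_pow_eq_one hA hp he hle h2y
      have h5 : orderOf h ∣ 2 ^ j := orderOf_dvd_of_pow_eq_one (by rw [← hy, ← QuotientGroup.mk_pow, hj]; rfl)
      exact hh1 (orderOf_eq_one_iff.1 (Nat.eq_one_of_dvd_coprimes
        (Nat.Coprime.pow_left j (Nat.coprime_two_left.2 hho)) h5 dvd_rfl))
    · have := P.eq_one_of_comm hA hp he hle hu1 (k := 1) (by rw [pow_one, pow_two, sq u hu.1]) h2y
        (mem_c1.1 hyu).symm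
      exact hh1 (by rw [← hy, this]; rfl)
  have h5 : Nat.card C[A] ≤ 4 := by
    have h6 : (C1[k * g * k⁻¹]).relIndex C[A] = (C1[g]).relIndex C[A] := by
      rw [← cj_c1, ← relIndex_conj_smul k C1[g] C[A], cj_eq_self (H := C[A]) (by rw [norm_eq_top_iff.2 hn]; trivial)]
    have h7 := Subgroup.relIndex_inf_le (H := C1[g]) (K := C1[k * g * k⁻¹]) (L := C[A])
    rw [← Subgroup.inf_relIndex_left, h4, Subgroup.relIndex_bot_left, h6] at h7
    have := Nat.le_of_dvd two_pos h3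
    nlinarith
  have h6 : Nat.card A = 4 ∧ Nat.card C[A] = 4 := by
    obtain ⟨j, hj⟩ := (isPGroup_of_isElementaryAbelian he).exists_card_eq
    have h7 := card_lt_card_of_lt (inf_lt_left.2 (hle a ha1))
    have h8 := (Subgroup.one_lt_card_iff_ne_bot (A ⊓ P.K a)).2 (ne_bot_of_mem (H := A ⊓ P.K a) ⟨ha, P.mem a⟩ ha1)
    have h9 := Subgroup.card_le_of_le hAC
    have h10 : Nat.card A ≠ 3 := by
      rw [hj]
      rcases j with _ | j
      · simp
      · rw [pow_succ]; omega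
    omega
  have h7 : (C[A]).index ∣ 6 := by
    have := CL.Inv.relIndex_centralizer_dvd_card_mulAut A
    rw [norm_eq_top_iff.2 hA.normal, Subgroup.relIndex_top_right] at this
    have h8 := CL.Perm.card_mulAut_dvd_factorial A
    rw [h6.1] at h8
    exact this.trans h8
  have h8 : 2 ∣ (C[A]).index := orderOf_mk_dvd_index hp hgC (k := 1) (by rw [pow_one, pow_two]; exact inv_mem_iff.1 hc)
  have h9 : orderOf h ∣ (C[A]).index := orderOf_dvd_natCard h
  have h10 : (C[A]).index = 6 := by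
    have h11 : (C[A]).index ≠ 2 := fun e => by
      rw [e, Nat.dvd_prime hp] at h9
      rcases h9 with h9 | h9
      · exact hh1 (orderOf_eq_one_iff.1 h9)
      · rw [h9] at hho; exact absurd hho (by decide)
    have := Nat.le_of_dvd (by omega) h7
    generalize (C[A]).index = m at h7 h8 h11 this
    interval_cases m <;> simp_all
  refine Cfsg.Agent.S1012.result (by rw [← (C[A]).card_mul_index, h6.2, h10]) fun w hw => ?_
  obtain ⟨j, hj⟩ := P.exists_pow_eq_one hA hp he hle (g := w) (by rw [hw]; norm_num)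
  have := (show 3 ∣ orderOf w by rw [hw]; norm_num).trans (orderOf_dvd_of_pow_eq_one hj)
  exact absurd (Nat.prime_three.dvd_of_dvd_pow this) (by norm_num)

include P in
/-- Baer's theorem. -/
theorem baer (h : ¬ NoAb G) : Nonempty (G ≃* Equiv.Perm (Fin 4)) ∨ Hughes G ∨ IsFrob G := by
  obtain ⟨A, p, hp, hA, he⟩ : ∃ (A : Subgroup G) (p : ℕ), p.Prime ∧ IsMinNormal A ∧ IsElementaryAbelian p A := by
    unfold NoAb at h
    push Not at h
    obtain ⟨B, h1, h2, h3⟩ := h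
    obtain ⟨A, p, hp, hA, -, he⟩ := exists_isMinNormal_isElementaryAbelian_le B h3 (sol_of_abelian h2)
    exact ⟨A, p, hp, hA, he⟩
  haveI := hA.normal
  haveI := Fact.mk hp
  obtain ⟨a, ha, ha1⟩ := ne_bot_iff.1 hA.ne_bot
  by_cases hle : ∀ x : G, x ≠ 1 → ¬ A ≤ P.K x
  swap
  · push Not at hle
    obtain ⟨x, hx, hle⟩ := hle
    exact Or.inr (P.normal_comp hx (norm_eq_top_iff.1 (eq_top_iff.2 fun g _ =>
      P.ti hx (hle ha) ha1 (hle (hA.normal.conj_mem a ha g)))))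
  by_cases hC : C[A] = ⊤
  · exact Or.inr (Or.inl ⟨p, hp, hughes_of (Y := ⊥) (fun e => ha1 (by simpa using e.ge (Subgroup.mem_top a)))
      fun g _ => P.cent_pow he hle (hC ▸ Subgroup.mem_top g)⟩)
  by_cases hg : ∀ g : G, p ∣ orderOf g → g ^ p = 1
  · have hi := not_dvd_index_cent hA hp (isPGroup_of_isElementaryAbelian he) (fun g _ => hg g)
      fun g hgC hd v hv e => by_contra fun hv1 => hgC (by
        rw [P.eq_one_of_comm hA hp he hle hv1 (k := 1) (by rw [pow_one]; exact he.2 v hv) hd e.symm]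
        exact Subgroup.one_mem _)
    refine Or.inr (Or.inr (exists_frob_of_cent (ne_bot_of_mem (abelian_iff.1 he.1 ha) ha1) hC fun c hc hc1 g e => ?_))
    by_contra hgC
    by_cases hd : p ∣ orderOf g
    · exact hi (orderOf_mk_dvd_index hp hgC (k := 1) (by rw [pow_one, hg g hd]; exact Subgroup.one_mem _))
    · exact hgC (by
        rw [P.eq_one_of_comm hA hp he hle hc1 (k := 1) (by rw [pow_one]; exact P.cent_pow he hle hc) hd e.symm]
        exact Subgroup.one_mem _)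
  push Not at hg
  obtain ⟨g, hg1, hg2⟩ := hg
  obtain rfl : p = 2 := by_contra fun hp2 => hg2 (P.pow_eq_one_of_ne_two hA hp he hle hp2 hg1)
  exact Or.inl (P.perm_four hA he hle hg1 hg2)

end Part

end CL.Cit
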