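/-
Groups with a partition, part 3 (Kegel, Suzuki): groups without nontrivial abelian normal subgroups.
-/
import Cfsg.Agent.Cit.Part2

set_option autoImplicit false

open Cfsg CL.Odd CL.Grp CL.Inv.SE
open scoped Pointwise IsMulCommutative

namespace CL.Cit

universe u

variable {G : Type u} [Group G]

/-- An element `u` with `u² = 1` normalising `D` and without fixed points on `D` inverts `D`. -/
theorem inverts_of_fpf_inv {D : Subgroup G} [Finite D] {u : G} (hu : u ∈ N[D]) (huu : u * u = 1)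
    (hf : ∀ d ∈ D, d * u = u * d → d = 1) {d : G} (hd : d ∈ D) : u * d * u⁻¹ = d⁻¹ := by
  obtain ⟨e, -, he⟩ := exists_conj_eq_mul hu hf hd
  have h1 : u * d * (u * d) = 1 := by
    rw [← he]
    calc e * u * e⁻¹ * (e * u * e⁻¹) = e * (u * u) * e⁻¹ := by group
      _ = 1 := by rw [huu]; group
  rw [inv_eq_of_mul_eq_one_right huu, eq_inv_iff_mul_eq_one, ← h1, mul_assoc]

namespace Part

variable (P : Part G) {x t u w : G}

theorem inverts (hx : x ≠ 1) (hu : u ∈ N[P.K x]) (hu' : u ∉ P.K x) (huu : u * u = 1) (hw : w ∈ P.K x) :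
    u * w * u⁻¹ = w⁻¹ := by
  have h := P.coset_pow hx hu hu' (n := 2) (by rw [pow_two, huu]) hw
  rw [pow_two] at h
  rw [inv_eq_of_mul_eq_one_right huu, eq_inv_iff_mul_eq_one]
  calc u * w * u * w = w⁻¹ * (w * u * (w * u)) * w⁻¹⁻¹ * (w⁻¹ * u⁻¹ * u * w) := by group
    _ = 1 := by rw [h]; group

theorem comm_of_inverts (hx : x ≠ 1) (hu : u ∈ N[P.K x]) (hu' : u ∉ P.K x) (huu : u * u = 1) {a b : G}
    (ha : a ∈ P.K x) (hb : b ∈ P.K x) : a * b = b * a := by
  apply inv_injective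
  rw [← P.inverts hx hu hu' huu (Subgroup.mul_mem _ ha hb), mul_inv_rev, ← P.inverts hx hu hu' huu ha,
    ← P.inverts hx hu hu' huu hb]
  group

variable [Finite G]

theorem sq_of_comm (ht : orderOf t = 2) (hu : u * t = t * u) (hu' : u ∉ P.K t) : u * u = 1 :=
  mul_self_of_inv ((P.prime_of_comm (ne_one_of_inv ht) hu' hu.symm).2.trans ht)

/-- The case of an involution whose centraliser lies in its component. -/
theorem cent_le_of_inv {z : G} (hz : orderOf z = 2) (hc : ∀ g : G, g * z = z * g → g ∈ P.K z)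
    (hn : ¬ (P.K z).Normal) (hnil : Group.IsNilpotent (P.K z)) {h : G} (hh : h ∈ P.K z) (hh1 : h ≠ 1)
    (hx : x * h = h * x) : x ∈ P.K z := by
  have hz1 := ne_one_of_inv hz
  have h1 : ∀ s ∈ N[P.K z], s * s = 1 → s ∈ P.K z := fun s hs hss => by_contra fun hs' => hs' (hc s (by
    have := P.inverts hz1 hs hs' hss (P.mem z)
    rwa [inv_eq_of_inv hz, mul_inv_eq_iff_eq_mul] at this))
  have hzM : z ∈ N[P.K z] := le_norm_self _ (P.mem z)
  have hse : IsStronglyEmbedded N[P.K z] := se_iff.2 ⟨fun e => hn (norm_eq_top_iff.1 e),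
    (even_card_iff _).2 ⟨z, hzM, hz⟩, fun s hs hs2 g hg => P.ti hz1 (h1 s hs (mul_self_of_inv hs2))
      (ne_one_of_inv hs2) (h1 _ hg (mul_self_of_inv (inv_conj hs2 g)))⟩
  obtain ⟨g, hg⟩ : ∃ g : G, g ∉ N[P.K z] := by
    by_contra hg
    push Not at hg
    exact hn (norm_eq_top_iff.1 (eq_top_iff.2 fun g _ => hg g))
  have hu := inv_conj hz g
  have huM : g * z * g⁻¹ ∉ N[P.K z] := fun e => hg (mem_of_conj_mem hse hzM hz e)
  have hnil' : Group.IsNilpotent (P.K (g * z * g⁻¹)) := by rw [P.conj]; exact isNilpotent_cj.2 hnil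
  have hc' : ∀ c : G, c * (g * z * g⁻¹) = g * z * g⁻¹ * c → c ∈ P.K (g * z * g⁻¹) := fun c e => by
    rw [P.conj, mem_cj]
    refine hc _ ?_
    calc g⁻¹ * c * g * z = g⁻¹ * (c * (g * z * g⁻¹)) * g := by group
      _ = _ := by rw [e]; group
  generalize g * z * g⁻¹ = u at hu huM hnil' hc'
  by_contra hxK
  have hxM : x ∈ N[P.K z] := P.norm_of_comm hz1 hh hh1 hx
  obtain ⟨hr, hxr⟩ := P.prime_of_comm hh1 (y := x) (by rwa [P.eq hz1 hh1 hh]) hx.symm
  obtain ⟨d, hd1, -, hd3, hd4, -⟩ := (uniqueFix hse).exists_conj_of_swap hz (inv_conj hz x) hu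
    ((smul_one_eq_iff _ z).2 hzM) ((smul_one_eq_iff _ _).2 (Subgroup.mul_mem _ (Subgroup.mul_mem _ hxM hzM) (Subgroup.inv_mem _ hxM)))
    (fun e => huM ((smul_one_eq_iff _ u).1 e.symm)) rfl
  have hdM := (smul_one_eq_iff _ d).1 hd1
  have h2 : d * x⁻¹ ∈ P.K z := by
    have h3 : x⁻¹ * d ∈ P.K z := hc _ (by
      calc x⁻¹ * d * z = x⁻¹ * (d * z * d⁻¹) * d := by group
        _ = _ := by rw [hd4]; group)
    simpa [mul_assoc] using conj_mem_of_norm hxM h3
  have hdK : d ∉ P.K z := fun e => hxK (inv_mem_iff.1 ((Subgroup.mul_mem_cancel_left _ e).1 h2))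
  have h3 : d ^ orderOf h = 1 := by
    simpa using P.coset_pow hz1 hxM hxK (n := orderOf h) (hxr ▸ pow_orderOf_eq_one x) h2
  have hd : orderOf d = orderOf h := by
    haveI := Fact.mk hr
    exact orderOf_eq_prime h3 fun e => hdK (e ▸ Subgroup.one_mem _)
  have hodd : (orderOf d).Coprime 2 := by
    rw [hd, Nat.coprime_primes hr Nat.prime_two]
    exact fun e => hdK (h1 d hdM (by rw [← pow_two, ← e, h3]))
  haveI := Fact.mk hr
  obtain ⟨v, hv, hv1, hvd⟩ := CL.Char.exists_ne_one_commute_of_isPGroup (P.K z) _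
    (isPGroup_zpowers_of_orderOf_eq hd) (Subgroup.zpowers_le.2 hdM) (Subgroup.orderOf_dvd_natCard _ hh)
  have h4 := inverts_of_fpf_inv (D := C1[d]) (u := u) ?_ (mul_self_of_inv hu) ?_
    (mem_c1.2 (hvd d (Subgroup.mem_zpowers d)).symm)
  · exact huM (P.ti hz1 hv hv1 (h4 ▸ Subgroup.inv_mem _ hv))
  · rw [← cj_eq_self_iff, cj_c1, hd3, c1_inv]
  · intro c hcd hcu
    by_contra hc1
    have hu1 := ne_one_of_inv hu
    have h5 : d ∈ N[P.K u] := P.norm_of_comm hu1 (hc' c hcu) hc1 (mem_c1.1 hcd).symm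
    have h6 : d ^ 2 ∈ P.K u := by
      have : d ^ 2 = d * u * d⁻¹ * u⁻¹ := by
        calc d ^ 2 = d * (d⁻¹)⁻¹ := by rw [inv_inv, pow_two]
          _ = d * (u * d * u⁻¹)⁻¹ := by rw [hd3]
          _ = _ := by group
      rw [this]
      exact Subgroup.mul_mem _ (conj_mem_of_norm h5 (P.mem u)) (Subgroup.inv_mem _ (P.mem u))
    have h7 : d ∈ P.K u := by
      obtain ⟨k, hk⟩ := exists_pow_eq_self_of_coprime hodd.symm
      rw [← hk]; exact Subgroup.pow_mem _ h6 k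
    have h8 := commute_of_mem_isNilpotent hnil' h7 (P.mem u) (hu ▸ hodd)
    rw [← h8.eq, mul_inv_cancel_right] at hd3
    exact hdK (h1 d hdM (eq_inv_iff_mul_eq_one.1 hd3))

theorem mem_of_cent (ht : orderOf t = 2) (hw : w ∈ P.K t) (hww : w * w ≠ 1) {g : G}
    (hg : ∀ y ∈ P.K t, g * y = y * g) : g ∈ P.K t := by
  by_contra hgK
  have ht1 := ne_one_of_inv ht
  have hw1 : w ≠ 1 := fun e => hww (by rw [e, mul_one])
  have h1 := (P.prime_of_comm ht1 hgK (hg t (P.mem t)).symm).2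
  have h2 := (P.prime_of_comm hw1 (y := g) (by rwa [P.eq ht1 hw1 hw]) (hg w hw).symm).2
  exact hww (mul_self_of_inv (h2 ▸ h1.trans ht))

theorem mul_mem_of_inverts (ht : orderOf t = 2) (hw : w ∈ P.K t) (hww : w * w ≠ 1) {a b : G}
    (ha : ∀ y ∈ P.K t, a * y * a⁻¹ = y⁻¹) (hb : ∀ y ∈ P.K t, b * y * b⁻¹ = y⁻¹) : a * b ∈ P.K t :=
  P.mem_of_cent ht hw hww fun y hy => by
    calc a * b * y = a * (b * y * b⁻¹) * a⁻¹ * (a * b) := by group
      _ = _ := by rw [hb y hy, ha _ (Subgroup.inv_mem _ hy), inv_inv]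

/-- A non-elementary component of an involution `t` which does not contain `C(t)` has normaliser `C(t)`. -/
theorem comm_of_norm (ht : orderOf t = 2) (hu : u * t = t * u) (hu' : u ∉ P.K t) (hw : w ∈ P.K t)
    (hww : w * w ≠ 1) {g : G} (hg : g ∈ N[P.K t]) : g * t = t * g := by
  have ht1 := ne_one_of_inv ht
  have huu := P.sq_of_comm ht hu hu'
  have huN : u ∈ N[P.K t] := P.norm_of_comm ht1 (P.mem t) ht1 hu
  have key : ∀ g ∈ N[P.K t], (g ∈ P.K t ∨ 2 ∣ orderOf g) → g * t = t * g := by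
    intro g hg h
    by_cases hgK : g ∈ P.K t
    · exact P.comm_of_inverts ht1 huN hu' huu hgK (P.mem t)
    have := P.inverts ht1 hg hgK (mul_self_of_inv (P.star ht1 hg hgK Nat.prime_two (h.resolve_left hgK)
      (ht ▸ Subgroup.orderOf_dvd_natCard _ (P.mem t)))) (P.mem t)
    rwa [inv_eq_of_inv ht, mul_inv_eq_iff_eq_mul] at this
  by_cases h1 : 2 ∣ orderOf g
  · exact key g hg (Or.inr h1)
  have h2 : 2 ∣ orderOf (u * g) := by
    by_contra h2
    have h3 : g * u * g⁻¹ * u ∈ P.K t := P.mul_mem_of_inverts ht hw hww (fun y hy => by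
      calc g * u * g⁻¹ * y * (g * u * g⁻¹)⁻¹ = g * (u * (g⁻¹ * y * g⁻¹⁻¹) * u⁻¹) * g⁻¹ := by group
        _ = _ := by rw [P.inverts ht1 huN hu' huu (conj_mem_of_norm (Subgroup.inv_mem _ hg) hy)]; group)
      fun y hy => P.inverts ht1 huN hu' huu hy
    haveI : ((P.K t).subgroupOf N[P.K t]).Normal := Subgroup.normal_in_normalizer
    let π := QuotientGroup.mk' ((P.K t).subgroupOf N[P.K t])
    have h4 : π ⟨u, huN⟩ * π ⟨u, huN⟩ = 1 := by rw [← map_mul, ← π.map_one]; congr 1; exact Subtype.ext huu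
    have h5 : Commute (π ⟨u, huN⟩) (π ⟨g, hg⟩) := by
      have h6 : π (⟨g, hg⟩ * ⟨u, huN⟩ * (⟨g, hg⟩)⁻¹ * ⟨u, huN⟩) = 1 := (QuotientGroup.eq_one_iff _).2 h3
      simp only [map_mul, map_inv] at h6
      rw [← h4, mul_left_inj, mul_inv_eq_iff_eq_mul] at h6
      exact h6.symm
    have h6 : (π ⟨u, huN⟩ * π ⟨g, hg⟩) ^ (orderOf (u * g) * orderOf g) = 1 := by
      rw [← map_mul, ← map_pow, ← π.map_one]; congr 1
      exact Subtype.ext (by simp [pow_mul])
    have h7 : π ⟨g, hg⟩ ^ (orderOf (u * g) * orderOf g) = 1 := by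
      rw [← map_pow, ← π.map_one]; congr 1
      exact Subtype.ext (by simp [mul_comm (orderOf (u * g)), pow_mul])
    obtain ⟨k, hk⟩ : Odd (orderOf (u * g) * orderOf g) :=
      (Nat.not_even_iff_odd.1 fun e => h2 e.two_dvd).mul (Nat.not_even_iff_odd.1 fun e => h1 e.two_dvd)
    rw [h5.mul_pow, h7, mul_one, hk, pow_succ, pow_mul, pow_two, h4, one_pow, one_mul] at h6
    exact hu' ((QuotientGroup.eq_one_iff (⟨u, huN⟩ : N[P.K t])).1 h6)
  have h3 := key _ (Subgroup.mul_mem _ huN hg) (Or.inr h2)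
  rw [mul_assoc, ← mul_assoc t, ← hu, mul_assoc] at h3
  exact mul_left_cancel h3

include P in
/-- The theorem of Kegel and Suzuki. -/
theorem of_noAb [Nontrivial G] (hA : NoAb G) : IsFrob G ∨ IsL2Even G ∨ Lie.IsoSuzuki G ∨
    ∃ (F : Type) (_ : Field F) (_ : Fintype F), 3 < Fintype.card F ∧ Odd (Fintype.card F) ∧
      (Nonempty (G ≃* Matrix.ProjectiveSpecialLinearGroup (Fin 2) F) ∨
        Nonempty (G ≃* Matrix.ProjGenLinGroup (Fin 2) F)) := by
  by_cases hN : ∀ x : G, x ≠ 1 → ∃ w ∈ N[P.K x], w ∉ P.K x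
  swap
  · push Not at hN
    obtain ⟨x, hx, hN⟩ := hN
    exact Or.inl ⟨P.K x, frob_of_isMalnormal (fun h hh hh1 g hg => hN g (P.ti hx hh hh1 hg))
      (ne_bot_of_mem (P.mem x) hx) (P.ne_top hx)⟩
  refine Or.inr (or_assoc.1 ?_)
  have hnil : ∀ x : G, x ≠ 1 → Group.IsNilpotent (P.K x) := fun x hx => by
    obtain ⟨w, hw, hw'⟩ := hN x hx
    exact P.nil hx hw hw'
  have hnn : ∀ x : G, x ≠ 1 → ¬ (P.K x).Normal := fun x hx hn => by
    haveI := hnil x hx
    exact ne_bot_of_mem (P.mem x) hx (hA.eq_bot hn inferInstance)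
  by_cases hII : ∀ t : G, orderOf t = 2 → ∃ u : G, u * t = t * u ∧ u ∉ P.K t
  swap
  · push Not at hII
    obtain ⟨z, hz, hc⟩ := hII
    have hz1 := ne_one_of_inv hz
    obtain ⟨w, hw, hw'⟩ := hN z hz1
    exact Or.inl (ti_of_even ((even_card_iff _).2 ⟨z, P.mem z, hz⟩)
      (fun h hh hh1 g hg => P.cent_le_of_inv hz hc (hnn z hz1) (hnil z hz1) hh hh1 hg)
      (fun h hh hh1 g hg => P.ti hz1 hh hh1 hg) (hnn z hz1) hw hw').2
  have comm : ∀ t : G, orderOf t = 2 → ∀ a ∈ P.K t, ∀ b ∈ P.K t, a * b = b * a := fun t ht a ha b hb => by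
    obtain ⟨u, hu, hu'⟩ := hII t ht
    have ht1 := ne_one_of_inv ht
    exact P.comm_of_inverts ht1 (P.norm_of_comm ht1 (P.mem t) ht1 hu) hu' (P.sq_of_comm ht hu hu') ha hb
  by_cases hb : ∃ z : G, orderOf z = 2 ∧ Odd (C1[z]).index ∧ ∃ w ∈ P.K z, w * w ≠ 1
  · obtain ⟨z, hz, ho, w, hw, hww⟩ := hb
    obtain ⟨u, hu, hu'⟩ := hII z hz
    have hz1 := ne_one_of_inv hz
    have hi : ∀ u : G, u * z = z * u → u ∉ P.K z → ∀ y ∈ P.K z, u * y * u⁻¹ = y⁻¹ := fun u hu hu' y hy =>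
      P.inverts hz1 (P.norm_of_comm hz1 (P.mem z) hz1 hu) hu' (P.sq_of_comm hz hu hu') hy
    refine Or.inr (DihHyp.concl (z := z) (u := u) (X := P.K z) ⟨hz, P.mem z, comm z hz, hu',
      P.sq_of_comm hz hu hu', hi u hu hu', fun h hh => ?_, fun x hx hx1 g hg =>
        P.comm_of_norm hz hu hu' hw hww (P.ti hz1 hx hx1 hg), ho⟩ hA (fun g v hg hv1 hv hgv c hc => ?_)
      fun j hj => ⟨P.K j, P.mem j, comm j hj, fun h hh => ?_⟩)
    · exact or_iff_not_imp_left.2 fun hK => P.mul_mem_of_inverts hz hw hww (hi h hh hK) (hi u hu hu')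
    · have hvv : v * v ≠ 1 := fun e => by
        rw [inv_of_mul_self e hv1] at hv; exact absurd hv (by decide)
      have hvK : v ∈ P.K g := by_contra fun hK => hvv (P.sq_of_comm hg hgv.symm hK)
      obtain ⟨s, hs, hs'⟩ := hII g hg
      exact P.comm_of_norm hg hs hs' hvK hvv (P.norm_of_comm (ne_one_of_inv hg) hvK hv1 hc)
    · exact or_iff_not_imp_left.2 fun hK => P.sq_of_comm hj hh hK
  push Not at hb
  haveI : Fact (Nat.Prime 2) := ⟨Nat.prime_two⟩
  obtain ⟨S⟩ : Nonempty (Sylow 2 G) := inferInstance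
  have key : ∀ z : G, orderOf z = 2 → (S : Subgroup G) ≤ C1[z] →
      C1[z] = (S : Subgroup G) ∧ ∀ g ∈ (S : Subgroup G), g * g = 1 := fun z hz hle => by
    have h1 : ∀ g ∈ C1[z], g * g = 1 := fun g hg => by
      by_cases hK : g ∈ P.K z
      · exact hb z hz (Nat.not_even_iff_odd.1 fun e =>
          S.not_dvd_index (e.two_dvd.trans (Subgroup.index_dvd_of_le hle))) g hK
      · exact P.sq_of_comm hz (mem_c1.1 hg) hK
    exact ⟨S.is_maximal' (fun g => ⟨1, Subtype.ext (by simpa [pow_two] using h1 g g.2)⟩) hle,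
      fun g hg => h1 g (hle hg)⟩
  have he : Even (Nat.card (S : Subgroup G)) := by
    by_contra he
    refine hA.not_isSolvable (feit_thompson ?_)
    rw [← (S : Subgroup G).card_mul_index]
    exact (Nat.not_even_iff_odd.1 he).mul (CL.Transfer.odd_index_sylow_two S)
  obtain ⟨z, hzS, hz, hle⟩ := exists_central_inv_of_nil S.isPGroup'.isNilpotent he
  obtain ⟨hC, hsq⟩ := key z hz hle
  have hab : ∀ a ∈ (S : Subgroup G), ∀ b ∈ (S : Subgroup G), a * b = b * a := fun a ha b hb => by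
    rw [← inv_eq_of_mul_eq_one_right (hsq _ (Subgroup.mul_mem _ ha hb)), mul_inv_rev,
      inv_eq_of_mul_eq_one_right (hsq a ha), inv_eq_of_mul_eq_one_right (hsq b hb)]
  have hCt : ∀ h ∈ (S : Subgroup G), h ≠ 1 → C1[h] = (S : Subgroup G) := fun h hh hh1 =>
    (key h (inv_of_mul_self (hsq h hh) hh1) fun s hs => mem_c1.2 (hab s hs h hh)).1
  obtain ⟨u, hu, hu'⟩ := hII z hz
  refine Or.inl (tiThm G S z hz hC (fun h hh hh1 g hg => hCt h hh hh1 ▸ mem_c1.2 hg)
    (fun h hh hh1 g hg => ?_) ⟨u, hC ▸ mem_c1.2 hu, inv_of_mul_self (P.sq_of_comm hz hu hu')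
      fun e => hu' (e ▸ Subgroup.one_mem _), fun e => hu' (e ▸ P.mem z)⟩ fun hn => ?_).2
  · rw [← cj_eq_self_iff, ← hCt h hh hh1, cj_c1, hCt _ hg (by simpa using hh1), hCt h hh hh1]
  · haveI := S.isPGroup'.isNilpotent
    exact ne_bot_of_mem hzS (ne_one_of_inv hz) (hA.eq_bot hn inferInstance)

end Part

end CL.Cit
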