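/-
Groups in which all nontrivial subgroups of a cyclic subgroup of even order have the same normaliser, part 1:
square roots of involutions.
-/
import Cfsg.Agent.Cit.Part3
import Cfsg.Agent.Cit.PG
import Cfsg.Agent.S4211

set_option autoImplicit false

open Cfsg CL.Odd CL.Grp CL.Inv.SE Subgroup
open scoped Pointwise IsMulCommutative

namespace CL.Cit

universe u

variable {G : Type u} [Group G]

theorem inv_eq_pow_half [Finite G] {a y : G} (ha : a ∈ zpowers y) (h2 : orderOf a = 2) :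
    a = y ^ (orderOf y / 2) ∧ orderOf y = 2 * (orderOf y / 2) := by
  classical
  obtain ⟨i, hi, rfl⟩ := Finset.mem_image.1 (mem_zpowers_iff_mem_range_orderOf.1 ha)
  rw [Finset.mem_range] at hi
  have h1 : orderOf y ∣ i * 2 := orderOf_dvd_of_pow_eq_one (by rw [pow_mul, ← h2, pow_orderOf_eq_one])
  have hi0 : i ≠ 0 := by rintro rfl; simp at h2
  obtain ⟨k, hk⟩ := h1
  have : k = 1 := by
    rcases k with _ | _ | k
    · omega
    · rfl
    · nlinarith
  subst this
  have : orderOf y / 2 = i := by omega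
  rw [this]; exact ⟨rfl, by omega⟩

theorem inv_unique_zpowers [Finite G] {a b y : G} (ha : a ∈ zpowers y) (hb : b ∈ zpowers y) (h1 : orderOf a = 2)
    (h2 : orderOf b = 2) : a = b := (inv_eq_pow_half ha h1).1.trans (inv_eq_pow_half hb h2).1.symm

theorem norm_zpowers_inv [Finite G] {t : G} (ht : orderOf t = 2) : N[zpowers t] = C1[t] := by
  refine le_antisymm (fun g hg => mem_c1.2 ?_) fun g hg => mem_normalizer_zpowers_of_conj_mem_zpowers ?_
  · have h := conj_mem_of_norm hg (mem_zpowers t)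
    obtain ⟨k, hk⟩ := mem_zpowers_iff.1 h
    rcases Int.even_or_odd' k with ⟨j, rfl | rfl⟩
    · rw [zpow_mul, zpow_two, mul_self_of_inv ht, one_zpow] at hk
      exact absurd hk.symm (ne_one_of_inv (inv_conj ht g))
    · rw [zpow_add, zpow_mul, zpow_two, mul_self_of_inv ht, one_zpow, one_mul, zpow_one] at hk
      exact mul_inv_eq_iff_eq_mul.1 hk.symm
  · rw [mem_c1.1 hg, mul_inv_cancel_right]; exact mem_zpowers t

theorem even_orderOf_of_sq_mem [Finite G] {y : G} {H : Subgroup G} (h1 : y ∉ H) (h2 : y * y ∈ H) :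
    Even (orderOf y) := by
  by_contra ho
  obtain ⟨k, hk⟩ := Nat.not_even_iff_odd.1 ho
  have : y⁻¹ = (y * y) ^ k := by
    rw [inv_eq_iff_mul_eq_one, ← pow_two, ← pow_mul, ← pow_succ', ← hk, pow_orderOf_eq_one]
  exact h1 (inv_mem_iff.1 (this ▸ H.pow_mem h2 k))

theorem IsL2Even.sq_of_even (h : IsL2Even G) {x : G} (hx : Even (orderOf x)) : x * x = 1 := by
  obtain ⟨F, _, _, n, -, hF, ⟨e⟩⟩ := h
  haveI := charP_two_of_card hF
  have h2 := CL.Chev.Sz.two_eq_zero_of_card hF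
  have he := CL.SL2.even_card_of_two_eq_zero h2
  have h1 : 1 < Fintype.card F := Fintype.one_lt_card
  have h3 : orderOf x ∈ CL.Perm.Spec (Matrix.ProjectiveSpecialLinearGroup (Fin 2) F) := ⟨e x, e.orderOf_eq x⟩
  rw [CL.Perm.spec_PSL2 2, CL.SL2.gcd_two_of_eq h2] at h3
  obtain ⟨c, hc⟩ := he
  rcases h3 with h | h | h
  · rw [← pow_two]; exact orderOf_dvd_iff_pow_eq_one.1 h
  · have := hx.two_dvd.trans h
    omega
  · have := hx.two_dvd.trans h
    omega

/-- The TI theorem for an abelian centraliser. -/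
theorem isL2Even_of_abelian_cent [Finite G] {z : G} {X : Subgroup G} (hz : orderOf z = 2) (hC : C1[z] = X)
    (hab : ∀ a ∈ X, ∀ b ∈ X, a * b = b * a) (hc : ∀ h ∈ X, h ≠ 1 → ∀ g : G, g * h = h * g → g ∈ X)
    (htwo : ∃ t ∈ X, orderOf t = 2 ∧ t ≠ z) (hn : ¬ X.Normal) : IsL2Even G := by
  have hCt : ∀ h ∈ X, h ≠ 1 → C1[h] = X := fun h hh hh1 =>
    le_antisymm (fun g hg => hc h hh hh1 g (mem_c1.1 hg)) fun g hg => mem_c1.2 (hab g hg h hh)
  refine (tiThm G X z hz hC hc (fun h hh hh1 g hg => ?_) htwo hn).2.resolve_right fun hs => ?_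
  · rw [← cj_eq_self_iff, ← hCt h hh hh1, cj_c1, hCt _ hg (by simpa using hh1), hCt h hh hh1]
  obtain ⟨F, _, _, m, -, -, ⟨M⟩⟩ := exists_model_of_isoSuzuki hs
  obtain ⟨g, rfl⟩ := M.exists_conj_of_involution (ne_one_of_inv hz) (mul_self_of_inv hz)
  obtain ⟨a', ha'⟩ := M.exists_not_comm (one_ne_zero (α := F)) 0
  have key : ∀ a b : F, g * M.T a b * g⁻¹ ∈ X := fun a b => hC ▸ mem_c1.2 (by
    calc g * M.T a b * g⁻¹ * (g * M.T 0 1 * g⁻¹) = g * (M.T a b * M.T 0 1) * g⁻¹ := by group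
      _ = g * (M.T 0 1 * M.T a b) * g⁻¹ := by rw [M.T_mul_T_zero, M.T_zero_mul_T, add_comm]
      _ = _ := by group)
  apply ha'
  have := hab _ (key 1 0) _ (key a' 0)
  simp only [mul_assoc, inv_mul_cancel_left, mul_right_inj] at this
  simpa only [← mul_assoc, mul_left_inj] using this

/-- Transfer into a subgroup of odd index modulo a strongly closed subgroup of index two. -/
theorem exists_index_two_of_closed [Finite G] (H M : Subgroup G) (hH : Odd H.index) (hM : M.relIndex H = 2)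
    (h : ∀ m ∈ M, m ∈ H → ∀ g : G, g * m * g⁻¹ ∈ H → g * m * g⁻¹ ∈ M) :
    ∃ N : Subgroup G, (∀ a b : G, a ∉ N → b ∉ N → a * b ∈ N) ∧ ∀ x ∈ H, x ∈ N ↔ x ∈ M := by
  classical
  let ϕ : H →* ℤˣ :=
    { toFun := fun h => if (h : G) ∈ M then 1 else -1
      map_one' := by simp
      map_mul' := fun a b => by
        have := mul_mem_iff_of_index_two hM (a := a) (b := b)
        simp only [mem_subgroupOf, coe_mul] at this
        by_cases ha : (a : G) ∈ M <;> by_cases hb : (b : G) ∈ M <;> simp [ha, hb, this] }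
  refine ⟨(MonoidHom.transfer ϕ).ker, fun a b ha hb => ?_, fun x hx => ?_⟩
  · rw [MonoidHom.mem_ker] at ha hb ⊢
    rw [map_mul, (Int.units_eq_one_or _).resolve_left ha, (Int.units_eq_one_or _).resolve_left hb]; simp
  have h3 : MonoidHom.transfer ϕ x = ϕ ⟨x, hx⟩ ^ H.index := by
    refine CL.Transfer.transfer_eq_pow_of_conj ϕ x _ fun k g hg => ?_
    rw [← map_pow]
    have : g⁻¹ * x ^ k * g ∈ M ↔ x ^ k ∈ M := ⟨fun e => by
      simpa [mul_assoc] using h _ e hg g (by simpa [mul_assoc] using H.pow_mem hx k),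
      fun e => by simpa using h _ e (H.pow_mem hx k) g⁻¹ (by simpa using hg)⟩
    exact if_congr this rfl rfl
  rw [MonoidHom.mem_ker, h3]
  by_cases hxM : x ∈ M
  · simp [ϕ, hxM]
  · simp [ϕ, hxM, hH.neg_one_pow]

/-- All nontrivial subgroups of a cyclic subgroup of even order have the same normaliser. -/
def CycN (G : Type*) [Group G] : Prop :=
  ∀ x y : G, Even (orderOf x) → y ∈ zpowers x → y ≠ 1 → N[zpowers y] = N[zpowers x]

/-- `x` is a square root of the involution `t`. -/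
structure Root (x t : G) : Prop where
  ht : orderOf t = 2
  sq : x * x = t

namespace Root

variable {x x' t t' c : G}

theorem comm (h : Root x t) : x * t = t * x := by rw [← h.sq, mul_assoc]

theorem tt (h : Root x t) : t * t = 1 := mul_self_of_inv h.ht

theorem inv_eq (h : Root x t) : x⁻¹ = x * t := by
  rw [inv_eq_iff_mul_eq_one, ← mul_assoc, h.sq, h.tt]

theorem ne_inv (h : Root x t) : x ≠ x⁻¹ := fun e =>
  ne_one_of_inv h.ht (h.sq ▸ eq_inv_iff_mul_eq_one.1 e)

theorem inv (h : Root x t) : Root x⁻¹ t := ⟨h.ht, by rw [← mul_inv_rev, h.sq, inv_eq_of_inv h.ht]⟩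

theorem conj (h : Root x t) (g : G) : Root (g * x * g⁻¹) (g * t * g⁻¹) :=
  ⟨inv_conj h.ht g, by rw [← h.sq]; group⟩

theorem mul (h : Root x t) (h' : Root x' t') (hne : t ≠ t') (hc : x * x' = x' * x) : Root (x * x') (t * t') := by
  have hc' : Commute x x' := hc
  have h1 : x * x' * (x * x') = t * t' := by rw [← pow_two, hc'.mul_pow, pow_two, pow_two, h.sq, h'.sq]
  have h2 : Commute t t' := h.sq ▸ h'.sq ▸ (hc'.mul_left hc').mul_right (hc'.mul_left hc')
  refine ⟨inv_of_mul_self ?_ fun e => hne ?_, h1⟩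
  · rw [← pow_two, h2.mul_pow, pow_two, pow_two, h.tt, h'.tt, mul_one]
  · rw [eq_inv_of_mul_eq_one_left e, inv_eq_of_inv h'.ht]

theorem mul_inv (h : Root x t) {s : G} (hs : s * s = 1) (hc : s * x = x * s) : Root (x * s) t :=
  ⟨h.ht, by rw [mul_assoc, ← mul_assoc s, hc, mul_assoc, hs, mul_one, h.sq]⟩

theorem eq_or [Finite G] (h : Root x t) (h' : Root x' t) (hx : x' ∈ zpowers x) : x' = x ∨ x' = x⁻¹ := by
  have hc : Commute x x' := by
    obtain ⟨k, rfl⟩ := mem_zpowers_iff.1 hx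
    exact Commute.self_zpow x k
  have h1 : x * x' * (x * x') = 1 := by rw [← pow_two, hc.mul_pow, pow_two, pow_two, h.sq, h'.sq, h.tt]
  by_cases h2 : x * x' = 1
  · exact Or.inr (eq_inv_of_mul_eq_one_right h2)
  · have := inv_unique_zpowers (mul_mem (mem_zpowers x) hx) (h.sq ▸ mul_mem (mem_zpowers x) (mem_zpowers x))
      (inv_of_mul_self h1 h2) h.ht
    exact Or.inl (mul_left_cancel (this.trans h.sq.symm))

end Root

namespace CycN

variable [Finite G] (h : CycN G) {x x' t t' c s v y : G}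
include h

theorem even (ht : orderOf t = 2) (hx : t ∈ zpowers x) : N[zpowers x] = C1[t] := by
  rw [← h x t (by rw [(inv_eq_pow_half hx ht).2]; exact even_two_mul _) hx (ne_one_of_inv ht), norm_zpowers_inv ht]

theorem odd (ht : orderOf t = 2) (hv : Odd (orderOf v)) (hv1 : v ≠ 1) (hc : t * v = v * t) :
    N[zpowers v] = C1[t] := by
  have hc' : Commute t v := hc
  obtain ⟨k, hk⟩ := hv
  have h1 : t ∈ zpowers (t * v) := by
    have : (t * v) ^ orderOf v = t := by
      rw [hc'.mul_pow, pow_orderOf_eq_one, mul_one, hk, pow_succ, pow_mul, pow_two, mul_self_of_inv ht]; simp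
    have h0 := npow_mem_zpowers (t * v) (orderOf v)
    rwa [this] at h0
  have h2 : v ∈ zpowers (t * v) := (Subgroup.mul_mem_cancel_left _ h1).1 (mem_zpowers _)
  rw [h _ v (by rw [(inv_eq_pow_half h1 ht).2]; exact even_two_mul _) h2 hv1, h.even ht h1]

theorem dich (hx : Root x t) (hc : c * t = t * c) : c * x * c⁻¹ = x ∨ c * x * c⁻¹ = x⁻¹ := by
  have h1 := hx.conj c
  rw [hc, mul_inv_cancel_right] at h1
  refine hx.eq_or h1 (conj_mem_of_norm ?_ (mem_zpowers x))
  rw [h.even hx.ht (hx.sq ▸ mul_mem (mem_zpowers x) (mem_zpowers x))]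
  exact mem_c1.2 hc

theorem same_sign (hx : Root x t) (hx' : Root x' t') (hne : t ≠ t') (hxx : x * x' = x' * x)
    (hc : c * t = t * c) (hc' : c * t' = t' * c) : c * x * c⁻¹ = x ↔ c * x' * c⁻¹ = x' := by
  have key : ∀ {x x' t t' : G}, Root x t → Root x' t' → t ≠ t' → x * x' = x' * x → c * t = t * c →
      c * t' = t' * c → c * x * c⁻¹ = x → c * x' * c⁻¹ = x' := by
    intro x x' t t' hx hx' hne hxx hc hc' e
    refine (h.dich hx' hc').resolve_right fun e' => ?_
    have h1 : c * (x * x') * c⁻¹ = x * x'⁻¹ := by rw [← e', ← congrArg (· * (c * x' * c⁻¹)) e]; group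
    rcases h.dich (hx.mul hx' hne hxx) (c := c) (by rw [← mul_assoc, hc, mul_assoc, hc', mul_assoc]) with h2 | h2
    · exact hx'.ne_inv (mul_left_cancel (h2.symm.trans h1))
    · rw [h1, hxx, mul_inv_rev] at h2
      exact hx.ne_inv (mul_right_cancel h2)
  exact ⟨key hx hx' hne hxx hc hc', key hx' hx hne.symm hxx.symm hc' hc⟩

theorem wreath' (hx : Root x t) (hy : y * t ≠ t * y) (hyy : y * y * t = t * (y * y))
    (hc : x * (y * x * y⁻¹) = y * x * y⁻¹ * x) (hy1 : y * y ≠ 1) : False := by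
  have hx' := hx.conj y
  have hne : t ≠ y * t * y⁻¹ := fun e => hy (mul_inv_eq_iff_eq_mul.1 e.symm)
  have hm := hx.mul hx' hne hc
  have htt : t * (y * t * y⁻¹) = y * t * y⁻¹ * t := by
    rw [← inv_eq_of_inv hm.ht, mul_inv_rev, inv_eq_of_inv hx.ht, inv_eq_of_inv hx'.ht]
  have h1 : y * (x * (y * x * y⁻¹)) * y⁻¹ = y * x * y⁻¹ * (y * y * x * (y * y)⁻¹) := by group
  have h2 : y * y * x * (y * y)⁻¹ = x := by
    refine (h.dich hx hyy).resolve_right fun e => ?_
    rw [e] at h1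
    rcases h.dich hm (c := y) (by
      calc y * (t * (y * t * y⁻¹)) = y * t * y⁻¹ * (y * y * t) * y⁻¹ := by group
        _ = y * t * y⁻¹ * t * y := by rw [hyy]; group
        _ = _ := by rw [htt]) with h2 | h2
    · rw [h1, hc] at h2
      exact hx.ne_inv (mul_left_cancel h2).symm
    · rw [h1, mul_inv_rev] at h2
      exact hx'.ne_inv (mul_right_cancel h2)
  have h3 : x ∈ N[zpowers y] := by
    rw [← h y (y * y) (even_orderOf_of_sq_mem (H := C1[t]) (fun e => hy (mem_c1.1 e)) (mem_c1.2 hyy))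
      (mul_mem (mem_zpowers y) (mem_zpowers y)) hy1]
    refine mem_normalizer_zpowers_of_conj_mem_zpowers ?_
    rw [← mul_inv_eq_iff_eq_mul.1 h2, mul_inv_cancel_right]; exact mem_zpowers _
  have h4 : x⁻¹ * (y * x * y⁻¹) ∈ zpowers y := by
    rw [show x⁻¹ * (y * x * y⁻¹) = x⁻¹ * y * x⁻¹⁻¹ * y⁻¹ by group]
    exact mul_mem (conj_mem_of_norm (inv_mem h3) (mem_zpowers y)) (inv_mem (mem_zpowers y))
  have h5 : y * (x⁻¹ * (y * x * y⁻¹)) * y⁻¹ = x⁻¹ * (y * x * y⁻¹) := by
    obtain ⟨k, hk⟩ := mem_zpowers_iff.1 h4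
    rw [← hk]; group
  have h6 := (hx.inv.mul hx' hne (Commute.inv_left hc)).ne_inv
  apply h6
  rw [← h5]
  calc y * (x⁻¹ * (y * x * y⁻¹)) * y⁻¹ = (y * x * y⁻¹)⁻¹ * (y * y * x * (y * y)⁻¹) := by group
    _ = (x⁻¹ * (y * x * y⁻¹))⁻¹ := by rw [h2]; group
    _ = _ := by rw [h5]

/-- There is no wreathed configuration. -/
theorem wreath (hx : Root x t) (hy : y * t ≠ t * y) (hyy : y * y * t = t * (y * y))
    (hc : x * (y * x * y⁻¹) = y * x * y⁻¹ * x) : False := by
  by_cases hy1 : y * y = 1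
  swap
  · exact h.wreath' hx hy hyy hc hy1
  have hx' := hx.conj y
  have hne : t ≠ y * t * y⁻¹ := fun e => hy (mul_inv_eq_iff_eq_mul.1 e.symm)
  have h1 : y * x * (y * x) = x * (y * x * y⁻¹) := by
    rw [hc]
    calc y * x * (y * x) = y * x * y⁻¹ * (y * y) * x := by group
      _ = _ := by rw [hy1, mul_one]
  refine h.wreath' (y := y * x) hx (fun e => hy ?_) ?_ ?_ fun e => ?_
  · rw [mul_assoc, hx.comm, ← mul_assoc, ← mul_assoc] at e
    exact mul_right_cancel e
  · have hc' : Commute (y * x * y⁻¹) x := hc.symm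
    rw [h1]
    exact hx.sq ▸ ((Commute.refl x).mul_left hc').mul_right ((Commute.refl x).mul_left hc')
  · rw [show y * x * x * (y * x)⁻¹ = y * x * y⁻¹ by group, hc]
  · have := (hx.mul hx' hne hc).sq
    rw [← h1, e, mul_one] at this
    exact ne_one_of_inv (hx.mul hx' hne hc).ht this.symm

theorem comm_of_comm (hx : Root x t) (hx' : Root x' t') (hne : t ≠ t') (hc : t' * x = x * t') :
    x * x' = x' * x := by
  rcases h.dich hx' hc.symm with h1 | h1
  · exact mul_inv_eq_iff_eq_mul.1 h1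
  have h2 : x' * x * x'⁻¹ = t' * x := by
    calc x' * x * x'⁻¹ = x' * (x * x' * x⁻¹)⁻¹ * x := by group
      _ = _ := by rw [h1, inv_inv, hx'.sq]
  have h3 : x' * t = t * x' := by
    rw [← mul_inv_eq_iff_eq_mul, ← (hx.conj x').sq, h2, mul_assoc, ← mul_assoc x, ← hc, mul_assoc, ← mul_assoc,
      hx'.tt, one_mul, hx.sq]
  rcases h.dich hx h3 with h4 | h4
  · exact (mul_inv_eq_iff_eq_mul.1 h4).symm
  · rw [h2, hx.inv_eq, hc] at h4
    exact absurd (mul_left_cancel h4).symm hne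

theorem conj_inv (hx : Root x t) (hs : s * s = 1) (hsx : s * x = x * s) (hc : c * t = t * c) :
    c * s * c⁻¹ = s ∨ c * s * c⁻¹ = s * t := by
  have h1 : c * s * c⁻¹ = (c * x * c⁻¹)⁻¹ * (c * (x * s) * c⁻¹) := by group
  have hm := hx.mul_inv hs hsx
  have hts : t * s = s * t := by rw [← hx.sq, mul_assoc, ← hsx, ← mul_assoc, ← hsx, mul_assoc]
  rcases h.dich hx hc with h2 | h2 <;> rcases h.dich hm hc with h3 | h3 <;> rw [h1, h2, h3]
  · left; group
  · right; rw [hm.inv_eq]; group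
  · right; rw [inv_inv, ← mul_assoc, hx.sq, hts]
  · left; rw [hm.inv_eq, inv_inv, ← mul_assoc, ← mul_assoc, hx.sq, hts, mul_assoc, hx.tt, mul_one]

theorem cent_le (hx : Root x t) (hx' : Root x' t') (hne : t ≠ t') (hc : t' * x = x * t') : C1[t] ≤ C1[t'] := by
  intro c hct
  rw [mem_c1] at hct ⊢
  by_contra hn
  have h1 := (h.conj_inv hx hx'.tt hc hct).resolve_left fun e => hn (mul_inv_eq_iff_eq_mul.1 e)
  have hxx := h.comm_of_comm hx hx' hne hc
  have htx : t * x' = x' * t := by rw [← hx.sq, mul_assoc, hxx, ← mul_assoc, hxx, mul_assoc]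
  refine h.wreath hx' hn ?_ (h.comm_of_comm hx' (hx'.conj c) ?_ ?_)
  · rw [← mul_inv_eq_iff_eq_mul]
    calc c * c * t' * (c * c)⁻¹ = c * (c * t' * c⁻¹) * c⁻¹ := by group
      _ = c * (t' * t) * c⁻¹ := by rw [h1]
      _ = c * t' * c⁻¹ * (c * t * c⁻¹) := by group
      _ = _ := by rw [h1, hct, mul_inv_cancel_right, mul_assoc, hx.tt, mul_one]
  · exact fun e => hn (mul_inv_eq_iff_eq_mul.1 e.symm)
  · rw [h1, mul_assoc, htx, ← mul_assoc, ← hx'.comm, mul_assoc]

theorem cent_eq (hx : Root x t) (hx' : Root x' t') (hne : t ≠ t') (hc : t' * x = x * t') : C1[t] = C1[t'] := by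
  have hxx := h.comm_of_comm hx hx' hne hc
  exact le_antisymm (h.cent_le hx hx' hne hc) (h.cent_le hx' hx hne.symm
    (by rw [← hx.sq, mul_assoc, hxx, ← mul_assoc, hxx, mul_assoc]))

/-- The centraliser of a square is not properly contained in a 2-subgroup. -/
theorem le_cent_of_isPGroup (hx : Root x t) {P : Subgroup G} (hP : IsPGroup 2 P) (hle : C1[t] ≤ P) : P ≤ C1[t] := by
  haveI : Fact (Nat.Prime 2) := ⟨Nat.prime_two⟩
  by_contra hn
  obtain ⟨a, ha, ha'⟩ := SetLike.exists_of_lt (lt_inf_normalizer_of_isPGroup hP (lt_of_le_not_ge hle hn))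
  obtain ⟨n, h1, h2⟩ := (two_of_mem hP ha.1).exists_pow_notMem ha'
  have h3 : a ^ n ∈ N[C1[t]] := pow_mem ha.2 n
  refine h.wreath hx (fun e => h1 (mem_c1.2 e)) (mem_c1.1 h2)
    (h.comm_of_comm hx (hx.conj _) (fun e => h1 (mem_c1.2 (mul_inv_eq_iff_eq_mul.1 e.symm))) ?_)
  refine (mem_c1.1 ?_).symm
  rw [← cj_c1, cj_eq_self h3]
  exact mem_c1.2 hx.comm

end CycN

end CL.Cit
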