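/-
Groups in which all nontrivial subgroups of a cyclic subgroup of even order have the same normaliser, part 2:
centralisers of involutions and the characterisation of `PSL₂(q)` and `PGL₂(q)`.
-/
import Cfsg.Agent.Cit.CycN

set_option autoImplicit false

open Cfsg CL.Odd CL.Grp CL.Inv.SE Subgroup
open scoped Pointwise IsMulCommutative

namespace CL.Cit

universe u

variable {G : Type u} [Group G] [Finite G]

omit [Finite G] in
theorem root_of_four {a : G} (ha : orderOf a = 4) : Root a (a * a) :=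
  ⟨by rw [← pow_two, orderOf_pow' _ two_ne_zero, ha]; rfl, rfl⟩

theorem comm_of_dedekind {X : Subgroup G} (h1 : ∀ h ∈ X, h ≠ 1 → X ≤ N[zpowers h])
    (h2 : ∀ a ∈ X, ∀ b ∈ X, orderOf a = 4 → orderOf b = 4 → a * b = b * a) : ∀ a ∈ X, ∀ b ∈ X, a * b = b * a := by
  have : IsMulCommutative X := by
    by_contra hn
    obtain ⟨a, b, ha, hb, hab⟩ := Cfsg.Agent.S4211.exists_pair hn fun H => ⟨fun n hn g => by
      by_cases h0 : n = 1
      · simp [h0]
      obtain ⟨k, hk⟩ := mem_zpowers_iff.1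
        (conj_mem_of_norm (h1 n n.2 (fun e => h0 (Subtype.ext e)) g.2) (mem_zpowers (n : G)))
      have : g * n * g⁻¹ = n ^ k := Subtype.ext hk.symm
      exact this ▸ H.zpow_mem hn k⟩
    exact hab (Subtype.ext (h2 a a.2 b b.2 (by simpa using ha) (by simpa using hb)))
  exact fun a ha b hb => congrArg Subtype.val (mul_comm (⟨a, ha⟩ : X) ⟨b, hb⟩)

omit [Finite G] in
theorem mem_of_sq_of_pow_odd {H : Subgroup G} {y : G} {m : ℕ} (hm : Odd m) (h1 : y * y ∈ H) (h2 : y ^ m ∈ H) :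
    y ∈ H := by
  obtain ⟨k, rfl⟩ := hm
  rw [pow_succ, pow_mul, pow_two] at h2
  exact (Subgroup.mul_mem_cancel_left _ (H.pow_mem h1 k)).1 h2

/-- The centraliser of the involution `z` is `X` or a generalised dihedral group over `X`. -/
structure Cfg (z : G) (X : Subgroup G) : Prop where
  hz : orderOf z = 2
  zX : z ∈ X
  comm : ∀ a ∈ X, ∀ b ∈ X, a * b = b * a
  norm : ∀ h ∈ X, h ≠ 1 → N[zpowers h] = C1[z]
  out : ∀ y : G, y * z = z * y → y ∉ X → y * y = 1
  ne : ∃ w ∈ X, w * w ≠ 1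

namespace Cfg

variable {z : G} {X : Subgroup G} (h : Cfg z X)
include h

theorem cent {j : G} (hj : j ∈ X) (hj2 : orderOf j = 2) : C1[j] = C1[z] := by
  rw [← norm_zpowers_inv hj2, h.norm j hj (ne_one_of_inv hj2)]

theorem replace {j : G} (hj : j ∈ X) (hj2 : orderOf j = 2) : Cfg j X :=
  ⟨hj2, hj, h.comm, fun x hx hx1 => (h.norm x hx hx1).trans (h.cent hj hj2).symm,
    fun y hy => h.out y (mem_c1.1 (h.cent hj hj2 ▸ mem_c1.2 hy)), h.ne⟩

omit [Finite G] in
theorem inv {y x : G} (hy : y * z = z * y) (hy' : y ∉ X) (hx : x ∈ X) : y * x * y⁻¹ = x⁻¹ := by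
  have h1 := h.out (x * y) (by rw [mul_assoc, hy, ← mul_assoc, h.comm x hx z h.zX, mul_assoc])
    fun e => hy' ((Subgroup.mul_mem_cancel_left _ hx).1 e)
  rw [inv_eq_of_mul_eq_one_right (h.out y hy hy'), inv_eq_of_mul_eq_one_right ((mul_assoc _ _ _).symm.trans h1),
    mul_assoc]

omit [Finite G] in
theorem mem_of_comm {y w : G} (hy : y * z = z * y) (hw : w ∈ X) (hww : w * w ≠ 1) (hc : y * w = w * y) : y ∈ X := by
  by_contra hn
  have := h.inv hy hn hw
  rw [hc, mul_inv_cancel_right] at this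
  exact hww (eq_inv_iff_mul_eq_one.1 this)

omit [Finite G] in
theorem mul_mem {a b : G} (ha : a * z = z * a) (ha' : a ∉ X) (hb : b * z = z * b) (hb' : b ∉ X) : a * b ∈ X := by
  obtain ⟨w, hw, hww⟩ := h.ne
  refine h.mem_of_comm (by rw [mul_assoc, hb, ← mul_assoc, ha, mul_assoc]) hw hww ?_
  calc a * b * w = a * (b * w * b⁻¹) * a⁻¹ * (a * b) := by group
    _ = _ := by rw [h.inv hb hb' hw, h.inv ha ha' (X.inv_mem hw), inv_inv]

theorem cent_mem {x g : G} (hx : x ∈ X) (hx1 : x ≠ 1) (hg : g * x = x * g) : g * z = z * g :=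
  mem_c1.1 (h.norm x hx hx1 ▸ mem_normalizer_zpowers_of_conj_mem_zpowers
    (by rw [hg, mul_inv_cancel_right]; exact mem_zpowers x))

omit [Finite G] in
theorem cj_cent {x g : G} (hx : x ∈ X) (hx1 : x ≠ 1) (hg : g * x * g⁻¹ ∈ X) : C1[g * z * g⁻¹] = C1[z] := by
  rw [← cj_c1, ← h.norm x hx hx1, cj_normalizer, cj_zpowers, h.norm _ hg (by simpa using hx1), h.norm x hx hx1]

/-- `X` is strongly closed in `C(z)` if it contains two involutions. -/
theorem closed {t : G} (ht : t ∈ X) (ht2 : orderOf t = 2) (htz : t ≠ z) {m g : G} (hm : m ∈ X)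
    (hg : g * m * g⁻¹ * z = z * (g * m * g⁻¹)) : g * m * g⁻¹ ∈ X := by
  by_contra hn
  have hm1 : m ≠ 1 := fun e => hn (by simp [e])
  have hm2 : orderOf m = 2 := inv_of_mul_self (by
    have := h.out _ hg hn
    calc m * m = g⁻¹ * (g * m * g⁻¹ * (g * m * g⁻¹)) * g := by group
      _ = 1 := by rw [this]; group) hm1
  have key : ∀ s ∈ X, s * s = 1 → g⁻¹ * s * g * z = z * (g⁻¹ * s * g) := fun s hs hss => by
    have h1 := h.inv hg hn hs
    rw [inv_eq_of_mul_eq_one_right hss, mul_inv_eq_iff_eq_mul] at h1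
    refine h.cent_mem hm hm1 ?_
    calc g⁻¹ * s * g * m = g⁻¹ * (s * (g * m * g⁻¹)) * g := by group
      _ = _ := by rw [← h1]; group
  have key2 : ∀ s ∈ X, s ≠ 1 → g⁻¹ * s * g ∉ X := fun s hs hs1 e => by
    obtain ⟨w, hw, hww⟩ := h.ne
    have h1 := h.cj_cent hs hs1 (g := g⁻¹) (by simpa using e)
    have h2 : g⁻¹ * w * g ∈ C1[z] := by
      rw [← h1, mem_c1]
      calc g⁻¹ * w * g * (g⁻¹ * z * g⁻¹⁻¹) = g⁻¹ * (w * z) * g := by group
        _ = _ := by rw [h.comm w hw z h.zX]; group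
    rw [← h.cent hm hm2, mem_c1] at h2
    refine hn (h.mem_of_comm hg hw hww ?_)
    calc g * m * g⁻¹ * w = g * (m * (g⁻¹ * w * g)) * g⁻¹ := by group
      _ = _ := by rw [← h2]; group
  refine key2 (t * z) (X.mul_mem ht h.zX) (fun e => htz ?_) ?_
  · rw [eq_inv_of_mul_eq_one_left e, inv_eq_of_inv h.hz]
  · have := h.mul_mem (key t ht (mul_self_of_inv ht2)) (key2 t ht (ne_one_of_inv ht2))
      (key z h.zX (mul_self_of_inv h.hz)) (key2 z h.zX (ne_one_of_inv h.hz))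
    simpa [mul_assoc] using this

theorem not_le (hle : ∀ g : G, g * z = z * g → g ∈ X) (htwo : ∃ t ∈ X, orderOf t = 2 ∧ t ≠ z) : X.Normal := by
  by_contra hn
  have h1 := isL2Even_of_abelian_cent h.hz (le_antisymm (fun g hg => hle g (mem_c1.1 hg))
    fun g hg => mem_c1.2 (h.comm g hg z h.zX)) h.comm (fun x hx hx1 g hg => hle g (h.cent_mem hx hx1 hg)) htwo hn
  obtain ⟨w, hw, hww⟩ := h.ne
  rcases Nat.even_or_odd (orderOf w) with he | ho
  · exact hww (h1.sq_of_even he)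
  have hc : Commute w z := h.comm w hw z h.zX
  have h2 := h1.sq_of_even (x := w * z) (by
    rw [hc.orderOf_mul_eq_mul_orderOf_of_coprime (by rw [h.hz]; exact Nat.coprime_two_right.2 ho), h.hz]
    exact even_two.mul_left _)
  rw [← pow_two, hc.mul_pow, pow_two z, mul_self_of_inv h.hz, mul_one, pow_two] at h2
  exact hww h2

theorem dihHyp (hA : NoAb G) (ho : Odd (C1[z]).index) : ∃ u, DihHyp z u X := by
  have hnn : ¬ X.Normal := fun hn => ne_bot_of_mem h.zX (ne_one_of_inv h.hz)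
    (hA.eq_bot hn (sol_of_abelian ⟨⟨fun a b => Subtype.ext (h.comm _ a.2 _ b.2)⟩⟩))
  obtain ⟨u, hu, huX⟩ : ∃ u : G, u * z = z * u ∧ u ∉ X := by
    by_contra hn
    push Not at hn
    obtain ⟨g, hg, hg'⟩ := hA.exists_conj h.hz
    exact hnn (h.not_le hn ⟨_, hn _ hg, inv_conj h.hz g, hg'⟩)
  obtain ⟨w, hw, hww⟩ := h.ne
  refine ⟨u, h.hz, h.zX, h.comm, huX, h.out u hu huX, fun x hx => h.inv hu huX hx, fun y hy =>
    or_iff_not_imp_left.2 fun hy' => h.mul_mem hy hy' hu huX, fun x hx hx1 g hg => ?_, ho⟩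
  have h1 := h.cj_cent hx hx1 hg
  have h2 : g * z * g⁻¹ ∈ X := h.mem_of_comm (mem_c1.1 (h1 ▸ mem_c1.2 rfl)) hw hww
    (mem_c1.1 (h1 ▸ mem_c1.2 (h.comm w hw z h.zX))).symm
  by_contra hn
  have h3 : g * z * g⁻¹ ≠ z := fun e => hn (mul_inv_eq_iff_eq_mul.1 e)
  obtain ⟨N, hN1, hN2⟩ := exists_index_two_of_closed C1[z] X ho
    (index_eq_two_iff.2 ⟨⟨u, mem_c1.2 hu⟩, fun b => by
      by_cases hb : (b : G) ∈ X
      · exact Or.inr ⟨hb, fun e => huX ((Subgroup.mul_mem_cancel_left _ hb).1 e)⟩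
      · exact Or.inl ⟨h.mul_mem (mem_c1.1 b.2) hb hu huX, hb⟩⟩)
    fun m hm _ k hk => h.closed h2 (inv_conj h.hz g) h3 hm (mem_c1.1 hk)
  have hXN : X ≤ N := fun x hx => (hN2 x (mem_c1.2 (h.comm x hx z h.zX))).2 hx
  have h' : Cfg (⟨z, hXN h.zX⟩ : N) (X.subgroupOf N) := by
    refine ⟨by rw [← orderOf_coe]; exact h.hz, h.zX, fun a ha b hb => Subtype.ext (h.comm _ ha _ hb),
      fun x hx hx1 => ?_, fun y hy hy' => Subtype.ext (h.out y (congrArg Subtype.val hy) hy'),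
      ⟨⟨w, hXN hw⟩, hw, fun e => hww (congrArg Subtype.val e)⟩⟩
    ext k
    have h4 := h.norm x hx fun e => hx1 (Subtype.ext e)
    refine ⟨fun hk => mem_c1.2 (Subtype.ext (mem_c1.1 (h4 ▸ mem_normalizer_zpowers_of_conj_mem_zpowers ?_))),
      fun hk => mem_normalizer_zpowers_of_conj_mem_zpowers ?_⟩
    · obtain ⟨i, hi⟩ := mem_zpowers_iff.1 (conj_mem_of_norm hk (mem_zpowers x))
      exact mem_zpowers_iff.2 ⟨i, congrArg Subtype.val hi⟩
    · obtain ⟨i, hi⟩ := mem_zpowers_iff.1 (conj_mem_of_norm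
        (h4.symm ▸ mem_c1.2 (congrArg Subtype.val (mem_c1.1 hk)) : (k : G) ∈ N[zpowers (x : G)]) (mem_zpowers _))
      exact mem_zpowers_iff.2 ⟨i, Subtype.ext hi⟩
  have h4 := h'.not_le (fun k hk => (hN2 k (mem_c1.2 (congrArg Subtype.val hk))).1 k.2)
    ⟨⟨_, hXN h2⟩, h2, by rw [← orderOf_coe]; exact inv_conj h.hz g, fun e => h3 (congrArg Subtype.val e)⟩
  have h5 : ∀ k ∈ N, ∀ x ∈ X, k * x * k⁻¹ ∈ X := fun k hk x hx => h4.conj_mem ⟨x, hXN hx⟩ hx ⟨k, hk⟩
  refine hnn ⟨fun x hx k => ?_⟩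
  by_cases hk : k ∈ N
  · exact h5 k hk x hx
  · have := h5 _ (hN1 k u hk fun e => huX ((hN2 u (mem_c1.2 hu)).1 e)) _ (X.inv_mem hx)
    rwa [show k * u * x⁻¹ * (k * u)⁻¹ = k * (u * x * u⁻¹)⁻¹ * k⁻¹ by group, h.inv hu huX hx, inv_inv] at this

end Cfg

namespace CycN

variable (h : CycN G) {x x' t t' s y z : G}
include h

theorem norm_of_inv {X : Subgroup G} (hz : orderOf z = 2) (hle : X ≤ C1[z])
    (hs : ∀ s ∈ X, orderOf s = 2 → C1[s] = C1[z]) (g : G) (hg : g ∈ X) (hg1 : g ≠ 1) : N[zpowers g] = C1[z] := by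
  rcases Nat.even_or_odd (orderOf g) with he | ho
  · rw [h.even (inv_pow_of_even he) (npow_mem_zpowers _ _), hs _ (X.pow_mem hg _) (inv_pow_of_even he)]
  · exact h.odd hz ho hg1 (mem_c1.1 (hle hg)).symm

theorem cent_inv_alpha (hx : Root x t) (hx' : Root x' t') (hne : t ≠ t') (hc : t' * x = x * t')
    (hs : orderOf s = 2) (hsx : s * x = x * s) : C1[s] = C1[t] := by
  have hxx := h.comm_of_comm hx hx' hne hc
  have hC := h.cent_eq hx hx' hne hc
  have hst : s * t = t * s := by rw [← hx.sq, ← mul_assoc, hsx, mul_assoc, hsx, mul_assoc]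
  have hle : C1[t] ≤ C1[s] := fun c hct => by
    have hsx' := (h.same_sign hx hx' hne hxx hst (mem_c1.1 (hC ▸ mem_c1.2 hst))).1 (by rw [hsx, mul_inv_cancel_right])
    refine mem_c1.2 (mul_inv_eq_iff_eq_mul.1 ?_)
    rcases h.conj_inv hx (mul_self_of_inv hs) hsx (mem_c1.1 hct) with h1 | h1
    · exact h1
    refine (h.conj_inv hx' (mul_self_of_inv hs) (mul_inv_eq_iff_eq_mul.1 hsx') (mem_c1.1 (hC ▸ hct))).resolve_right
      fun h2 => hne (mul_left_cancel (h1.symm.trans h2))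
  by_cases hodd : ∀ v ∈ C1[s], Odd (orderOf v) → v = 1
  · refine le_antisymm (h.le_cent_of_isPGroup hx (fun g => ?_) hle) hle
    obtain ⟨k, m, hm, e⟩ := Nat.exists_eq_two_pow_mul_odd (orderOf_pos (g : G)).ne'
    refine ⟨k, Subtype.ext (hodd _ (pow_mem g.2 _) (hm.of_dvd_nat (orderOf_dvd_of_pow_eq_one ?_)))⟩
    rw [coe_pow, ← pow_mul, ← e, pow_orderOf_eq_one]
  push Not at hodd
  obtain ⟨v, hv, hvo, hv1⟩ := hodd
  have hN := h.odd hs hvo hv1 (mem_c1.1 hv).symm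
  have key : ∀ w : G, orderOf w = 2 → C1[t] = C1[w] → ∀ d ∈ zpowers v, d ≠ 1 → d * w = w * d → C1[s] = C1[t] := by
    intro w hw hwt d hd hd1 hdw
    have hdo : Odd (orderOf d) := hvo.of_dvd_nat (orderOf_dvd_of_mem_zpowers hd)
    rw [hwt, ← h.odd hw hdo hd1 hdw.symm, h.odd hs hdo hd1 (mem_c1.1 (zpowers_le.2 hv hd)).symm]
  by_contra hn
  have key2 : ∀ w : G, orderOf w = 2 → C1[t] = C1[w] → w * v * w⁻¹ = v⁻¹ := fun w hw hwt =>
    inverts_of_fpf_inv (hN ▸ hle (hwt ▸ mem_c1.2 rfl)) (mul_self_of_inv hw)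
      (fun d hd e => by_contra fun hd1 => hn (key w hw hwt d hd hd1 e)) (mem_zpowers v)
  have hm := hx.mul hx' hne hxx
  refine hn (key _ hm.ht (h.cent_eq hx hm (fun e => ne_one_of_inv hx'.ht (by simpa using e)) ?_) v
    (mem_zpowers v) hv1 ?_)
  · rw [mul_assoc, hc, ← mul_assoc, ← hx.comm, mul_assoc]
  · calc v * (t * t') = (t * (t * v * t⁻¹) * t⁻¹)⁻¹⁻¹ * (t * t') := by
          rw [inv_inv, show t * (t * v * t⁻¹) * t⁻¹ = t * t * v * (t * t)⁻¹ by group, hx.tt]; group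
      _ = t * (t' * v * t'⁻¹) * t' := by rw [key2 t hx.ht rfl, key2 t' hx'.ht hC]; group
      _ = _ := by group

theorem comm_roots (hx : Root x t) (hy : Root y t) (hinv : ∀ r : G, Root r t → s * r * s⁻¹ = r⁻¹) :
    x * y = y * x := by
  rcases h.dich hx hy.comm with h1 | h1
  · exact (mul_inv_eq_iff_eq_mul.1 h1).symm
  have h2 : Root (x * y) t := ⟨hx.ht, by
    calc x * y * (x * y) = x * (y * x * y⁻¹) * (y * y) := by group
      _ = t := by rw [h1, hy.sq]; group⟩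
  apply inv_injective
  rw [← hinv _ h2, mul_inv_rev, ← hinv x hx, ← hinv y hy]; group

theorem inv_eq_beta (hx : Root x t) (hx' : Root x' t') (hne : t ≠ t')
    (hinv : ∀ r : G, Root r t → t' * r * t'⁻¹ = r⁻¹) (hinv' : t * x' * t⁻¹ = x'⁻¹) (hs : orderOf s = 2)
    (hsx : s * x = x * s) : s = t := by
  by_contra hst
  have htt : t' * t = t * t' := by
    rw [← mul_inv_eq_iff_eq_mul, ← (hx.conj t').sq, hinv x hx, hx.inv.sq]
  have e1 : x * t' * x⁻¹ = t * t' := by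
    calc x * t' * x⁻¹ = x * (t' * x * t'⁻¹)⁻¹ * t' := by group
      _ = _ := by rw [hinv x hx, inv_inv, hx.sq]
  have e2 : x' * t * x'⁻¹ = t' * t := by
    calc x' * t * x'⁻¹ = x' * (t * x' * t⁻¹)⁻¹ * t := by group
      _ = _ := by rw [hinv', inv_inv, hx'.sq]
  have e3 : x * t * x⁻¹ = t := by rw [hx.comm, mul_inv_cancel_right]
  have e4 : x' * t' * x'⁻¹ = t' := by rw [hx'.comm, mul_inv_cancel_right]
  have c1 : x * x' * t * (x * x')⁻¹ = t' := by
    calc x * x' * t * (x * x')⁻¹ = x * (x' * t * x'⁻¹) * x⁻¹ := by group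
      _ = x * t' * x⁻¹ * (x * t * x⁻¹) := by rw [e2]; group
      _ = t' := by rw [e1, e3, ← htt, mul_assoc, hx.tt, mul_one]
  have c2 : x * x' * t' * (x * x')⁻¹ = t * t' := by
    calc x * x' * t' * (x * x')⁻¹ = x * (x' * t' * x'⁻¹) * x⁻¹ := by group
      _ = _ := by rw [e4, e1]
  have c3 : x * x' * (t * t') * (x * x')⁻¹ = t := by
    calc x * x' * (t * t') * (x * x')⁻¹ = x * x' * t * (x * x')⁻¹ * (x * x' * t' * (x * x')⁻¹) := by group
      _ = _ := by rw [c1, c2, ← htt, ← mul_assoc, hx'.tt, one_mul]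
  have hc1 : x * x' ≠ 1 := fun e => hne (by simpa [e] using c1)
  have hN : t ∈ N[zpowers (x * x')] := by
    rcases Nat.even_or_odd (orderOf (x * x')) with he | ho
    · have h3 : (x * x') ^ 3 ≠ 1 := fun e => by
        have := he.two_dvd.trans (orderOf_dvd_of_pow_eq_one e)
        omega
      rw [← h _ _ he (npow_mem_zpowers _ 3) h3]
      refine mem_normalizer_zpowers_of_conj_mem_zpowers ?_
      have : (x * x') ^ 3 * t * ((x * x') ^ 3)⁻¹ = t := by
        calc _ = x * x' * (x * x' * (x * x' * t * (x * x')⁻¹) * (x * x')⁻¹) * (x * x')⁻¹ := by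
              generalize x * x' = c; rw [pow_three]; group
          _ = t := by rw [c1, c2, c3]
      rw [← mul_inv_eq_iff_eq_mul.1 this, mul_inv_cancel_right]; exact mem_zpowers _
    have key : ∀ e : G, orderOf e = 2 → e * x = x * e → e * x' = x' * e → t ∈ N[zpowers (x * x')] := by
      intro e he h1 h2
      rw [h.odd he ho hc1 (by rw [← mul_assoc, h1, mul_assoc, h2, mul_assoc]), mem_c1, ← hx.sq, mul_assoc, ← h1,
        ← mul_assoc, ← h1, mul_assoc]
    have hts : t * s = s * t := by rw [← hx.sq, mul_assoc, ← hsx, ← mul_assoc, ← hsx, mul_assoc]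
    have h4 : s * t' = t' * s := by
      have h5 := hinv _ (hx.mul_inv (mul_self_of_inv hs) hsx)
      rw [show t' * (x * s) * t'⁻¹ = t' * x * t'⁻¹ * (t' * s * t'⁻¹) by group, hinv x hx, ← hsx, mul_inv_rev,
        inv_eq_of_inv hs, mul_right_inj, mul_inv_eq_iff_eq_mul] at h5
      exact h5.symm
    rcases h.dich hx' h4 with h5 | h5
    · exact key s hs hsx (mul_inv_eq_iff_eq_mul.1 h5)
    · refine key (s * t) (inv_of_mul_self ?_ fun e => hst ?_) ?_ ?_
      · rw [mul_assoc, ← mul_assoc t, hts, mul_assoc, hx.tt, mul_one, mul_self_of_inv hs]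
      · rw [eq_inv_of_mul_eq_one_left e, inv_eq_of_inv hx.ht]
      · rw [mul_assoc, ← hx.comm, ← mul_assoc, hsx, mul_assoc]
      · calc s * t * x' = s * (t * x' * t⁻¹) * s⁻¹ * (s * t) := by group
          _ = (s * x' * s⁻¹)⁻¹ * (s * t) := by rw [hinv']; group
          _ = _ := by rw [h5, inv_inv]
  have h1 : t * t' ∈ zpowers (x * x') := by
    have := mul_mem (conj_mem_of_norm hN (mem_zpowers _)) (inv_mem (mem_zpowers (x * x')))
    rwa [show t * (x * x') * t⁻¹ * (x * x')⁻¹ = t * (x * x' * t * (x * x')⁻¹)⁻¹ by group, c1,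
      inv_eq_of_inv hx'.ht] at this
  obtain ⟨k, hk⟩ := mem_zpowers_iff.1 h1
  rw [← hk, show x * x' * (x * x') ^ k * (x * x')⁻¹ = (x * x') ^ k by generalize x * x' = c; group, hk] at c3
  exact ne_one_of_inv hx'.ht (by simpa using c3)

omit h [Finite G] in
theorem mem_zpowers_of_inverts (hx : Root x t) (hy : y * x * y⁻¹ = x⁻¹) (hN : x ∈ N[zpowers y]) : t ∈ zpowers y := by
  have := mul_mem (conj_mem_of_norm hN (mem_zpowers y)) (inv_mem (mem_zpowers y))
  have h1 : x * y * x⁻¹ * y⁻¹ = x * (y * x * y⁻¹)⁻¹ := by group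
  rwa [h1, hy, inv_inv, hx.sq] at this

theorem cfg_root (hA : NoAb G) (hx : Root x t) : Cfg t C1[x] := by
  obtain ⟨g, htt, hne⟩ := hA.exists_conj hx.ht
  have hx' := hx.conj g
  generalize g * x * g⁻¹ = x', g * t * g⁻¹ = t' at hx' htt hne
  replace hne := hne.symm
  have hle : C1[x] ≤ C1[t] := fun c hc => by
    rw [mem_c1] at hc ⊢
    rw [← hx.sq, ← mul_assoc, hc, mul_assoc, hc, mul_assoc]
  have beta : t' * x ≠ x * t' → (∀ r : G, Root r t → t' * r * t'⁻¹ = r⁻¹) ∧ t * x' * t⁻¹ = x'⁻¹ := fun hc =>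
    ⟨fun r hr => (h.dich hr htt).resolve_left fun e => hc (mem_c1.1
      (h.cent_eq hr hx' hne (mul_inv_eq_iff_eq_mul.1 e) ▸ mem_c1.2 hx.comm)).symm,
    (h.dich hx' htt.symm).resolve_left fun e => hc (mem_c1.1
      (h.cent_eq hx' hx hne.symm (mul_inv_eq_iff_eq_mul.1 e) ▸ mem_c1.2 hx.comm)).symm⟩
  have hN := h.norm_of_inv hx.ht hle fun s hs hs2 => by
    by_cases hc : t' * x = x * t'
    · exact h.cent_inv_alpha hx hx' hne hc hs2 (mem_c1.1 hs)
    · rw [h.inv_eq_beta hx hx' hne (beta hc).1 (beta hc).2 hs2 (mem_c1.1 hs)]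
  refine ⟨hx.ht, mem_c1.2 hx.comm.symm, comm_of_dedekind (fun a ha ha1 => hN a ha ha1 ▸ hle)
    fun a ha b hb ha4 hb4 => ?_, hN, fun y hy hy' => ?_, x, mem_c1.2 rfl,
    fun e => ne_one_of_inv hx.ht (hx.sq ▸ e)⟩
  · have hr := root_of_four ha4
    have hbx := mem_c1.1 hb
    have ha1 : a ≠ 1 := by rintro rfl; simp at ha4
    have h1 : b * (a * a) = a * a * b := mem_c1.1 (by
      rw [← h.even hr.ht (mul_mem (mem_zpowers a) (mem_zpowers a)), hN a ha ha1]; exact hle hb)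
    rcases h.dich hr h1 with h2 | h2
    · exact (mul_inv_eq_iff_eq_mul.1 h2).symm
    by_cases h3 : a * x = 1
    · rw [eq_inv_of_mul_eq_one_left h3]; exact (Commute.inv_right hbx).symm
    have hax : Commute a x := mem_c1.1 ha
    have h4 : a * a ∈ zpowers (a * x) := by
      have := mul_mem (mem_zpowers (a * x)) (inv_mem (conj_mem_of_norm
        (hN _ (mul_mem ha (mem_c1.2 rfl)) h3 ▸ hle hb : b ∈ N[zpowers (a * x)]) (mem_zpowers _)))
      rwa [show b * (a * x) * b⁻¹ = b * a * b⁻¹ * (b * x * b⁻¹) by group, h2, hbx, mul_inv_cancel_right,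
        show a * x * (a⁻¹ * x)⁻¹ = a * a by group] at this
    have h5 : a * x * (a * x) = a * a * t := by rw [← pow_two, hax.mul_pow, pow_two, pow_two, hx.sq]
    have h6 : t ∈ zpowers (a * x) :=
      (Subgroup.mul_mem_cancel_left _ h4).1 (h5 ▸ mul_mem (mem_zpowers _) (mem_zpowers _))
    rw [inv_unique_zpowers h4 h6 hr.ht hx.ht, hx.tt] at h5
    have h7 := inv_unique_zpowers (mem_zpowers _) h6 (inv_of_mul_self h5 h3) hx.ht
    rw [eq_mul_inv_of_mul_eq h7]
    exact ((Commute.mul_right (mem_c1.1 (hle hb)) (Commute.inv_right hbx))).symm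
  by_contra hyy
  have h1 := (h.dich hx hy).resolve_left fun e => hy' (mem_c1.2 (mul_inv_eq_iff_eq_mul.1 e))
  have h2 : y * y ∈ C1[x] := mem_c1.2 (by
    calc y * y * x = y * (y * x * y⁻¹) * y⁻¹ * (y * y) := by group
      _ = y * x⁻¹ * y⁻¹ * (y * y) := by rw [h1]
      _ = (y * x * y⁻¹)⁻¹ * (y * y) := by group
      _ = _ := by rw [h1, inv_inv])
  have h3 : N[zpowers y] = C1[t] := by
    rw [← h y _ (even_orderOf_of_sq_mem hy' h2) (mul_mem (mem_zpowers y) (mem_zpowers y)) hyy, hN _ h2 hyy]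
  have h4 := mem_zpowers_of_inverts hx h1 (h3 ▸ mem_c1.2 hx.comm)
  by_cases hc : t' * x = x * t'
  · have hC := h.cent_eq hx hx' hne hc
    have hy2 := mem_c1.1 (hC ▸ mem_c1.2 hy)
    have h5 := (h.dich hx' hy2).resolve_left fun e => hx.ne_inv
      (((h.same_sign hx hx' hne (h.comm_of_comm hx hx' hne hc) hy hy2).2 e).symm.trans h1)
    exact hne (inv_unique_zpowers h4 (mem_zpowers_of_inverts hx' h5 (h3 ▸ hC ▸ mem_c1.2 hx'.comm)) hx.ht hx'.ht)
  obtain ⟨h5, -⟩ := inv_eq_pow_half h4 hx.ht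
  rcases Nat.even_or_odd (orderOf y / 2) with ⟨k, hk⟩ | ho
  · have hr : Root (y ^ k) t := ⟨hx.ht, by rw [← pow_add, ← hk, ← h5]⟩
    have h6 : Commute x (y ^ k) := h.comm_roots hx hr (beta hc).1
    have h7 : x * y ^ k ∈ zpowers y := by
      by_cases h8 : x * y ^ k = 1
      · exact h8 ▸ one_mem _
      rwa [h.inv_eq_beta hx hx' hne (beta hc).1 (beta hc).2 (inv_of_mul_self (by
        rw [← pow_two, h6.mul_pow, pow_two, pow_two, hx.sq, hr.sq, hx.tt]) h8)
        ((Commute.refl x).mul_left h6.symm)]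
    obtain ⟨i, hi⟩ := mem_zpowers_iff.1 ((Subgroup.mul_mem_cancel_right _ (npow_mem_zpowers y k)).1 h7)
    exact hy' (mem_c1.2 (hi ▸ Commute.self_zpow y i))
  · exact hy' (mem_of_sq_of_pow_odd ho h2 (h5 ▸ mem_c1.2 hx.comm.symm))

omit h in
theorem odd_sq (hr : ∀ r t : G, Root r t → r * z ≠ z * r) (hy : y * z = z * y) : Odd (orderOf (y * y)) := by
  by_contra ho
  have := inv_pow_of_even (Nat.not_odd_iff_even.1 ho)
  exact hr (y ^ _) _ ⟨this, ((Commute.refl y).mul_pow _).symm⟩ (Commute.pow_left hy _)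

theorem exists_cfg (hA : NoAb G) (hz : orderOf z = 2) {w : G} (hw : w * z = z * w) (hww : w * w ≠ 1) :
    ∃ X, Cfg z X := by
  by_cases hr : ∀ r t : G, Root r t → r * z ≠ z * r
  swap
  · push Not at hr
    obtain ⟨r, t, h1, h2⟩ := hr
    exact ⟨_, (h.cfg_root hA h1).replace (mem_c1.2 h2.symm) hz⟩
  have hvo := odd_sq hr hw
  have hv : w * w * z = z * (w * w) := Commute.mul_left hw hw
  generalize w * w = v at hvo hv hww
  have h1 := h.odd hz hvo hww hv.symm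
  have hle : C1[v] ≤ C1[z] := fun c hc => h1 ▸ mem_normalizer_zpowers_of_conj_mem_zpowers
    (by rw [mem_c1.1 hc, mul_inv_cancel_right]; exact mem_zpowers v)
  have hN := h.norm_of_inv hz hle fun s hs hs2 => by rw [← h1, h.odd hs2 hvo hww (mem_c1.1 hs)]
  have four : ∀ a ∈ C1[z], orderOf a ≠ 4 := fun a ha h4 => hr a _ (root_of_four h4) (mem_c1.1 ha)
  refine ⟨C1[v], hz, mem_c1.2 hv.symm, comm_of_dedekind (fun a ha ha1 => hN a ha ha1 ▸ hle)
    fun a ha _ _ h4 => absurd h4 (four a (hle ha)), hN, fun y hy hy' => ?_, v, mem_c1.2 rfl, fun e => ?_⟩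
  swap
  · rw [inv_of_mul_self e hww] at hvo
    exact absurd hvo (by decide)
  by_contra hyy
  have ho := odd_sq hr hy
  have hy2 : y * y ∈ C1[z] := mem_c1.2 (Commute.mul_left hy hy)
  have hD : zpowers (y * y) ⊔ zpowers v ≤ C1[z] := sup_le (zpowers_le.2 hy2) (zpowers_le.2 (mem_c1.2 hv))
  have hDo : Odd (Nat.card (zpowers (y * y) ⊔ zpowers v : Subgroup G)) :=
    Odd.of_dvd_nat (by rw [Nat.card_zpowers, Nat.card_zpowers]; exact ho.mul hvo)
      (card_sup_dvd (zpowers_le.2 (h1 ▸ hy2)))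
  have h2 : y * y ∈ C1[v] := mem_c1.2 (comm_of_dedekind (fun a ha ha1 => by
      rw [h.odd hz (hDo.of_dvd_nat (orderOf_dvd_natCard _ ha)) ha1 (mem_c1.1 (hD ha)).symm]; exact hD)
    (fun a ha _ _ h4 => absurd h4 (four a (hD ha))) _ (mem_sup_left (mem_zpowers _)) _
    (mem_sup_right (mem_zpowers _)))
  have he := even_orderOf_of_sq_mem hy' h2
  have h3 := inv_pow_of_even he
  refine hy' (mem_of_sq_of_pow_odd (m := orderOf y / 2) ?_ h2 (mem_c1_comm.1 ?_))
  · rwa [← pow_two, orderOf_pow' _ two_ne_zero, Nat.gcd_eq_right he.two_dvd] at ho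
  · rw [← h.even h3 (npow_mem_zpowers _ _), ← h y _ he (mul_mem (mem_zpowers y) (mem_zpowers y)) hyy, hN _ h2 hyy]
    exact mem_c1.2 hv

/-- The characterisation of `PSL₂(q)` and `PGL₂(q)`. -/
theorem concl [Nontrivial G] (hA : NoAb G) : ∃ (F : Type) (_ : Field F) (_ : Fintype F), 3 < Fintype.card F ∧
    (Nonempty (G ≃* Matrix.ProjectiveSpecialLinearGroup (Fin 2) F) ∨
      Nonempty (G ≃* Matrix.ProjGenLinGroup (Fin 2) F)) := by
  by_cases hb : ∃ z : G, orderOf z = 2 ∧ Odd (C1[z]).index ∧ ∃ w : G, w * z = z * w ∧ w * w ≠ 1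
  · obtain ⟨z, hz, ho, w, hw, hww⟩ := hb
    obtain ⟨X, hX⟩ := h.exists_cfg hA hz hw hww
    obtain ⟨u, hu⟩ := hX.dihHyp hA ho
    obtain ⟨F, _, _, h1, -, h2⟩ := hu.concl hA (fun g v hg hv1 hv hgv c hc => mem_c1.1 (h.odd hg hv hv1 hgv ▸
        mem_normalizer_zpowers_of_conj_mem_zpowers (by rw [hc, mul_inv_cancel_right]; exact mem_zpowers v)))
      fun j hj => by
        by_cases hw : ∃ w : G, w * j = j * w ∧ w * w ≠ 1
        · obtain ⟨w, hw, hww⟩ := hw
          obtain ⟨Y, hY⟩ := h.exists_cfg hA hj hw hww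
          exact ⟨Y, hY.zX, hY.comm, fun y hy => or_iff_not_imp_left.2 (hY.out y hy)⟩
        · push Not at hw
          exact ⟨zpowers j, mem_zpowers j, fun a ha b hb =>
            congrArg Subtype.val (mul_comm (⟨a, ha⟩ : zpowers j) ⟨b, hb⟩), fun y hy => Or.inr (hw y hy)⟩
    exact ⟨F, inferInstance, inferInstance, h1, h2⟩
  push Not at hb
  haveI : Fact (Nat.Prime 2) := ⟨Nat.prime_two⟩
  obtain ⟨S⟩ : Nonempty (Sylow 2 G) := inferInstance
  have key : ∀ z : G, orderOf z = 2 → (S : Subgroup G) ≤ C1[z] →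
      C1[z] = (S : Subgroup G) ∧ ∀ g ∈ (S : Subgroup G), g * g = 1 := fun z hz hle => by
    have h1 : ∀ g ∈ C1[z], g * g = 1 := fun g hg => hb z hz (Nat.not_even_iff_odd.1 fun e =>
      S.not_dvd_index (e.two_dvd.trans (index_dvd_of_le hle))) g (mem_c1.1 hg)
    exact ⟨S.is_maximal' (fun g => ⟨1, Subtype.ext (by simpa [pow_two] using h1 g g.2)⟩) hle,
      fun g hg => h1 g (hle hg)⟩
  have he : Even (Nat.card (S : Subgroup G)) := by
    by_contra he
    refine hA.not_isSolvable (feit_thompson ?_)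
    rw [← (S : Subgroup G).card_mul_index]
    exact (Nat.not_even_iff_odd.1 he).mul (CL.Transfer.odd_index_sylow_two S)
  obtain ⟨z, hzS, hz, hle⟩ := exists_central_inv_of_nil S.isPGroup'.isNilpotent he
  obtain ⟨hC, hsq⟩ := key z hz hle
  have hab : ∀ a ∈ (S : Subgroup G), ∀ b ∈ (S : Subgroup G), a * b = b * a := fun a ha b hb => by
    rw [← inv_eq_of_mul_eq_one_right (hsq _ (mul_mem ha hb)), mul_inv_rev,
      inv_eq_of_mul_eq_one_right (hsq a ha), inv_eq_of_mul_eq_one_right (hsq b hb)]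
  obtain ⟨g, hg, hg'⟩ := hA.exists_conj hz
  obtain ⟨F, _, _, n, hn, hF, e⟩ := isL2Even_of_abelian_cent hz hC hab (fun a ha ha1 g hg =>
      (key a (inv_of_mul_self (hsq a ha) ha1) fun s hs => mem_c1.2 (hab s hs a ha)).1 ▸ mem_c1.2 hg)
    ⟨_, hC ▸ mem_c1.2 hg, inv_conj hz g, hg'⟩ fun hn => by
      haveI := S.isPGroup'.isNilpotent
      exact ne_bot_of_mem hzS (ne_one_of_inv hz) (hA.eq_bot hn inferInstance)
  refine ⟨F, inferInstance, inferInstance, ?_, Or.inl e⟩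
  rw [hF]
  exact Nat.pow_le_pow_right two_pos hn

end CycN

end CL.Cit
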