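/-
Class sizes (helper95): groups whose non-central `π`-elements are partitioned by their centralizers.
-/
import Cfsg.Agent.Fgs.ClassTwo
import Cfsg.Agent.Fgs.ClassHall
import Cfsg.Agent.Fgs.Kazarin
import Cfsg.Agent.Perm.FCGroup
import Cfsg.Agent.Grp.Comm1
import Cfsg.Agent.Grp.Primitive
import Cfsg.Agent.Char.QuasiElem

namespace CL.Cit

open Subgroup Cfsg CL.Grp CL.Fgs
open scoped Pointwise commutatorElement

variable {G : Type*} [Group G]

theorem ito_commute_of_center {a b : G} (h : ⁅a, b⁆ ∈ center G)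
    (hc : (orderOf a).Coprime (orderOf b)) : Commute a b := by
  have h1 : ⁅a, b⁆ ^ orderOf a = 1 := by
    rw [← comm_pow_left_of_central h, pow_orderOf_eq_one, commutatorElement_one_left]
  have h2 : ⁅a, b⁆ ^ orderOf b = 1 := by
    rw [← comm_pow_right_of_central h, pow_orderOf_eq_one, commutatorElement_one_right]
  refine commutatorElement_eq_one_iff_commute.1 (orderOf_eq_one_iff.1 ?_)
  exact Nat.eq_one_of_dvd_coprimes hc (orderOf_dvd_of_pow_eq_one h1) (orderOf_dvd_of_pow_eq_one h2)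

theorem ito_mem_center_of_conj {g u : G} (h : g * u * g⁻¹ ∈ center G) : u ∈ center G := by
  simpa [mul_assoc] using (inferInstance : (center G).Normal).conj_mem _ h g⁻¹

theorem ito_coprime {q r : ℕ} (hqr : q ≠ r) {a b : G} (ha : IsPiElt {q} a) (hb : IsPiElt {r} b) :
    (orderOf a).Coprime (orderOf b) :=
  ha.coprime (hb.mono (by simpa using hqr))

theorem ito_commute_mk_iff {a b : G} :
    Commute (QuotientGroup.mk' (center G) a) (QuotientGroup.mk' (center G) b) ↔
      ⁅a, b⁆ ∈ center G := by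
  rw [← commutatorElement_eq_one_iff_commute, ← map_commutatorElement, QuotientGroup.mk'_apply,
    QuotientGroup.eq_one_iff]

theorem ito_relIndex_pow [Finite G] {q : ℕ} [Fact q.Prime] {X : Subgroup G} (hX : IsPGroup q X)
    (D : Subgroup G) : ∃ k, D.relIndex X = q ^ k := hX.index (D.subgroupOf X)

/-- an elementary abelian group of fixed-point-free automorphisms is cyclic -/
theorem ito_relIndex_dvd_of_fpf [Finite G] {q : ℕ} [hq : Fact q.Prime] {V X : Subgroup G}
    (hV : V ≠ ⊥) (hX : X ≤ normalizer (V : Set G))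
    (hf : ∀ x ∈ X, ∀ v ∈ V, v ≠ 1 → Commute x v → x ∈ centralizer (V : Set G))
    (hc : ∀ a ∈ X, ∀ b ∈ X, ⁅a, b⁆ ∈ centralizer (V : Set G))
    (hp : ∀ a ∈ X, a ^ q ∈ centralizer (V : Set G)) :
    (centralizer (V : Set G)).relIndex X ∣ q := by
  haveI : Nontrivial V := (nontrivial_iff_ne_bot V).2 hV
  let ρ : X →* MulAut V := V.normalizerMonoidHom.comp (inclusion hX)
  have hρ : ∀ (x : X) (v : V), ((ρ x v : V) : G) = x * v * (x : G)⁻¹ := fun x v => rfl
  have hker : ∀ x : X, ρ x = 1 ↔ (x : G) ∈ centralizer (V : Set G) := by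
    intro x
    constructor
    · intro h v hv
      have := hρ x ⟨v, hv⟩
      rw [h] at this
      exact eq_mul_inv_iff_mul_eq.1 this
    · intro h
      ext v
      rw [hρ, ← h v v.2]; simp
  have hk : ρ.ker = (centralizer (V : Set G)).subgroupOf X := by
    ext x; rw [MonoidHom.mem_ker, hker, mem_subgroupOf]
  have hcard : (centralizer (V : Set G)).relIndex X = Nat.card ρ.range := by
    rw [relIndex, ← hk, index_ker]
  have hE : CL.Perm.IsFpf ρ.range := by
    refine CL.Perm.isFpf_of_mulAut ρ.range.subtype ?_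
    rintro ⟨_, x, rfl⟩ hx v hv
    by_contra hv1
    refine hx (Subtype.ext ((hker x).2 (hf x x.2 v v.2 (fun e => hv1 (Subtype.ext e)) ?_)))
    have := hρ x v
    rw [show ρ x v = v from hv] at this
    exact (eq_mul_inv_iff_mul_eq.1 this).symm
  have hpow : ∀ e : ρ.range, e ^ q = 1 := by
    rintro ⟨_, x, rfl⟩
    exact Subtype.ext (by simpa using (map_pow ρ x q).symm.trans ((hker _).2 (hp x x.2)))
  have hcomm : ∀ e f : ρ.range, e * f = f * e := by
    rintro ⟨_, x, rfl⟩ ⟨_, y, rfl⟩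
    refine Subtype.ext (commutatorElement_eq_one_iff_mul_comm.1 ?_)
    exact (map_commutatorElement ρ x y).symm.trans ((hker _).2 (hc x x.2 y y.2))
  rw [hcard]
  rcases hE.isCyclic_or_quaternion (p := q) (fun e => ⟨1, by simpa using hpow e⟩) with h | ⟨rfl, k, ⟨e⟩⟩
  · obtain ⟨g, hg⟩ := h.exists_ofOrder_eq_natCard
    rw [← hg]
    exact orderOf_dvd_of_pow_eq_one (hpow g)
  · exfalso
    haveI : NeZero (2 ^ (k + 1)) := ⟨by positivity⟩
    have h1 : (QuaternionGroup.a 1 : QuaternionGroup (2 ^ (k + 1))) ^ 2 = 1 := by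
      rw [← e.apply_symm_apply (QuaternionGroup.a 1), ← map_pow, hpow, map_one]
    have h2 := Nat.le_of_dvd two_pos (orderOf_dvd_of_pow_eq_one h1)
    rw [QuaternionGroup.orderOf_a_one, pow_succ] at h2
    have := Nat.one_le_two_pow (n := k)
    omega

/-- an element of the second centre of order `q` modulo the centre -/
theorem ito_exists_second [Finite G] {q : ℕ} [hq : Fact q.Prime] {Q : Subgroup G}
    (hQ : IsPGroup q Q) (h : ¬ Q ≤ center G) :
    ∃ y ∈ Q, y ∉ center G ∧ y ^ q ∈ center G ∧ ∀ g ∈ Q, ⁅y, g⁆ ∈ center G := by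
  obtain ⟨x, -, h1, h2, h3⟩ := exists_central_mod_of_not_le hQ (N := (center G).subgroupOf Q)
    (M := ⊤) (fun e => h fun x hx => e (mem_top (⟨x, hx⟩ : Q)))
  exact ⟨x, x.2, h1, h2, fun g hg => h3 ⟨g, hg⟩⟩

/-- the subgroup generated by the `r`-elements of `D` -/
def AE (r : ℕ) (D : Subgroup G) : Subgroup G := closure {g | g ∈ D ∧ IsPiElt {r} g}

theorem AE_le (r : ℕ) (D : Subgroup G) : AE r D ≤ D := (closure_le _).2 fun _ h => h.1

theorem mem_AE_of {r : ℕ} {D : Subgroup G} {g : G} (h : g ∈ D) (h' : IsPiElt {r} g) :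
    g ∈ AE r D := subset_closure ⟨h, h'⟩

theorem AE_conj (r : ℕ) (D : Subgroup G) (g : G) :
    AE r (MulAut.conj g • D) = MulAut.conj g • AE r D := by
  rw [AE, AE, smul_closure]
  congr 1
  ext x
  rw [Set.mem_smul_set_iff_inv_smul_mem, Set.mem_ofPred_eq, Set.mem_ofPred_eq,
    Subgroup.mem_pointwise_smul_iff_inv_smul_mem]
  refine and_congr_right fun _ => ?_
  have : (MulAut.conj g)⁻¹ • x = g⁻¹ * x * g⁻¹⁻¹ := by simp
  rw [this, isPiElt_conj_iff]

theorem normalizer_le_AE (r : ℕ) (D : Subgroup G) :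
    normalizer (D : Set G) ≤ normalizer (AE r D : Set G) := fun g hg => by
  rw [← conj_smul_eq_self_iff] at hg ⊢
  rw [← AE_conj, hg]

/-- commuting non-central `π`-elements have the same centralizer -/
structure PiPart (π : Set ℕ) (G : Type*) [Group G] : Prop where
  eq : ∀ u v : G, IsPiElt π u → IsPiElt π v → u ∉ center G → v ∉ center G → Commute u v →
    cent(u) = cent(v)

namespace PiPart

variable {π : Set ℕ} {u : G}

theorem eq' (h : PiPart π G) (hu : IsPiElt π u) (huZ : u ∉ center G) {g : G} (hg : g ∈ cent(u))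
    (hg' : IsPiElt π g) (hgZ : g ∉ center G) : cent(g) = cent(u) :=
  h.eq g u hg' hu hgZ huZ (mem_cent.1 hg)

theorem le_cent (h : PiPart π G) (hu : IsPiElt π u) (huZ : u ∉ center G) {g : G} (hg : g ∈ cent(u))
    (hg' : IsPiElt π g) : cent(u) ≤ cent(g) := by
  by_cases hgZ : g ∈ center G
  · rw [cent_eq_top_iff.2 hgZ]; exact le_top
  · exact (h.eq' hu huZ hg hg' hgZ).ge

theorem mem_AE (h : PiPart π G) (hu : IsPiElt π u) (huZ : u ∉ center G) {r : ℕ} (hr : r ∈ π)
    {g : G} : g ∈ AE r cent(u) ↔ g ∈ cent(u) ∧ IsPiElt {r} g := by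
  refine ⟨fun hg => ?_, fun hg => mem_AE_of hg.1 hg.2⟩
  induction hg using closure_induction with
  | mem x hx => exact hx
  | one => exact ⟨one_mem _, isPiElt_one _⟩
  | mul x y _ _ hx hy =>
    exact ⟨mul_mem hx.1 hy.1, hx.2.mul hy.2 (mem_cent.1
      (h.le_cent hu huZ hy.1 (hy.2.mono (by simpa using hr)) hx.1))⟩
  | inv x _ hx => exact ⟨inv_mem hx.1, hx.2.inv⟩

theorem AE_pi (h : PiPart π G) (hu : IsPiElt π u) (huZ : u ∉ center G) {r : ℕ} (hr : r ∈ π)
    {g : G} (hg : g ∈ AE r cent(u)) : IsPiElt π g :=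
  ((h.mem_AE hu huZ hr).1 hg).2.mono (by simpa using hr)

theorem AE_isPGroup [Finite G] (h : PiPart π G) (hu : IsPiElt π u) (huZ : u ∉ center G) {r : ℕ}
    [Fact r.Prime] (hr : r ∈ π) : IsPGroup r (AE r cent(u)) :=
  isPGroup_of_forall_isPiElt fun _ hx => ((h.mem_AE hu huZ hr).1 hx).2

theorem AE_sylow [Finite G] (h : PiPart π G) (hu : IsPiElt π u) (huZ : u ∉ center G) {r : ℕ}
    [Fact r.Prime] (hr : r ∈ π) : IsSylowIn r (AE r cent(u)) cent(u) :=
  isSylowIn_of_maximal (AE_le _ _) (h.AE_isPGroup hu huZ hr) fun _ hU h1 h2 =>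
    le_antisymm (fun _ hx => mem_AE_of (h2 hx) (isPiElt_singleton_of_mem hU hx)) h1

theorem mem_normalizer (h : PiPart π G) (hu : IsPiElt π u) (huZ : u ∉ center G) {g : G}
    (hg : g * u * g⁻¹ ∈ cent(u)) : g ∈ normalizer (cent(u) : Set G) := by
  rw [← conj_smul_eq_self_iff, ← cent_conj]
  exact h.eq' hu huZ hg (hu.conj g) fun e => huZ (ito_mem_center_of_conj e)

/-- an element of order coprime to `r` centralizing `w` modulo the centre centralizes `u` -/
theorem mem_of_comm (h : PiPart π G) (hu : IsPiElt π u) (huZ : u ∉ center G) {w x : G}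
    (hw : w ∈ cent(u)) (hw' : IsPiElt π w) (hwZ : w ∉ center G)
    (hc : (orderOf x).Coprime (orderOf w)) (hx : ⁅x, w⁆ ∈ center G) : x ∈ cent(u) := by
  rw [← h.eq' hu huZ hw hw' hwZ]
  exact mem_cent.2 (ito_commute_of_center hx hc)

theorem lt_relIndex [Finite G] (h : PiPart π G) (hu : IsPiElt π u) (huZ : u ∉ center G) {q r : ℕ}
    [Fact q.Prime] [Fact r.Prime] (hr : r ∈ π) (hqr : q ≠ r) {x : G} (hx : IsPiElt {q} x)
    (hxN : x ∈ normalizer (cent(u) : Set G)) (hxD : x ∉ cent(u))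
    (hA : ¬ AE r cent(u) ≤ center G) : q < (center G).relIndex (AE r cent(u)) := by
  set f := QuotientGroup.mk' (center G)
  have h1 : zpowers (f x) ≤ normalizer (((AE r cent(u)).map f : Subgroup _) : Set _) :=
    zpowers_le.2 (le_normalizer_map f (mem_map_of_mem f (normalizer_le_AE r _ hxN)))
  have h2 := CL.Grp.card_modEq_card_inf_centralizer (hx.map f).isPGroup_zpowers h1
  have h3 : (AE r cent(u)).map f ⊓ centralizer (zpowers (f x) : Set _) = ⊥ := by
    rw [eq_bot_iff]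
    rintro _ ⟨⟨w, hw, rfl⟩, hc⟩
    rw [mem_bot]
    by_contra hwZ
    have hwZ' : w ∉ center G := fun e => hwZ ((QuotientGroup.eq_one_iff w).2 e)
    have hw' := (h.mem_AE hu huZ hr).1 hw
    exact hxD (h.mem_of_comm hu huZ hw'.1 (h.AE_pi hu huZ hr hw) hwZ' (ito_coprime hqr hx hw'.2)
      (ito_commute_mk_iff.1 (hc _ (mem_zpowers _))))
  rw [h3, card_bot, card_map_mk'] at h2
  have h4 : (center G).relIndex (AE r cent(u)) ≠ 1 := fun e => hA (relIndex_eq_one.1 e)
  have h5 : (center G).relIndex (AE r cent(u)) ≠ 0 := index_ne_zero_of_finite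
  have h6 := Nat.le_of_dvd (by omega) ((Nat.modEq_iff_dvd' (by omega)).1 h2.symm)
  omega

/-- the index of `C_Q(y)` in `Q` for `y` in the second centre -/
theorem relIndex_dvd [Finite G] (h : PiPart π G) {q r : ℕ} [hq : Fact q.Prime] [Fact r.Prime]
    (hqπ : q ∈ π) (hr : r ∈ π) (hqr : q ≠ r) {Q : Subgroup G} (hQ : IsPGroup q Q) {y : G}
    (hy : y ∈ Q) (hyZ : y ∉ center G) (hyq : y ^ q ∈ center G)
    (hyQ : ∀ g ∈ Q, ⁅y, g⁆ ∈ center G) (hA : ¬ AE r cent(y) ≤ center G) :
    (cent(y)).relIndex Q ∣ q := by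
  set f := QuotientGroup.mk' (center G)
  have hyπ : IsPiElt π y := (isPiElt_singleton_of_mem hQ hy).mono (by simpa using hqπ)
  have hN : Q ≤ normalizer (cent(y) : Set G) := fun g hg =>
    mem_normalizer_cent_of_commutator_mem (hyQ g hg)
  set V := (AE r cent(y)).map f
  have hV : V ≠ ⊥ := fun e => hA (by rwa [Subgroup.map_eq_bot_iff, QuotientGroup.ker_mk'] at e)
  have key : ∀ g ∈ Q, ∀ w ∈ AE r cent(y), w ∉ center G → Commute (f g) (f w) → g ∈ cent(y) :=
    fun g hg w hw hwZ hc => by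
      have hw' := (h.mem_AE hyπ hyZ hr).1 hw
      exact h.mem_of_comm hyπ hyZ hw'.1 (h.AE_pi hyπ hyZ hr hw) hwZ
        (ito_coprime hqr (isPiElt_singleton_of_mem hQ hg) hw'.2) (ito_commute_mk_iff.1 hc)
  have key2 : ∀ g ∈ cent(y), f g ∈ centralizer (V : Set _) := by
    rintro g hg _ ⟨w, hw, rfl⟩
    exact ((mem_cent'.1 (h.le_cent hyπ hyZ (AE_le _ _ hw) (h.AE_pi hyπ hyZ hr hw) hg)).map f).eq
  have h1 := ito_relIndex_dvd_of_fpf (q := q) (X := Q.map f) hV
    ((map_mono (hN.trans (normalizer_le_AE r _))).trans (le_normalizer_map f)) ?_ ?_ ?_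
  · rw [← relIndex_comap, ← inf_relIndex_right] at h1
    rw [← inf_relIndex_right]
    convert h1 using 2
    ext g
    refine and_congr_left fun hg => ⟨key2 g, fun hc => ?_⟩
    obtain ⟨w, hw, hwZ⟩ := SetLike.not_le_iff_exists.1 hA
    exact key g hg w hw hwZ (hc _ (mem_map_of_mem f hw)).symm
  · rintro _ ⟨g, hg, rfl⟩ _ ⟨w, hw, rfl⟩ h1 hc
    exact key2 g (key g hg w hw (fun e => h1 ((QuotientGroup.eq_one_iff w).2 e)) hc)
  · rintro _ ⟨a, ha, rfl⟩ _ ⟨b, hb, rfl⟩
    rw [← map_commutatorElement]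
    exact key2 _ (mem_cent'.2 (commute_commutator_of_mem_centMod (hyQ a ha) (hyQ b hb)))
  · rintro _ ⟨a, ha, rfl⟩
    rw [← map_pow]
    refine key2 _ (mem_cent'.2 (commutatorElement_eq_one_iff_commute.1 ?_))
    rw [comm_pow_right_of_central (hyQ a ha), ← comm_pow_left_of_central (hyQ a ha)]
    exact commutatorElement_eq_one_iff_commute.2 (mem_center_iff.1 hyq a).symm

end PiPart

end CL.Cit
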