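/-
Class sizes (helper95): planes in groups with partitioned `π`-elements.
-/
import Cfsg.Agent.Cit.Ito1

namespace CL.Cit

open Subgroup Cfsg CL.Grp CL.Fgs
open scoped Pointwise commutatorElement

variable {G : Type*} [Group G]

theorem ito_ncard_orbit (T D : Subgroup G) :
    {E : Subgroup G | ∃ t ∈ T, MulAut.conj t • D = E}.ncard =
      (normalizer (D : Set G)).relIndex T := by
  letI : MulAction T (Subgroup G) := MulAction.compHom _ (MulAut.conj.comp T.subtype)
  have h1 : MulAction.stabilizer T D = (normalizer (D : Set G)).subgroupOf T := by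
    ext t
    rw [MulAction.mem_stabilizer_iff, mem_subgroupOf, ← conj_smul_eq_self_iff]
    rfl
  rw [relIndex, ← h1, MulAction.index_stabilizer]
  congr 1
  ext E
  constructor
  · rintro ⟨t, ht, rfl⟩; exact ⟨⟨t, ht⟩, rfl⟩
  · rintro ⟨t, rfl⟩; exact ⟨t, t.2, rfl⟩

theorem ito_exists_sq_mem {C : Subgroup G} (n : ℕ) : ∀ g : G, g ∉ C → g ^ 2 ^ n ∈ C →
    ∃ h ∈ zpowers g, h ∉ C ∧ h * h ∈ C := by
  induction n with
  | zero => intro g h1 h2; exact absurd (by simpa using h2) h1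
  | succ n ih =>
    intro g h1 h2
    by_cases h3 : g * g ∈ C
    · exact ⟨g, mem_zpowers g, h1, h3⟩
    · obtain ⟨h, h4, h5⟩ := ih (g * g) h3 (by rwa [← sq, ← pow_mul, ← pow_succ'])
      exact ⟨h, zpowers_le.2 (mul_mem (mem_zpowers g) (mem_zpowers g)) h4, h5⟩

theorem ito_relIndex_sylow [Finite G] {r : ℕ} [hr : Fact r.Prime] {S R D : Subgroup G}
    (hS : IsSylowIn r S D) (hR : IsSylowIn r R ⊤) (h : S ≤ R) :
    D.relIndex R = r ^ D.index.factorization r := by
  have h1 : D ⊓ R = S := hS.eq_of_le (hR.isPGroup.to_le inf_le_right) (le_inf hS.le h) inf_le_left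
  have h2 := card_mul_relIndex (inf_le_right : D ⊓ R ≤ R)
  rw [inf_relIndex_right, h1, hS.card_eq_pow, hR.card_eq_pow, card_top, ← card_mul_index D,
    Nat.factorization_mul Nat.card_pos.ne' index_ne_zero_of_finite, Finsupp.add_apply,
    pow_add] at h2
  exact Nat.eq_of_mul_eq_mul_left (pow_pos hr.out.pos _) h2

theorem ito_fact_card [Finite G] (r : ℕ) (D : Subgroup G) :
    (Nat.card D).factorization r + D.index.factorization r = (Nat.card G).factorization r := by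
  rw [← card_mul_index D, Nat.factorization_mul Nat.card_pos.ne' index_ne_zero_of_finite,
    Finsupp.add_apply]

/-- a `q`-subgroup of order `q ^ 2` modulo the centre which is not abelian -/
structure Plane (q : ℕ) (U : Subgroup G) : Prop where
  pg : IsPGroup q U
  ctr : ∀ z ∈ center G, IsPiElt {q} z → z ∈ U
  idx : (center G).relIndex U = q ^ 2
  comm : ∀ a ∈ U, ∀ b ∈ U, ⁅a, b⁆ ∈ center G
  nab : ∀ a ∈ U, a ∉ center G → ¬ U ≤ cent(a)

namespace Plane

variable {q : ℕ} [hq : Fact q.Prime] {U : Subgroup G}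

theorem line (h : Plane q U) {a : G} (ha : a ∈ U) (haZ : a ∉ center G) :
    (center G).relIndex (cent(a) ⊓ U) = q ∧ (cent(a)).relIndex U = q := by
  have h1 := relIndex_inf_mul_relIndex (center G) cent(a) U
  rw [inf_eq_left.2 (center_le_cent a), h.idx] at h1
  have h2 : (center G).relIndex (cent(a) ⊓ U) ≠ 1 := fun e =>
    haZ (relIndex_eq_one.1 e ⟨self_mem_cent a, ha⟩)
  have h3 : (cent(a)).relIndex U ≠ 1 := fun e => h.nab a ha haZ (relIndex_eq_one.1 e)
  obtain ⟨i, -, hi⟩ := (Nat.dvd_prime_pow hq.out).1 (Dvd.intro _ h1)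
  obtain ⟨j, -, hj⟩ := (Nat.dvd_prime_pow hq.out).1 (Dvd.intro_left _ h1)
  rw [hi, hj, ← pow_add] at h1
  have h4 := Nat.pow_right_injective hq.out.two_le h1
  have h5 : i ≠ 0 := by rintro rfl; exact h2 (by simpa using hi)
  have h6 : j ≠ 0 := by rintro rfl; exact h3 (by simpa using hj)
  rw [hi, hj, show i = 1 by omega, show j = 1 by omega, pow_one]
  exact ⟨rfl, rfl⟩

omit hq in
theorem le_normalizer (h : Plane q U) {a : G} (ha : a ∈ U) :
    U ≤ normalizer (cent(a) : Set G) := fun g hg =>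
  mem_normalizer_cent_of_commutator_mem (h.comm a ha g hg)

theorem ncard_lines [Finite G] {π : Set ℕ} (hP : PiPart π G) (hqπ : q ∈ π) (h : Plane q U) :
    {E : Subgroup G | ∃ a ∈ U, a ∉ center G ∧ cent(a) = E}.ncard = q + 1 := by
  classical
  have hπ : ∀ a ∈ U, IsPiElt π a := fun a ha =>
    (isPiElt_singleton_of_mem h.pg ha).mono (by simpa using hqπ)
  haveI := Fintype.ofFinite G
  set z := Nat.card (center G ⊓ U : Subgroup G) with hz
  have hz0 : 0 < z := Nat.card_pos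
  have key : ∀ K : Subgroup G, center G ⊓ U ≤ K → K ≤ U →
      (Finset.univ.filter fun a => a ∈ K ∧ a ∉ center G).card =
        z * (center G).relIndex K - z := by
    intro K h1 h2
    have h3 : center G ⊓ K = center G ⊓ U :=
      le_antisymm (inf_le_inf_left _ h2) (le_inf inf_le_left h1)
    have h4 := card_mul_relIndex (inf_le_right : center G ⊓ K ≤ K)
    rw [inf_relIndex_right, h3] at h4
    rw [h4, hz, ← h3, ← Set.ncard_coe_finset, ← ncard_coe_subgroup, ← ncard_coe_subgroup,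
      ← Set.ncard_sdiff (by exact fun x hx => hx.2)]
    congr 1
    ext a
    simp
  set s := Finset.univ.filter fun a => a ∈ U ∧ a ∉ center G with hs
  have h1 := Finset.card_eq_sum_card_image (fun a : G => cent(a)) s
  have h2 : ∀ E ∈ s.image (fun a : G => cent(a)),
      (s.filter fun a => cent(a) = E).card = z * q - z := by
    intro E hE
    obtain ⟨a, ha, rfl⟩ := Finset.mem_image.1 hE
    rw [hs, Finset.mem_filter] at ha
    rw [← (h.line ha.2.1 ha.2.2).1, ← key (cent(a) ⊓ U)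
      (inf_le_inf_right _ (center_le_cent a)) inf_le_right]
    congr 1
    ext b
    simp only [hs, Finset.mem_filter, Finset.mem_univ, true_and, Subgroup.mem_inf]
    exact ⟨fun hb => ⟨⟨hb.2 ▸ self_mem_cent b, hb.1.1⟩, hb.1.2⟩, fun hb => ⟨⟨hb.1.2, hb.2⟩,
      hP.eq' (hπ a ha.2.1) ha.2.2 hb.1.1 (hπ b hb.1.2) hb.2⟩⟩
  rw [Finset.sum_congr rfl h2, Finset.sum_const, smul_eq_mul, hs, key U inf_le_right le_rfl,
    h.idx] at h1
  have h3 : {E : Subgroup G | ∃ a ∈ U, a ∉ center G ∧ cent(a) = E} =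
      ↑(s.image fun a : G => cent(a)) := by
    ext E; simp [hs, and_assoc]
  rw [h3, Set.ncard_coe_finset, hs]
  obtain ⟨k, hk⟩ : ∃ k, q = k + 1 := ⟨q - 1, by have := hq.out.pos; omega⟩
  have hk0 : 0 < k := by have := hq.out.two_le; omega
  have h4 : z * q ^ 2 - z = (q + 1) * (z * k) := by
    rw [hk]; apply Nat.sub_eq_of_eq_add; ring
  have h5 : z * q - z = z * k := by
    rw [hk]; apply Nat.sub_eq_of_eq_add; ring
  rw [h4, h5] at h1
  exact (Nat.eq_of_mul_eq_mul_right (by positivity) h1).symm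

/-- an element inverting a line gives a contradiction -/
theorem false_of_even [Finite G] {π : Set ℕ} (hP : PiPart π G) (hqπ : q ∈ π) (h : Plane q U)
    (hq2 : q ≠ 2) {r : ℕ} [Fact r.Prime] (hr : r ∈ π) (hqr : q ≠ r)
    (hA : ∀ a ∈ U, a ∉ center G → ¬ AE r cent(a) ≤ center G) {a : G} (ha : a ∈ U)
    (he : 2 ∣ (normalizer (cent(a) : Set G)).relIndex (normalizer (U : Set G))) : False := by
  have hq' : ∀ a ∈ U, IsPiElt {q} a := fun a ha => isPiElt_singleton_of_mem h.pg ha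
  have hπ : ∀ a ∈ U, IsPiElt π a := fun a ha => (hq' a ha).mono (by simpa using hqπ)
  have hsq : ∀ c ∈ U, c * c = 1 → c = 1 := fun c hc e =>
    (isPiElt_of_pow_eq_one (n := 2) (by simpa using isPiNum_singleton_pow Nat.prime_two 1)
      (by rw [sq, e])).eq_one ((hq' c hc).mono (by simpa using hq2.symm))
  obtain ⟨P, hPs⟩ := exists_isSylowIn 2 (normalizer (U : Set G))
  obtain ⟨g, hgP, hg⟩ : ∃ g ∈ P, g ∉ centralizer (U : Set G) := by
    by_contra hc
    push Not at hc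
    refine hPs.not_dvd_relIndex_of_le (K := normalizer (cent(a) : Set G) ⊓ normalizer (U : Set G))
      (le_inf (fun g hg => ?_) hPs.le) inf_le_right (by rwa [inf_relIndex_right])
    exact Subgroup.le_normalizer (mem_cent.2 (hc g hg a ha).symm)
  obtain ⟨n, hn⟩ := hPs.isPGroup ⟨g, hgP⟩
  obtain ⟨t, ht, htC, ht2⟩ := ito_exists_sq_mem (C := centralizer (U : Set G)) n g hg
    (by rw [show g ^ 2 ^ n = 1 from congrArg Subtype.val hn]; exact one_mem _)
  have htP : t ∈ P := zpowers_le.2 hgP ht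
  have htN : t ∈ normalizer (U : Set G) := hPs.le htP
  have ht' : IsPiElt {2} t := isPiElt_singleton_of_mem hPs.isPGroup htP
  obtain ⟨u, hu, htu⟩ : ∃ u ∈ U, u * t ≠ t * u := by
    by_contra hc
    push Not at hc
    exact htC hc
  set v := ⁅t, u⁆ with hv
  have hvU : v ∈ U := mul_mem ((mem_normalizer_iff.1 htN u).1 hu) (inv_mem hu)
  have hvZ : v ∉ center G := fun e =>
    htu (ito_commute_of_center e (ito_coprime hq2.symm ht' (hq' u hu))).eq.symm
  have hinv : t * v * t⁻¹ = v⁻¹ := by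
    have := ht2 u hu
    calc t * v * t⁻¹ = (t * t * u) * t⁻¹ * u⁻¹ * t⁻¹ := by rw [hv, commutatorElement_def]; group
      _ = v⁻¹ := by rw [← this, hv, commutatorElement_def]; group
  have hvπ := hπ v hvU
  have htD : t ∉ cent(v) := fun e => by
    rw [mem_cent_iff_conj.1 e] at hinv
    exact hvZ (by rw [hsq v hvU (eq_inv_iff_mul_eq_one.1 hinv)]; exact one_mem _)
  have htND : t ∈ normalizer (cent(v) : Set G) :=
    hP.mem_normalizer hvπ hvZ (by rw [hinv]; exact inv_mem (self_mem_cent v))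
  obtain ⟨w, hw, hwZ⟩ := SetLike.not_le_iff_exists.1 (hA v hvU hvZ)
  have hw' := (hP.mem_AE hvπ hvZ hr).1 hw
  have hcw : ∀ y ∈ AE r cent(v), cent(v) ≤ cent(y) := fun y hy =>
    hP.le_cent hvπ hvZ (AE_le _ _ hy) (hP.AE_pi hvπ hvZ hr hy)
  have inv : ∀ s ∈ normalizer (cent(v) : Set G), s ∉ cent(v) → s * s ∈ cent(v) →
      w * (s * w * s⁻¹) ∈ center G := by
    intro s h1 h2 h3
    have h4 : s * w * s⁻¹ ∈ AE r cent(v) := (mem_normalizer_iff.1 (normalizer_le_AE r _ h1) w).1 hw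
    by_contra h5
    have h6 := mul_mem hw h4
    refine h2 ?_
    rw [← hP.eq' hvπ hvZ (AE_le _ _ h6) (hP.AE_pi hvπ hvZ hr h6) h5, mem_cent_iff_conj]
    have h7 : s * s * w * (s * s)⁻¹ = w := mem_cent_iff_conj.1 (hcw w hw h3)
    have h8 : Commute (s * w * s⁻¹) w := mem_cent.1 (hcw w hw (AE_le _ _ h4))
    calc s * (w * (s * w * s⁻¹)) * s⁻¹ = s * w * s⁻¹ * (s * s * w * (s * s)⁻¹) := by group
      _ = _ := by rw [h7, h8.eq]
  obtain ⟨x, hx, hxD⟩ := SetLike.not_le_iff_exists.1 (h.nab v hvU hvZ)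
  have hxN := h.le_normalizer hvU hx
  have ht2' : t * t ∈ cent(v) := mem_cent'.2 (ht2 v hvU)
  have i1 := inv t htND htD ht2'
  have i2 := inv (x * t * x⁻¹) (mul_mem (mul_mem hxN htND) (inv_mem hxN))
    (fun e => htD ((mem_normalizer_iff.1 hxN t).2 e))
    (by rw [show x * t * x⁻¹ * (x * t * x⁻¹) = x * (t * t) * x⁻¹ by group]
        exact (mem_normalizer_iff.1 hxN _).1 ht2')
  set c := t⁻¹ * x * t * x⁻¹ with hc
  have hcU : c ∈ U := mul_mem ((mem_normalizer_iff''.1 htN x).1 hx) (inv_mem hx)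
  have hcw' : ⁅c, w⁆ ∈ center G := by
    have h1 := mul_mem (inv_mem i1) i2
    have h2 := (inferInstance : (center G).Normal).conj_mem _ h1 (w * t⁻¹)
    convert h2 using 1
    rw [hc, commutatorElement_def]; group
  have hcD : c ∈ cent(v) := hP.mem_of_comm hvπ hvZ hw'.1 (hP.AE_pi hvπ hvZ hr hw) hwZ
    (ito_coprime hqr (hq' c hcU) hw'.2) hcw'
  have hz := h.comm v hvU x hx
  have hz1 : ⁅v, x⁆ * ⁅v, x⁆ = 1 := by
    have e1 : t⁻¹ * v * t = v⁻¹ := by
      calc t⁻¹ * v * t = (t⁻¹ * v⁻¹ * t)⁻¹ := by group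
        _ = (t⁻¹ * (t * v * t⁻¹) * t)⁻¹ := by rw [hinv]
        _ = _ := by group
    have e2 : t⁻¹ * x * t = c * x := by rw [hc]; group
    have e3 : c * v = v * c := (mem_cent.1 hcD).eq
    have e4 : ∀ g, g * ⁅v, x⁆ = ⁅v, x⁆ * g := mem_center_iff.1 hz
    have e5 : ⁅v, x⁆ = (t⁻¹ * v * t) * (t⁻¹ * x * t) * (t⁻¹ * v * t)⁻¹ * (t⁻¹ * x * t)⁻¹ := by
      calc ⁅v, x⁆ = t⁻¹ * (t * ⁅v, x⁆) := by group
        _ = _ := by rw [e4, commutatorElement_def]; group
    have e6 : ⁅v, x⁆ = c * v⁻¹ * ⁅v, x⁆⁻¹ * v * c⁻¹ := by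
      conv_lhs => rw [e5, e1, e2]
      calc v⁻¹ * (c * x) * v⁻¹⁻¹ * (c * x)⁻¹ = v⁻¹ * (c * v) * v⁻¹ * x * v * x⁻¹ * c⁻¹ := by group
        _ = _ := by rw [e3, commutatorElement_def]; group
    have e7 : ∀ g, g * ⁅v, x⁆⁻¹ = ⁅v, x⁆⁻¹ * g := mem_center_iff.1 (inv_mem hz)
    rw [e7] at e6
    refine eq_inv_iff_mul_eq_one.1 (e6.trans ?_)
    group
  have hzU : ⁅v, x⁆ ∈ U := mul_mem (mul_mem (mul_mem hvU hx) (inv_mem hvU)) (inv_mem hx)
  exact hxD (mem_cent'.2 (commutatorElement_eq_one_iff_commute.1 (hsq _ hzU hz1)))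

end Plane

end CL.Cit
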