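/-
Class sizes (helper95): groups whose `p`-regular classes have two sizes (Camina; Alemany, Beltran, Felipe).
-/
import Cfsg.Agent.Cit.Ito2
import Cfsg.Agent.Grp.MinNormal
import Cfsg.Agent.Char.Burnside

namespace CL.Cit

open Subgroup Cfsg CL.Grp CL.Fgs
open scoped Pointwise commutatorElement

variable {G : Type*} [Group G]

theorem ito_ne {q p : ℕ} (h : q ≠ p) {x : G} (hx : IsPiElt {q} x) : IsPiElt {p}ᶜ x :=
  hx.mono (Set.singleton_subset_iff.2 h)

theorem ito_eq_of_relIndex_le [Finite G] {Z K L : Subgroup G} (h : K ≤ L) (h1 : Z ⊓ L ≤ K)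
    (h2 : Z.relIndex L ≤ Z.relIndex K) : K = L := by
  have h3 := card_mul_relIndex (inf_le_right : Z ⊓ L ≤ L)
  have h4 := card_mul_relIndex (inf_le_right : Z ⊓ K ≤ K)
  rw [inf_relIndex_right] at h3 h4
  rw [show Z ⊓ K = Z ⊓ L from le_antisymm (inf_le_inf_left _ h) (le_inf inf_le_left h1)] at h4
  refine eq_of_le_of_card_ge h ?_
  rw [← h3, ← h4]
  exact Nat.mul_le_mul_left _ h2

theorem ito_relIndex_le_of_inf_le [Finite G] {Z D Y : Subgroup G} (h : D ⊓ Y ≤ Z) :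
    Z.relIndex Y ≤ D.relIndex Y := by
  rw [← inf_relIndex_right D]
  exact relIndex_le_of_le_left h index_ne_zero_of_finite

theorem ito_mem_sylow_of_center [Finite G] {q : ℕ} [Fact q.Prime] {Q : Subgroup G}
    (hQ : IsSylowIn q Q ⊤) {z : G} (hz : z ∈ center G) (hz' : IsPiElt {q} z) : z ∈ Q :=
  hQ.le_of_normalized hz'.isPGroup_zpowers le_top
    ((cent_eq_top_iff.2 hz).ge.trans (cent_le_normalizer_zpowers z)) (mem_zpowers z)

theorem ito_not_le_center [Finite G] {q : ℕ} [Fact q.Prime] {Q : Subgroup G}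
    (hQ : IsSylowIn q Q ⊤) {w : G} (hw : IsPiElt {q} w) (hwZ : w ∉ center G) :
    ¬ Q ≤ center G := fun h => by
  obtain ⟨g, -, hg⟩ := hQ.exists_conj_le hw.isPGroup_zpowers le_top
  exact hwZ (ito_mem_center_of_conj (h (hg (conj_mem_conj_smul g (mem_zpowers w)))))

theorem ito_not_le_center_of_dvd [Finite G] {q : ℕ} [Fact q.Prime] {Q : Subgroup G}
    (hQ : IsSylowIn q Q ⊤) {w : G} (hw : q ∣ cs(w)) : ¬ Q ≤ center G := fun h =>
  hQ.not_dvd_relIndex_of_le (h.trans (center_le_cent w)) le_top (by rwa [relIndex_top_right])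

theorem ito_relIndex_dvd_pow [Finite G] {q : ℕ} [hq : Fact q.Prime] {X D : Subgroup G}
    (hX : IsPGroup q X) (hn : X ≤ normalizer (D : Set G)) :
    D.relIndex X ∣ q ^ D.index.factorization q := by
  obtain ⟨k, hk⟩ := ito_relIndex_pow hX D
  have h1 := (CL.Char.relIndex_dvd_relIndex_of_normalizer hn le_rfl).trans
    (relIndex_dvd_index_of_le Subgroup.le_normalizer)
  rw [hk] at h1 ⊢
  exact pow_dvd_pow _ ((hq.out.pow_dvd_iff_le_factorization index_ne_zero_of_finite).1 h1)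

namespace PiPart

variable [Finite G] {π : Set ℕ} {u v : G}

theorem alpha_eq (h : PiPart π G) (hu : IsPiElt π u) (huZ : u ∉ center G) (hv : IsPiElt π v)
    (hvZ : v ∉ center G) {r : ℕ} [Fact r.Prime] (hr : r ∈ π)
    (he : (cs(u)).factorization r = (cs(v)).factorization r) :
    (center G).relIndex (AE r cent(u)) = (center G).relIndex (AE r cent(v)) := by
  have h1 := card_mul_relIndex (inf_le_right : center G ⊓ AE r cent(u) ≤ _)
  have h2 := card_mul_relIndex (inf_le_right : center G ⊓ AE r cent(v) ≤ _)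
  have h3 : center G ⊓ AE r cent(u) = center G ⊓ AE r cent(v) := by
    ext z
    refine and_congr_right fun hz => ?_
    change z ∈ AE r cent(u) ↔ z ∈ AE r cent(v)
    rw [h.mem_AE hu huZ hr, h.mem_AE hv hvZ hr]
    exact and_congr_left fun _ => iff_of_true (center_le_cent _ hz) (center_le_cent _ hz)
  have h4 := ito_fact_card r cent(u)
  have h5 := ito_fact_card r cent(v)
  rw [inf_relIndex_right, (h.AE_sylow hu huZ hr).card_eq_pow] at h1
  rw [inf_relIndex_right, (h.AE_sylow hv hvZ hr).card_eq_pow, ← h3,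
    show (Nat.card cent(v)).factorization r = (Nat.card cent(u)).factorization r by omega,
    ← h1] at h2
  exact (Nat.eq_of_mul_eq_mul_left Nat.card_pos h2).symm

theorem not_le_center (h : PiPart π G) (hu : IsPiElt π u) (huZ : u ∉ center G) {r : ℕ}
    [Fact r.Prime] (hr : r ∈ π) (hv : IsPiElt {r} v) (hvZ : v ∉ center G)
    (he : (cs(u)).factorization r = (cs(v)).factorization r) : ¬ AE r cent(u) ≤ center G := by
  rw [← relIndex_eq_one, h.alpha_eq hu huZ (hv.mono (by simpa using hr)) hvZ hr he,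
    relIndex_eq_one]
  exact fun e => hvZ (e (mem_AE_of (self_mem_cent v) hv))

theorem exists_conj (h : PiPart π G) (hu : IsPiElt π u) (huZ : u ∉ center G) (hv : IsPiElt π v)
    (hvZ : v ∉ center G) {r : ℕ} [Fact r.Prime] (hr : r ∈ π)
    (hlt : r ^ (cs(u)).factorization r < (center G).relIndex (AE r cent(v))) :
    ∃ g : G, cent(g * v * g⁻¹) = cent(u) := by
  obtain ⟨R, hR, hle⟩ := exists_isSylowIn_ge (h.AE_isPGroup hu huZ hr) le_top
  obtain ⟨g, -, hg⟩ := hR.exists_conj_le (h.AE_isPGroup hv hvZ hr) le_top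
  have hgZ : g * v * g⁻¹ ∉ center G := fun e => hvZ (ito_mem_center_of_conj e)
  rw [← AE_conj, ← cent_conj] at hg
  rw [← h.alpha_eq (hv.conj g) hgZ hv hvZ hr (by rw [cs_conj]),
    ← ito_relIndex_sylow (h.AE_sylow hu huZ hr) hR hle] at hlt
  have h1 : ¬ cent(u) ⊓ AE r cent(g * v * g⁻¹) ≤ center G := fun e =>
    (hlt.trans_le ((ito_relIndex_le_of_inf_le e).trans
      (relIndex_le_of_le_right hg index_ne_zero_of_finite))).false
  obtain ⟨w, hw, hwZ⟩ := SetLike.not_le_iff_exists.1 h1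
  have hw' := h.AE_pi (hv.conj g) hgZ hr hw.2
  exact ⟨g, (h.eq' (hv.conj g) hgZ (AE_le _ _ hw.2) hw' hwZ).symm.trans
    (h.eq' hu huZ hw.1 hw' hwZ)⟩

theorem exists_second (h : PiPart π G) {q : ℕ} [hq : Fact q.Prime] (hqπ : q ∈ π)
    (hA : ∀ y : G, IsPiElt {q} y → y ∉ center G →
      ∃ r : ℕ, r.Prime ∧ r ∈ π ∧ q ≠ r ∧ ¬ AE r cent(y) ≤ center G)
    {Q : Subgroup G} (hQ : IsSylowIn q Q ⊤) (hZ : ¬ Q ≤ center G) :
    ∃ y ∈ Q, y ∉ center G ∧ y ^ q ∈ center G ∧ (∀ g ∈ Q, ⁅y, g⁆ ∈ center G) ∧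
      (cent(y)).relIndex Q = q ^ (cs(y)).factorization q ∧ (cs(y)).factorization q ≤ 1 := by
  obtain ⟨y, hy, h1, h2, h3⟩ := ito_exists_second hQ.isPGroup hZ
  have hy' := isPiElt_singleton_of_mem hQ.isPGroup hy
  have hyπ : IsPiElt π y := hy'.mono (by simpa using hqπ)
  obtain ⟨r, hr, hrπ, hqr, hAr⟩ := hA y hy' h1
  haveI := Fact.mk hr
  have h4 := h.relIndex_dvd hqπ hrπ hqr hQ.isPGroup hy h1 h2 h3 hAr
  have h5 : (cent(y)).relIndex Q = q ^ (cs(y)).factorization q := by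
    refine ito_relIndex_sylow (h.AE_sylow hyπ h1 hqπ) hQ ?_
    have hN : Q ≤ normalizer (cent(y) : Set G) := fun g hg =>
      mem_normalizer_cent_of_commutator_mem (h3 g hg)
    exact (hQ.of_le hN le_top).le_of_normalized (h.AE_isPGroup hyπ h1 hqπ)
      ((AE_le _ _).trans Subgroup.le_normalizer) (normalizer_le_AE _ _)
  refine ⟨y, hy, h1, h2, h3, h5, ?_⟩
  rw [h5] at h4
  exact (Nat.pow_dvd_pow_iff_le_right hq.out.one_lt).1 (h4.trans (pow_one q).symm.dvd)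

theorem plane (h : PiPart π G) {q : ℕ} [hq : Fact q.Prime] (hqπ : q ∈ π)
    (hc : ∀ u : G, IsPiElt π u → u ∉ center G → (cs(u)).factorization q = 1)
    {Q : Subgroup G} (hQ : IsSylowIn q Q ⊤) {y x : G} (hy : y ∈ Q) (hyZ : y ∉ center G)
    (hyQ : ∀ g ∈ Q, ⁅y, g⁆ ∈ center G) (hi : (cent(y)).relIndex Q = q) (hx : x ∈ Q)
    (hxy : x ∉ cent(y)) : Plane q (Q ⊓ centMod x) := by
  have hπ : ∀ a ∈ Q, IsPiElt π a := fun a ha =>
    (isPiElt_singleton_of_mem hQ.isPGroup ha).mono (by simpa using hqπ)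
  have hxZ : x ∉ center G := fun e => hxy (center_le_cent y e)
  have hyU : y ∈ Q ⊓ centMod x := ⟨hy, by
    have := inv_mem (hyQ x hx)
    rwa [commutatorElement_inv] at this⟩
  have hxU : x ∈ Q ⊓ centMod x := ⟨hx, mem_centMod.2 (by simp)⟩
  have hpg : IsPGroup q (Q ⊓ centMod x : Subgroup G) := hQ.isPGroup.to_inf_left
  have hidx : (center G).relIndex (Q ⊓ centMod x) = q ^ 2 := by
    have h1 := relIndex_inf_mul_relIndex (center G) cent(x) (Q ⊓ centMod x)
    rw [inf_eq_left.2 (center_le_cent x)] at h1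
    have h2 := ito_relIndex_dvd_pow (D := cent(x)) hpg fun g hg =>
      mem_normalizer_cent_of_commutator_mem hg.2
    rw [hc x (hπ x hx) hxZ, pow_one] at h2
    have h3 := (hq.out.eq_one_or_self_of_dvd _ h2).resolve_left fun e =>
      hxy (mem_cent_comm.1 (relIndex_eq_one.1 e hyU))
    have h4 : (center G).relIndex (cent(x) ⊓ (Q ⊓ centMod x)) ≤ q := by
      refine (ito_relIndex_le_of_inf_le (D := cent(y)) fun g hg => ?_).trans
        ((relIndex_le_of_le_right (inf_le_right.trans inf_le_left) index_ne_zero_of_finite).trans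
          hi.le)
      by_contra hgZ
      refine hxy ?_
      rw [← h.eq' (hπ y hy) hyZ hg.1 (hπ g hg.2.2.1) hgZ]
      exact mem_cent_comm.1 hg.2.1
    obtain ⟨k, hk⟩ := ito_relIndex_pow (hpg.to_inf_right (H := cent(x))) (center G)
    have h5 : k ≠ 0 := by
      rintro rfl
      exact hxZ (relIndex_eq_one.1 hk ⟨self_mem_cent x, hxU⟩)
    rw [hk] at h4
    have h6 := (Nat.pow_le_pow_iff_right hq.out.one_lt).1 (h4.trans (pow_one q).ge)
    rw [← h1, hk, h3, show k = 1 by omega]; ring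
  refine ⟨hpg, fun z hz hz' => ⟨ito_mem_sylow_of_center hQ hz hz', ?_⟩, hidx, fun a ha b hb => ?_,
    fun a ha haZ hle => hxy ?_⟩
  · exact mem_centMod.2 (by rw [mem_center_iff.1 hz x]; simp)
  · rw [← card_map_mk'] at hidx
    exact ito_commute_mk_iff.1 (comm_of_isMulCommutative
      (IsPGroup.isMulCommutative_of_card_eq_prime_sq hidx) (mem_map_of_mem _ ha) (mem_map_of_mem _ hb))
  · rw [h.eq' (hπ a ha.1) haZ (hle hyU) (hπ y hy) hyZ]
    exact hle hxU

theorem exists_move (h : PiPart π G) {q : ℕ} [hq : Fact q.Prime] (hqπ : q ∈ π)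
    (hc : ∀ u : G, IsPiElt π u → u ∉ center G → (cs(u)).factorization q = 1)
    {U : Subgroup G} (hU : Plane q U) {a : G} (ha : a ∈ U) (haZ : a ∉ center G)
    (hlt : q < (center G).relIndex (AE q cent(a))) :
    ∃ m ∈ normalizer (U : Set G), m ∈ cent(a) ∧ IsPiElt {q} m ∧ ∀ b ∈ U, b ∉ center G →
      cent(b) ≠ cent(a) → m ∉ normalizer (cent(b) : Set G) := by
  have hπ : ∀ a ∈ U, IsPiElt π a := fun a ha =>
    (isPiElt_singleton_of_mem hU.pg ha).mono (by simpa using hqπ)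
  have hA := h.AE_isPGroup (hπ a ha) haZ hqπ
  have hn : U ≤ normalizer (AE q cent(a) : Set G) := (hU.le_normalizer ha).trans (normalizer_le_AE _ _)
  have h1 : U < AE q cent(a) ⊔ U := lt_of_le_not_ge le_sup_right fun e => by
    have := relIndex_le_of_le_right (H := center G) (le_inf (AE_le q cent(a)) (le_sup_left.trans e))
      index_ne_zero_of_finite
    rw [(hU.line ha haZ).1] at this
    omega
  obtain ⟨g, hg, hgU⟩ := SetLike.exists_of_lt
    (lt_inf_normalizer_of_isPGroup (hA.to_sup_of_normal_left' hU.pg hn) h1)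
  obtain ⟨m, hm, u, hu, rfl⟩ := (mem_sup_of_le_normalizer' hn).1 hg.1
  have hm' := (h.mem_AE (hπ a ha) haZ hqπ).1 hm
  refine ⟨m, (Subgroup.mul_mem_cancel_right _ (Subgroup.le_normalizer hu)).1 hg.2, hm'.1, hm'.2,
    fun b hb hbZ hne hmb => hgU (mul_mem ?_ hu)⟩
  have h2 := ito_relIndex_dvd_pow (D := cent(b)) (hA.to_inf_left (K := normalizer (cent(b) : Set G)))
    inf_le_right
  rw [hc b (hπ b hb) hbZ, pow_one] at h2
  have h3 : cent(a) ⊓ U = AE q cent(a) ⊓ normalizer (cent(b) : Set G) := by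
    refine ito_eq_of_relIndex_le (Z := center G) (fun g hg => ⟨mem_AE_of hg.1
      (isPiElt_singleton_of_mem hU.pg hg.2), hU.le_normalizer hb hg.2⟩) (fun z hz =>
      ⟨center_le_cent a hz.1, hU.ctr z hz.1 (isPiElt_singleton_of_mem hA hz.2.1)⟩) ?_
    rw [(hU.line ha haZ).1]
    refine (ito_relIndex_le_of_inf_le fun g hg => ?_).trans (Nat.le_of_dvd hq.out.pos h2)
    by_contra hgZ
    have hg' := h.AE_pi (hπ a ha) haZ hqπ hg.2.1
    exact hne ((h.eq' (hπ b hb) hbZ hg.1 hg' hgZ).symm.trans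
      (h.eq' (hπ a ha) haZ (AE_le _ _ hg.2.1) hg' hgZ))
  exact (h3.ge ⟨hm, hmb⟩).2

theorem trans_of_lt (h : PiPart π G) {q : ℕ} [hq : Fact q.Prime] (hqπ : q ∈ π)
    (hc : ∀ u : G, IsPiElt π u → u ∉ center G → (cs(u)).factorization q = 1)
    {U : Subgroup G} (hU : Plane q U)
    (hlt : ∀ a ∈ U, a ∉ center G → q < (center G).relIndex (AE q cent(a))) {a : G} (ha : a ∈ U)
    (haZ : a ∉ center G) {b : G} (hb : b ∈ U) (hbZ : b ∉ center G) :
    ∃ t ∈ normalizer (U : Set G), MulAut.conj t • cent(a) = cent(b) := by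
  by_contra hc'
  have hne : cent(a) ≠ cent(b) := fun e => hc' ⟨1, one_mem _, by rw [← e]; simp⟩
  obtain ⟨m, hmN, hmb, hmq, hm⟩ := h.exists_move hqπ hc hU hb hbZ (hlt b hb hbZ)
  obtain ⟨m', hmN', -, -, hm'⟩ := h.exists_move hqπ hc hU ha haZ (hlt a ha haZ)
  set Λ := {E : Subgroup G | ∃ a ∈ U, a ∉ center G ∧ cent(a) = E} with hΛ
  have hmem : ∀ t ∈ normalizer (U : Set G), ∀ c ∈ U, c ∉ center G →
      MulAut.conj t • cent(c) ∈ Λ := fun t ht c hc hcZ =>
    ⟨t * c * t⁻¹, (mem_normalizer_iff.1 ht c).1 hc, fun e => hcZ (ito_mem_center_of_conj e),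
      cent_conj t c⟩
  have h1 : {E : Subgroup G | ∃ t ∈ zpowers m, MulAut.conj t • cent(a) = E} ⊆ Λ \ {cent(b)} := by
    rintro _ ⟨t, ht, rfl⟩
    have ht' := zpowers_le.2 hmN ht
    exact ⟨hmem t ht' a ha haZ, fun e => hc' ⟨t, ht', e⟩⟩
  have h2 : (Λ \ {cent(b)}).ncard = q := by
    rw [Set.ncard_sdiff_singleton_of_mem (show cent(b) ∈ Λ from ⟨b, hb, hbZ, rfl⟩),
      hU.ncard_lines h hqπ, Nat.add_sub_cancel]
  have h3 : q ≤ {E : Subgroup G | ∃ t ∈ zpowers m, MulAut.conj t • cent(a) = E}.ncard := by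
    rw [ito_ncard_orbit]
    obtain ⟨k, hk⟩ := ito_relIndex_pow hmq.isPGroup_zpowers (normalizer (cent(a) : Set G))
    have : k ≠ 0 := by
      rintro rfl
      exact hm a ha haZ hne (relIndex_eq_one.1 (by simpa using hk) (mem_zpowers m))
    rw [hk]
    exact Nat.le_self_pow this q
  have h4 := Set.eq_of_subset_of_ncard_le h1 (h2.le.trans h3)
  obtain ⟨t, ht, e⟩ := h4.ge (show MulAut.conj m' • cent(b) ∈ Λ \ {cent(b)} from
    ⟨hmem m' hmN' b hb hbZ, fun e => hm' b hb hbZ hne.symm ((conj_smul_eq_self_iff _ _).1 e)⟩)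
  refine hc' ⟨m'⁻¹ * t, mul_mem (inv_mem hmN') (zpowers_le.2 hmN ht), ?_⟩
  rw [← conj_smul_conj_smul, e, conj_smul_conj_smul]; simp

theorem false_of_odd (h : PiPart π G) {q r : ℕ} [hq : Fact q.Prime] [hr : Fact r.Prime] (hqπ : q ∈ π)
    (hrπ : r ∈ π) (hqr : q ≠ r) (hq2 : q ≠ 2)
    (hc : ∀ u : G, IsPiElt π u → u ∉ center G → (cs(u)).factorization q = 1)
    (hcr : ∀ u v : G, IsPiElt π u → u ∉ center G → IsPiElt π v → v ∉ center G →
      (cs(u)).factorization r = (cs(v)).factorization r)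
    {w : G} (hw : IsPiElt {r} w) (hwZ : w ∉ center G) : False := by
  have hwπ : IsPiElt π w := hw.mono (by simpa using hrπ)
  have hA : ∀ u : G, IsPiElt π u → u ∉ center G → ¬ AE r cent(u) ≤ center G := fun u hu huZ =>
    h.not_le_center hu huZ hrπ hw hwZ (hcr u w hu huZ hwπ hwZ)
  obtain ⟨Q, hQ⟩ := exists_isSylowIn q (⊤ : Subgroup G)
  have hπ : ∀ a ∈ Q, IsPiElt π a := fun a ha =>
    (isPiElt_singleton_of_mem hQ.isPGroup ha).mono (by simpa using hqπ)
  obtain ⟨y, hy, hyZ, hyq, hyQ, hi, -⟩ := h.exists_second hqπ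
    (fun y hy hyZ => ⟨r, hr.out, hrπ, hqr, hA y (hy.mono (by simpa using hqπ)) hyZ⟩) hQ
    (ito_not_le_center_of_dvd hQ (w := w) (Nat.dvd_of_factorization_pos (by
      rw [hc w hwπ hwZ]; exact one_ne_zero)))
  rw [hc y (hπ y hy) hyZ, pow_one] at hi
  obtain ⟨x, hx, hxy⟩ : ∃ x ∈ Q, x ∉ cent(y) :=
    SetLike.not_le_iff_exists.1 fun e => hq.out.one_lt.ne' (hi.symm.trans (relIndex_eq_one.2 e))
  have hU := h.plane hqπ hc hQ hy hyZ hyQ hi hx hxy
  have hyU : y ∈ Q ⊓ centMod x := ⟨hy, by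
    have := inv_mem (hyQ x hx)
    rwa [commutatorElement_inv] at this⟩
  set U := Q ⊓ centMod x with hUdef
  have htr : ∀ b ∈ U, b ∉ center G →
      ∃ t ∈ normalizer (U : Set G), MulAut.conj t • cent(y) = cent(b) := by
    intro b hb hbZ
    have hα : ∀ a : G, IsPiElt π a → a ∉ center G →
        (center G).relIndex (AE q cent(a)) = (center G).relIndex (AE q cent(y)) :=
      fun a ha haZ => h.alpha_eq ha haZ (hπ y hy) hyZ hqπ (by rw [hc a ha haZ, hc y (hπ y hy) hyZ])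
    rcases lt_or_ge q ((center G).relIndex (AE q cent(y))) with hlt | hle
    · exact h.trans_of_lt hqπ hc hU (fun a ha haZ => by rwa [hα a (hπ a ha.1) haZ]) hyU hyZ hb hbZ
    have hUQ : U = Q := by
      refine ito_eq_of_relIndex_le (Z := center G) inf_le_left (fun z hz =>
        hU.ctr z hz.1 (isPiElt_singleton_of_mem hQ.isPGroup hz.2)) ?_
      have h1 := relIndex_inf_mul_relIndex (center G) cent(y) Q
      rw [inf_eq_left.2 (center_le_cent y), hi] at h1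
      rw [hU.idx, ← h1, sq]
      refine Nat.mul_le_mul_right _ (le_trans (relIndex_le_of_le_right (fun g hg => mem_AE_of hg.1
        (isPiElt_singleton_of_mem hQ.isPGroup hg.2)) index_ne_zero_of_finite) hle)
    have hN : ∀ a ∈ Q, Q ≤ normalizer (cent(a) : Set G) := fun a ha =>
      hUQ ▸ hU.le_normalizer (hUQ ▸ ha)
    have h1 : q < (center G).relIndex (AE r cent(y)) := h.lt_relIndex (hπ y hy) hyZ hrπ hqr
      (isPiElt_singleton_of_mem hQ.isPGroup hx) (hN y hy hx) hxy (hA y (hπ y hy) hyZ)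
    have hbQ : b ∈ Q := hb.1
    obtain ⟨g, hg⟩ : ∃ g : G, cent(g * y * g⁻¹) = cent(b) := by
      refine h.exists_conj (hπ b hbQ) hbZ (hπ y hy) hyZ hrπ (lt_of_le_of_lt ?_ h1)
      obtain ⟨R, hR⟩ := exists_isSylowIn r (⊤ : Subgroup G)
      have hπ' : ∀ a ∈ R, IsPiElt π a := fun a ha =>
        (isPiElt_singleton_of_mem hR.isPGroup ha).mono (by simpa using hrπ)
      have hA' : ∀ u : G, IsPiElt π u → u ∉ center G → ¬ AE q cent(u) ≤ center G :=
        fun u hu huZ => h.not_le_center hu huZ hqπ (isPiElt_singleton_of_mem hQ.isPGroup hy) hyZ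
          (by rw [hc u hu huZ, hc y (hπ y hy) hyZ])
      obtain ⟨y', hy', hyZ', -, hyR, hi', hle'⟩ := h.exists_second hrπ
        (fun y hy hyZ => ⟨q, hq.out, hqπ, hqr.symm, hA' y (hy.mono (by simpa using hrπ)) hyZ⟩) hR
        (ito_not_le_center hR hw hwZ)
      rw [hcr b y' (hπ b hbQ) hbZ (hπ' y' hy') hyZ']
      rcases Nat.le_one_iff_eq_zero_or_eq_one.1 hle' with e | e
      · rw [e, pow_zero]; exact hq.out.one_le
      rw [e, pow_one] at hi' ⊢
      obtain ⟨x', hx', hxy'⟩ : ∃ x ∈ R, x ∉ cent(y') := SetLike.not_le_iff_exists.1 fun e =>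
        hr.out.one_lt.ne' (hi'.symm.trans (relIndex_eq_one.2 e))
      have h2 := h.lt_relIndex (hπ' y' hy') hyZ' hqπ hqr.symm
        (isPiElt_singleton_of_mem hR.isPGroup hx')
        (mem_normalizer_cent_of_commutator_mem (hyR x' hx')) hxy' (hA' y' (hπ' y' hy') hyZ')
      rw [hα y' (hπ' y' hy') hyZ'] at h2
      omega
    rw [cent_conj] at hg
    have h2 : MulAut.conj g • Q ≤ normalizer (cent(b) : Set G) := by
      rw [← hg, normalizer_conj_smul]
      exact Subgroup.pointwise_smul_le_pointwise_smul_iff.2 (hN y hy)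
    obtain ⟨k, hk, e⟩ := ((hQ.conj_smul_of_mem (mem_top g)).of_le h2 le_top).exists_conj_eq
      (hQ.of_le (hN b hbQ) le_top)
    refine ⟨k * g, ?_, ?_⟩
    · rw [hUQ, ← conj_smul_eq_self_iff, ← conj_smul_conj_smul, e]
    · rw [← conj_smul_conj_smul, hg, (conj_smul_eq_self_iff _ _).2 hk]
  refine hU.false_of_even h hqπ hq2 hrπ hqr (fun a ha haZ => hA a (hπ a ha.1) haZ) hyU ?_
  rw [← ito_ncard_orbit, show {E : Subgroup G | ∃ t ∈ normalizer (U : Set G),
    MulAut.conj t • cent(y) = E} = {E : Subgroup G | ∃ a ∈ U, a ∉ center G ∧ cent(a) = E} from ?_,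
    hU.ncard_lines h hqπ]
  · exact (hq.out.eq_two_or_odd'.resolve_left hq2).add_one.two_dvd
  · ext E
    constructor
    · rintro ⟨t, ht, rfl⟩
      exact ⟨t * y * t⁻¹, (mem_normalizer_iff.1 ht y).1 hyU,
        fun e => hyZ (ito_mem_center_of_conj e), cent_conj t y⟩
    · rintro ⟨a, ha, haZ, rfl⟩
      exact htr a ha haZ

theorem false_of_unique {p q r : ℕ} [hp : Fact p.Prime] [hq : Fact q.Prime] [hr : Fact r.Prime]
    (h : PiPart {p}ᶜ G) (hqp : q ≠ p) (hrp : r ≠ p) (hqr : q ≠ r)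
    (hA : ∀ u : G, IsPiElt {p}ᶜ u → u ∉ center G → ¬ AE r cent(u) ≤ center G)
    (hc : ∀ u : G, IsPiElt {q} u → u ∉ center G →
      q ∣ cs(u) ∧ ∀ l : ℕ, l.Prime → l ∣ cs(u) → l = p ∨ l = q)
    {Q : Subgroup G} (hQ : IsSylowIn q Q ⊤) (hZ : ¬ Q ≤ center G) : False := by
  have hq' : ∀ a ∈ Q, IsPiElt {q} a := fun a ha => isPiElt_singleton_of_mem hQ.isPGroup ha
  have hπ : ∀ a ∈ Q, IsPiElt {p}ᶜ a := fun a ha => ito_ne hqp (hq' a ha)
  obtain ⟨y, hy, hyZ, -, hyQ⟩ := ito_exists_second hQ.isPGroup hZ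
  obtain ⟨x, hx, hxy⟩ : ∃ x ∈ Q, x ∉ cent(y) := SetLike.not_le_iff_exists.1 fun e =>
    hQ.not_dvd_relIndex_of_le e le_top (by rw [relIndex_top_right]; exact (hc y (hq' y hy) hyZ).1)
  have hxZ : x ∉ center G := fun e => hxy (center_le_cent y e)
  set f := QuotientGroup.mk' (center G)
  have hf : Function.Surjective f := QuotientGroup.mk'_surjective _
  obtain ⟨k, hk⟩ : ∃ k, cs(f y) = p ^ k := by
    refine (isPiNum_singleton_iff hp.out (cs_ne_zero _)).1 fun l hl hd => ?_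
    refine ((hc y (hq' y hy) hyZ).2 l hl (hd.trans (cs_map_dvd hf y))).resolve_right ?_
    rintro rfl
    have h1 : Q.map f ≤ cent(f y) := by
      rintro _ ⟨g, hg, rfl⟩
      exact mem_cent'.2 (ito_commute_mk_iff.2 (hyQ g hg))
    refine hQ.not_dvd ?_
    rw [relIndex_top_right]
    exact (hd.trans (index_dvd_of_le h1)).trans (Q.index_map_dvd hf)
  have hM := commutator_normalClosure_le_pCore hk
  obtain ⟨w, hw, hwZ⟩ := SetLike.not_le_iff_exists.1 (hA x (hπ x hx) hxZ)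
  have hw' := (h.mem_AE (hπ x hx) hxZ hrp).1 hw
  have hyN : y ∈ normalizer (cent(x) : Set G) := mem_normalizer_cent_of_commutator_mem (by
    rw [← commutatorElement_inv y x]; exact inv_mem (hyQ x hx))
  have h1 : ⁅y, w⁆ ∈ AE r cent(x) :=
    mul_mem ((mem_normalizer_iff.1 (normalizer_le_AE r _ hyN) w).1 hw) (inv_mem hw)
  have h2 := ((h.mem_AE (hπ x hx) hxZ hrp).1 h1).2
  set f' := QuotientGroup.mk' (pCore p (G ⧸ center G))
  have hyM : f y ∈ normalClosure ({f y} : Set (G ⧸ center G)) := subset_normalClosure (Set.mem_singleton _)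
  have h3 : IsPiElt {q} (f' (f ⁅y, w⁆)) := by
    rw [show ⁅y, w⁆ = y * (w * y⁻¹ * w⁻¹) by rw [commutatorElement_def]; group, map_mul, map_mul]
    refine (((hq' y hy).map f).map f').mul ((((hq' y hy).inv.conj w).map f).map f') ?_
    rw [← commutatorElement_eq_one_iff_commute, ← map_commutatorElement, QuotientGroup.mk'_apply,
      QuotientGroup.eq_one_iff]
    refine hM (commutator_mem_commutator hyM ?_)
    rw [map_mul, map_mul, map_inv, map_inv]
    exact normalClosure_normal.conj_mem _ (inv_mem hyM) _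
  have h4 : f ⁅y, w⁆ ∈ pCore p (G ⧸ center G) := (QuotientGroup.eq_one_iff _).1
    (h3.eq_one (ito_ne hqr.symm ((h2.map f).map f')))
  have h5 : ⁅y, w⁆ ∈ center G := (QuotientGroup.eq_one_iff _).1
    ((isPiElt_singleton_of_mem (pCore_isPGroup p _) h4).eq_one (ito_ne hrp (h2.map f)))
  exact hxy (mem_cent_comm.1 (h.mem_of_comm (hπ x hx) hxZ hw'.1 (ito_ne hrp hw'.2) hwZ
    (ito_coprime hqr (hq' y hy) hw'.2) h5))

/-- the main proposition: all `p`-regular class sizes are powers of `p` -/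
theorem cs_eq_pow {p : ℕ} [hp : Fact p.Prime] (h : PiPart {p}ᶜ G)
    (hc : ∀ u v : G, IsPiElt {p}ᶜ u → u ∉ center G → IsPiElt {p}ᶜ v → v ∉ center G →
      ∀ q : ℕ, q.Prime → q ≠ p → (cs(u)).factorization q = (cs(v)).factorization q)
    (h2 : ∀ q : ℕ, ∃ r : ℕ, r.Prime ∧ r ≠ p ∧ q ≠ r ∧ ∃ w : G, IsPiElt {r} w ∧ w ∉ center G)
    {u : G} (hu : IsPiElt {p}ᶜ u) : ∃ k, cs(u) = p ^ k := by
  by_cases huZ : u ∈ center G
  · exact ⟨0, cs_eq_one_iff.2 huZ⟩
  have hA : ∀ r : ℕ, r.Prime → r ≠ p → ∀ w : G, IsPiElt {r} w → w ∉ center G →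
      ∀ u : G, IsPiElt {p}ᶜ u → u ∉ center G → ¬ AE r cent(u) ≤ center G :=
    fun r hr hrp w hw hwZ u hu huZ => by
      haveI := Fact.mk hr
      exact h.not_le_center hu huZ hrp hw hwZ
        (hc u w hu huZ (ito_ne hrp hw) hwZ r hr hrp)
  have key : ∀ q : ℕ, q.Prime → q ≠ p → q ∣ cs(u) → q = 2 := by
    intro q hq hqp hd
    by_contra hq2
    haveI := Fact.mk hq
    obtain ⟨r, hr, hrp, hqr, w, hw, hwZ⟩ := h2 q
    haveI := Fact.mk hr
    obtain ⟨Q, hQ⟩ := exists_isSylowIn q (⊤ : Subgroup G)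
    obtain ⟨y, hy, hyZ, -, -, -, hle⟩ := h.exists_second (q := q) hqp
      (fun y hy hyZ => ⟨r, hr, hrp, hqr, hA r hr hrp w hw hwZ y (ito_ne hqp hy) hyZ⟩)
      hQ (ito_not_le_center_of_dvd hQ hd)
    have hyπ : IsPiElt {p}ᶜ y := ito_ne hqp (isPiElt_singleton_of_mem hQ.isPGroup hy)
    refine h.false_of_odd (q := q) (r := r) hqp hrp hqr hq2 (fun v hv hvZ => ?_)
      (fun u v hu huZ hv hvZ => hc u v hu huZ hv hvZ r hr hrp) hw hwZ
    have h3 := hq.factorization_pos_of_dvd (cs_ne_zero u) hd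
    rw [hc u y hu huZ hyπ hyZ q hq hqp] at h3
    rw [hc v y hv hvZ hyπ hyZ q hq hqp]
    omega
  refine (isPiNum_singleton_iff hp.out (cs_ne_zero _)).1 fun q hq hd => ?_
  by_contra hqp
  haveI := Fact.mk hq
  obtain ⟨r, hr, hrp, hqr, w, hw, hwZ⟩ := h2 q
  haveI := Fact.mk hr
  obtain ⟨Q, hQ⟩ := exists_isSylowIn q (⊤ : Subgroup G)
  have h3 : ∀ v : G, IsPiElt {q} v → v ∉ center G → ∀ l : ℕ, l.Prime → l ≠ p →
      (l ∣ cs(v) ↔ l ∣ cs(u)) := fun v hv hvZ l hl hlp => by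
    rw [hl.dvd_iff_one_le_factorization (cs_ne_zero _), hl.dvd_iff_one_le_factorization (cs_ne_zero _),
      hc u v hu huZ (ito_ne hqp hv) hvZ l hl hlp]
  refine h.false_of_unique (q := q) hqp hrp hqr (hA r hr hrp w hw hwZ)
    (fun v hv hvZ => ⟨(h3 v hv hvZ q hq hqp).2 hd, fun l hl hl' => ?_⟩) hQ
    (ito_not_le_center_of_dvd hQ hd)
  by_cases hlp : l = p
  · exact Or.inl hlp
  · exact Or.inr ((key l hl hlp ((h3 v hv hvZ l hl hlp).1 hl')).trans (key q hq hqp hd).symm)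

theorem isSolvable {p : ℕ} [hp : Fact p.Prime] (h : PiPart {p}ᶜ G)
    (hc : ∀ u v : G, IsPiElt {p}ᶜ u → u ∉ center G → IsPiElt {p}ᶜ v → v ∉ center G →
      ∀ q : ℕ, q.Prime → q ≠ p → (cs(u)).factorization q = (cs(v)).factorization q)
    (h2 : ∀ q : ℕ, ∃ r : ℕ, r.Prime ∧ r ≠ p ∧ q ≠ r ∧ ∃ w : G, IsPiElt {r} w ∧ w ∉ center G) :
    Group.IsSolvable G :=
  isSolvable_of_pRegular_isPP hp.out G fun _ hu =>
    let ⟨k, hk⟩ := h.cs_eq_pow hc h2 hu
    ⟨p, k, hp.out, hk⟩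

end PiPart

theorem ito_exists_primary [Finite G] {H : Subgroup G} {u : G} (hu : u ∉ H) :
    ∃ q : ℕ, q.Prime ∧ q ∣ orderOf u ∧ piPart {q} u ∉ H := by
  by_contra hc
  push Not at hc
  exact hu (mem_of_forall_piPart_mem hc)

theorem part_of_primary [Finite G] {π : Set ℕ} (h : ∀ (r : ℕ) (w : G), r.Prime → r ∈ π →
    IsPiElt {r} w → w ∉ center G → ∀ g ∈ cent(w), IsPiElt π g → cent(w) ≤ cent(g)) :
    PiPart π G := by
  have key : ∀ u v : G, IsPiElt π u → IsPiElt π v → v ∉ center G → Commute u v →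
      cent(v) ≤ cent(u) := fun u v hu hv hvZ hc => by
    obtain ⟨q, hq, hd, h1⟩ := ito_exists_primary hvZ
    exact (cent_le_piPart {q} v).trans (h q _ hq (hv q hq hd) (isPiElt_piPart _ _) h1 u
      (cent_le_piPart {q} v (mem_cent.2 hc)) hu)
  exact ⟨fun u v hu hv huZ hvZ hc => le_antisymm (key v u hv hu huZ hc.symm) (key u v hu hv hvZ hc)⟩

theorem ito_isSolvable_of_center [Finite G] {p q : ℕ} (hp : p.Prime) (hq : q.Prime)
    (h : ∀ (r : ℕ) (w : G), r.Prime → r ≠ p → r ≠ q → IsPiElt {r} w → w ∈ center G) :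
    Group.IsSolvable G := by
  haveI : Group.IsSolvable (G ⧸ center G) := by
    refine CL.Char.isSolvable_of_two_primes hp hq fun r hr hd => ?_
    by_contra hc
    push Not at hc
    haveI := Fact.mk hr
    obtain ⟨x, hx⟩ := exists_prime_orderOf_dvd_card' r hd
    obtain ⟨w, hw, rfl⟩ := exists_isPiElt_map_eq (π := {r}) _
      (QuotientGroup.mk'_surjective (center G))
      ((isPiElt_singleton_iff hr).2 ⟨1, by rw [hx, pow_one]⟩)
    rw [QuotientGroup.mk'_apply, (QuotientGroup.eq_one_iff w).2 (h r w hr hc.1 hc.2 hw),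
      orderOf_one] at hx
    exact hr.one_lt.ne hx
  haveI : Group.IsSolvable (center G) :=
    Group.isSolvable_of_comm fun a b => Subtype.ext (mem_center_iff.1 b.2 a)
  exact Group.isSolvable_of_ker_le_range (center G).subtype (QuotientGroup.mk' (center G)) (by simp)

/-- two sizes of `p`-regular classes -/
theorem abf [Finite G] {p k : ℕ} [hp : Fact p.Prime]
    (h : ∀ u : G, IsPiElt {p}ᶜ u → cs(u) = 1 ∨ cs(u) = k) :
    (∀ u : G, IsPiElt {p}ᶜ u → ∃ j, cs(u) = p ^ j) ∨ ∃ q : ℕ, q.Prime ∧ q ≠ p ∧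
      ∀ (r : ℕ) (w : G), r.Prime → r ≠ p → r ≠ q → IsPiElt {r} w → w ∈ center G := by
  by_cases h2 : ∀ q : ℕ, ∃ r : ℕ, r.Prime ∧ r ≠ p ∧ q ≠ r ∧ ∃ w : G, IsPiElt {r} w ∧ w ∉ center G
  swap
  · push Not at h2
    obtain ⟨q, hq⟩ := h2
    by_cases hq' : q.Prime ∧ q ≠ p
    · exact Or.inr ⟨q, hq'.1, hq'.2, fun r w hr h1 h2 hw => hq r hr h1 h2.symm w hw⟩
    · refine Or.inl fun u hu => ⟨0, cs_eq_one_iff.2 ?_⟩
      refine hu.mem_of_forall_primePow_mem fun r y hr hrp hy _ => hq r hr hrp ?_ y hy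
      rintro rfl
      exact hq' ⟨hr, hrp⟩
  have hk : ∀ u : G, IsPiElt {p}ᶜ u → u ∉ center G → cs(u) = k := fun u hu huZ =>
    (h u hu).resolve_left fun e => huZ (cs_eq_one_iff.1 e)
  have h1 : ∀ (r : ℕ) (w : G), r ≠ p → IsPiElt {r} w → w ∉ center G → ∀ g ∈ cent(w),
      IsPiElt {p}ᶜ g → IsPiElt {r}ᶜ g → cent(w) ≤ cent(g) := fun r w hrp hw hwZ g hg h3 h4 => by
    have hc : Commute w g := mem_cent'.1 hg
    have h5 : w * g ∉ center G := fun e =>
      hwZ (zpowers_le.2 e (mem_zpowers_mul_of_coprime hc (hw.coprime h4)))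
    have h6 := cent_mul_of_coprime hc (hw.coprime h4)
    rw [← cent_eq_of_le_of_cs_le (h6.le.trans inf_le_left)
      (by rw [hk _ ((ito_ne hrp hw).mul h3 hc) h5, hk w (ito_ne hrp hw) hwZ]), h6]
    exact inf_le_right
  refine Or.inl fun u hu => PiPart.cs_eq_pow (part_of_primary fun r w hr hrp hw hwZ g hg hg' => ?_)
    (fun u v hu huZ hv hvZ q _ _ => by rw [hk u hu huZ, hk v hv hvZ]) h2 hu
  obtain ⟨s, hs, hsp, hrs, v, hv, hvZ⟩ := h2 r
  haveI := Fact.mk hs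
  obtain ⟨x, hx, hx', hxZ⟩ := exists_noncentral_mem_cent (y := w) hv hvZ
    (by rw [hk v (ito_ne hsp hv) hvZ, hk w (ito_ne hrp hw) hwZ])
  have h3 : cent(w) = cent(x) := cent_eq_of_le_of_cs_le
    (h1 r w hrp hw hwZ x hx (ito_ne hsp hx') (ito_ne hrs.symm hx'))
    (by rw [hk x (ito_ne hsp hx') hxZ, hk w (ito_ne hrp hw) hwZ])
  refine le_cent_of_piPart (π := {r}) ?_ (h1 r w hrp hw hwZ _ (piPart_mem hg)
    (hg'.of_mem_zpowers (piPart_mem_zpowers _ _)) (isPiElt_piPart _ _))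
  rw [h3] at hg ⊢
  exact h1 s x hsp hx' hxZ _ (piPart_mem hg) (hg'.of_mem_zpowers (piPart_mem_zpowers _ _))
    (ito_ne hrs (isPiElt_piPart _ _))

theorem abf_isSolvable [Finite G] {p k : ℕ} [hp : Fact p.Prime]
    (h : ∀ u : G, IsPiElt {p}ᶜ u → cs(u) = 1 ∨ cs(u) = k) : Group.IsSolvable G := by
  rcases abf h with h1 | ⟨q, hq, -, h1⟩
  · exact isSolvable_of_pRegular_isPP hp.out G fun u hu =>
      let ⟨j, hj⟩ := h1 u hu
      ⟨p, j, hp.out, hj⟩
  · exact ito_isSolvable_of_center hp.out hq h1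

/-- `abf` inside a subgroup -/
theorem abf_in [Finite G] {p k : ℕ} [hp : Fact p.Prime] {D : Subgroup G}
    (h : ∀ u ∈ D, IsPiElt {p}ᶜ u → D ≤ cent(u) ∨ (cent(u)).relIndex D = k) :
    Group.IsSolvable D ∧ ((∀ u ∈ D, IsPiElt {p}ᶜ u → ∃ j, (cent(u)).relIndex D = p ^ j) ∨
      ∃ q : ℕ, q.Prime ∧ q ≠ p ∧
      ∀ (r : ℕ) (w : G), r.Prime → r ≠ p → r ≠ q → w ∈ D → IsPiElt {r} w → D ≤ cent(w)) := by
  have h1 : ∀ u : D, IsPiElt {p}ᶜ u → cs(u) = 1 ∨ cs(u) = k := fun u hu => by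
    rw [cs_coe, relIndex_eq_one]
    exact h u u.2 (isPiElt_coe_iff.2 hu)
  refine ⟨abf_isSolvable h1, (abf h1).imp (fun h2 u hu hu' => ?_) ?_⟩
  · rw [← cs_coe (⟨u, hu⟩ : D)]
    exact h2 _ (isPiElt_coe_iff.1 hu')
  · rintro ⟨q, hq, hqp, h2⟩
    refine ⟨q, hq, hqp, fun r w hr h3 h4 hw hw' => ?_⟩
    rw [← relIndex_eq_one, ← cs_coe (⟨w, hw⟩ : D), cs_eq_one_iff]
    exact h2 r _ hr h3 h4 (isPiElt_coe_iff.1 hw')

end CL.Cit
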