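/-
Class sizes (helper95): groups with three conjugacy class sizes are solvable (Ito).
-/
import Cfsg.Agent.Cit.Ito3
import Cfsg.Agent.Cit.FrobSys
import Cfsg.Agent.Fgs.ClassThree
import Cfsg.Agent.Fgs.ClassGraph
import Cfsg.Agent.Loc.FitQuad
import Cfsg.Agent.S0028

namespace CL.Cit

open Subgroup Cfsg CL.Grp CL.Fgs
open scoped Pointwise commutatorElement

variable {G : Type*} [Group G] [Finite G]

theorem ito_card_sylow_le {r : ℕ} [hr : Fact r.Prime] {A B S T : Subgroup G}
    (hS : IsSylowIn r S A) (hT : IsSylowIn r T B)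
    (h : B.index.factorization r ≤ A.index.factorization r) : Nat.card S ≤ Nat.card T := by
  have h1 := ito_fact_card r A
  have h2 := ito_fact_card r B
  rw [hS.card_eq_pow, hT.card_eq_pow]
  exact Nat.pow_le_pow_right hr.out.pos (by omega)

theorem ito_exists_noncentral {r : ℕ} [Fact r.Prime] {w y : G} (hw : IsPiElt {r} w)
    (hwZ : w ∉ center G) (h : (cs(y)).factorization r ≤ (cs(w)).factorization r) :
    ∃ x ∈ cent(y), IsPiElt {r} x ∧ x ∉ center G := by
  by_contra hc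
  push Not at hc
  obtain ⟨S, hS⟩ := exists_isSylowIn r cent(y)
  have hSZ : S ≤ center G := fun s hs => hc s (hS.le hs) (isPiElt_singleton_of_mem hS.isPGroup hs)
  obtain ⟨T, hT⟩ := exists_isSylowIn r cent(w)
  have h2 : IsSylowIn r S cent(w) := hT.of_card_le hS.isPGroup (hSZ.trans (center_le_cent w))
    (ito_card_sylow_le hT hS h)
  exact hwZ (hSZ (h2.le_of_normalized hw.isPGroup_zpowers (zpowers_le_cent w)
    (cent_le_normalizer_zpowers w) (mem_zpowers w)))

/-- a consequence of Thompson's `P × Q` lemma -/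
theorem ito_mem_centralizer {p : ℕ} [Fact p.Prime] {V : Subgroup G} [V.Normal] (hV : IsPGroup p V)
    {u : G} (hu : IsPiElt {p}ᶜ u) (h : ∀ v ∈ V, v ∉ center G →
      (cs(u)).factorization p ≤ (cs(v)).factorization p) : u ∈ centralizer (V : Set G) := by
  obtain ⟨R, hR⟩ := exists_isSylowIn p cent(u)
  refine Cfsg.Agent.S0028.result p R (zpowers u) V hR.isPGroup ?_ hV ?_ le_normalizer_of_normal
    le_normalizer_of_normal ?_ (mem_zpowers u)
  · rw [Nat.card_zpowers]; exact (isPiElt_compl_singleton_iff_coprime Fact.out).1 hu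
  · rw [centralizer_zpowers]; exact hR.le
  · rw [centralizer_zpowers]
    intro v hv
    by_cases hvZ : v ∈ center G
    · exact center_le_cent u hvZ
    have h1 : R ≤ cent(v) := fun g hg => mem_cent.2 (hv.2 g hg)
    obtain ⟨T, hT⟩ := exists_isSylowIn p cent(v)
    have h2 := hT.of_card_le hR.isPGroup h1 (ito_card_sylow_le hT hR (h v hv.1 hvZ))
    exact hR.le (h2.le_of_normalized (isPiElt_singleton_of_mem hV hv.1).isPGroup_zpowers
      (zpowers_le_cent v) (cent_le_normalizer_zpowers v) (mem_zpowers v))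

/-- a solvable group whose non-central primary elements have one class size -/
theorem ito_nil [Group.IsSolvable G] {k : ℕ}
    (h : ∀ (q : ℕ) (u : G), q.Prime → IsPiElt {q} u → u ∉ center G → cs(u) = k) :
    ∃ l : ℕ, l.Prime ∧ ∀ (q : ℕ) (u : G), q.Prime → q ≠ l → IsPiElt {q} u → u ∈ center G := by
  have h1 : (⊤ : Subgroup G) ≤ fittingSubgroup G := by
    refine CL.Loc.le_fitting_of_le_stabCore (centralizer_fittingSubgroup_le G) fun p hp => ?_
    refine le_stabCore fun g _ hg => ?_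
    refine ((isPiElt_compl_singleton_iff_coprime hp.out).2 hg).mem_of_forall_primePow_mem
      fun q y hq hqp hy _ => ?_
    by_cases hyZ : y ∈ center G
    · exact center_le_centralizer _ hyZ
    exact ito_mem_centralizer (pCore_isPGroup p G) (ito_ne hqp hy) fun v hv hvZ => by
      rw [h q y hq hy hyZ, h p v hp.out (isPiElt_singleton_of_mem (pCore_isPGroup p G) hv) hvZ]
  haveI : Group.IsNilpotent G := by
    haveI := fittingSubgroup_isNilpotent G
    exact Group.nilpotent_of_surjective (fittingSubgroup G).subtype fun g => ⟨⟨g, h1 (mem_top g)⟩, rfl⟩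
  by_contra hc
  push Not at hc
  obtain ⟨q, u, hq, -, hu, huZ⟩ := hc 2 Nat.prime_two
  obtain ⟨r, v, hr, hrq, hv, hvZ⟩ := hc q hq
  have key : ∀ (q : ℕ) (u : G), q.Prime → IsPiElt {q} u → u ∉ center G →
      ∀ l : ℕ, l.Prime → l ∣ k → l = q := fun q u hq hu huZ l hl hd => by
    by_contra hne
    haveI := Fact.mk hl
    refine not_dvd_index_of_forall (s := l) (K := cent(u)) (fun w hw => mem_cent.2 ?_)
      (by rwa [← h q u hq hu huZ] at hd)
    exact commute_of_coprime_orderOf_of_isNilpotent (ito_coprime hne hw hu)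
  obtain ⟨l, hl, hd⟩ := Nat.exists_prime_and_dvd (one_lt_cs huZ).ne'
  rw [h q u hq hu huZ] at hd
  exact hrq ((key r v hr hv hvZ l hl hd).symm.trans (key q u hq hu huZ l hl hd))

theorem ito_nil_in {r s k : ℕ} (hr : r.Prime) (hrs : r ≠ s) {D : Subgroup G}
    (h1 : ∀ u ∈ D, IsPiElt {r}ᶜ u → D ≤ cent(u) ∨ (cent(u)).relIndex D = k)
    (h2 : ∀ u ∈ D, IsPiElt {s}ᶜ u → D ≤ cent(u) ∨ (cent(u)).relIndex D = k) :
    ∃ l : ℕ, l.Prime ∧ ∀ (q : ℕ) (u : G), q.Prime → q ≠ l → u ∈ D → IsPiElt {q} u →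
      D ≤ cent(u) := by
  haveI := Fact.mk hr
  haveI := (abf_in h1).1
  have e : ∀ u : D, u ∈ center D ↔ D ≤ cent((u : G)) := fun u => by
    rw [← cs_eq_one_iff, cs_coe, relIndex_eq_one]
  obtain ⟨l, hl, h3⟩ := ito_nil (G := D) (k := k) fun q u hq hu huZ => by
    rw [cs_coe]
    rw [e] at huZ
    by_cases hqr : q = r
    · exact (h2 u u.2 (ito_ne (hqr ▸ hrs) (isPiElt_coe_iff.2 hu))).resolve_left huZ
    · exact (h1 u u.2 (ito_ne hqr (isPiElt_coe_iff.2 hu))).resolve_left huZ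
  exact ⟨l, hl, fun q u hq hql hu hu' =>
    (e ⟨u, hu⟩).1 (h3 q _ hq hql (isPiElt_coe_iff.1 hu'))⟩

theorem ito_le_cent_of_primary {π : Set ℕ} {D : Subgroup G}
    (h : ∀ (q : ℕ) (u : G), q.Prime → q ∈ π → u ∈ D → IsPiElt {q} u → D ≤ cent(u)) {g : G}
    (hg : g ∈ D) (hg' : IsPiElt π g) : D ≤ cent(g) := fun d hd =>
  mem_cent_comm.1 (hg'.mem_of_forall_primePow_mem fun q y hq hqπ hy hyg =>
    mem_cent_comm.1 (h q y hq hqπ (zpowers_le.2 hg hyg) hy hd))

theorem ito_third (hG : ¬ Group.IsSolvable G) {p q : ℕ} (hp : p.Prime) (hq : q.Prime) :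
    ∃ (r : ℕ) (w : G), r.Prime ∧ r ≠ p ∧ r ≠ q ∧ IsPiElt {r} w ∧ w ∉ center G := by
  by_contra hc
  push Not at hc
  exact hG (ito_isSolvable_of_center hp hq hc)

omit [Finite G] in
theorem ito_mul_not_mem {w u : G} (hwZ : w ∉ center G) (hc : Commute w u)
    (ho : (orderOf w).Coprime (orderOf u)) : w * u ∉ center G := fun e =>
  hwZ (zpowers_le.2 e (mem_zpowers_mul_of_coprime hc ho))

/-- class sizes `1`, `m` and `m * k` -/
theorem isSolvable_of_rank_two_dvd {m k : ℕ} (hk : 1 < k)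
    (h : ∀ x : G, x ∉ center G → cs(x) = m ∨ cs(x) = m * k) {x y : G} (hy : y ∉ center G)
    (hlt : cent(x) < cent(y)) : Group.IsSolvable G := by
  by_contra hG
  have hm : 0 < m := by
    rcases h y hy with e | e
    · exact e ▸ cs_pos y
    · exact Nat.pos_of_mul_pos_right (e ▸ cs_pos y)
  have hmk : m < m * k := lt_mul_of_one_lt_right hm hk
  have eqb : ∀ w u : G, cs(w) = m → u ∉ center G → cent(w) ≤ cent(u) → cent(w) = cent(u) :=
    fun w u hw hu hle => cent_eq_of_le_of_cs_le hle (by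
      rcases h u hu with e | e <;> omega)
  have Ta : ∀ (r : ℕ) (w : G), IsPiElt {r} w → w ∉ center G → cs(w) = m * k → ∀ u ∈ cent(w),
      IsPiElt {r}ᶜ u → cent(w) ≤ cent(u) := fun r w hw hwZ e u hu hu' => by
    have hc : Commute w u := mem_cent'.1 hu
    have h1 := cent_mul_of_coprime hc (hw.coprime hu')
    rw [← cent_eq_of_le_of_cs_le (h1.le.trans inf_le_left) (by
      rcases h _ (ito_mul_not_mem hwZ hc (hw.coprime hu')) with e | e <;> omega), h1]
    exact inf_le_right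
  have Tb : ∀ (r : ℕ) (w : G), IsPiElt {r} w → w ∉ center G → cs(w) = m → ∀ u ∈ cent(w),
      IsPiElt {r}ᶜ u → cent(w) ≤ cent(u) ∨ (cent(u)).relIndex cent(w) = k :=
    fun r w hw hwZ e u hu hu' => by
      have hc : Commute w u := mem_cent'.1 hu
      have h1 := cs_mul_of_coprime' hc (hw.coprime hu')
      rw [← relIndex_eq_one]
      rcases h _ (ito_mul_not_mem hwZ hc (hw.coprime hu')) with e' | e'
      · exact Or.inl (Nat.eq_of_mul_eq_mul_right hm (by rw [e', e] at h1; rw [← h1, one_mul]))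
      · exact Or.inr (Nat.eq_of_mul_eq_mul_right hm (by rw [e', e] at h1; rw [← h1, mul_comm]))
  have nc : ∀ (s : ℕ) (v w : G), s.Prime → IsPiElt {s} v → v ∉ center G → w ∉ center G →
      (cs(w) = m ∨ ¬ s ∣ k) → ∃ u ∈ cent(w), IsPiElt {s} u ∧ u ∉ center G :=
    fun s v w hs hv hvZ hwZ h1 => by
      haveI := Fact.mk hs
      refine ito_exists_noncentral hv hvZ ?_
      have h2 : (m * k).factorization s = m.factorization s + k.factorization s := by
        rw [Nat.factorization_mul hm.ne' (by omega), Finsupp.add_apply]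
      rcases h1 with h1 | h1
      · rcases h v hvZ with e | e <;> rw [h1, e] <;> omega
      · have h3 := Nat.factorization_eq_zero_of_not_dvd h1
        rcases h v hvZ with e | e <;> rcases h w hwZ with e' | e' <;> rw [e, e'] <;> omega
  have TB : ∀ (r : ℕ) (w : G), r.Prime → IsPiElt {r} w → w ∉ center G → cs(w) = m →
      (∃ j, k = r ^ j) ∨ ∃ l : ℕ, l.Prime ∧ ∀ (q : ℕ) (u : G), q.Prime → q ≠ l → u ∈ cent(w) →
        IsPiElt {q} u → cent(w) ≤ cent(u) := fun r w hr hw hwZ e => by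
    haveI := Fact.mk hr
    by_cases hu : ∃ (s : ℕ) (u : G), s ≠ r ∧ IsPiElt {s} u ∧ u ∉ center G ∧ cent(w) ≤ cent(u)
    · obtain ⟨s, u, hsr, hu, huZ, hle⟩ := hu
      have h1 := eqb w u e huZ hle
      exact Or.inr (ito_nil_in hr hsr.symm (Tb r w hw hwZ e)
        (h1 ▸ Tb s u hu huZ (by rw [← e]; exact congrArg Subgroup.index h1.symm)))
    push Not at hu
    rcases (abf_in (Tb r w hw hwZ e)).2 with h1 | ⟨q, hq, -, h1⟩
    · obtain ⟨s, v, hs, hsr, -, hv, hvZ⟩ := ito_third hG hr hr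
      obtain ⟨u, hu1, hu2, hu3⟩ := nc s v w hs hv hvZ hwZ (Or.inl e)
      obtain ⟨j, hj⟩ := h1 u hu1 (ito_ne hsr hu2)
      exact Or.inl ⟨j, ((Tb r w hw hwZ e u hu1 (ito_ne hsr hu2)).resolve_left
        (hu s u hsr hu2 hu3)).symm.trans hj⟩
    · obtain ⟨s, v, hs, hsr, hsq, hv, hvZ⟩ := ito_third hG hr hq
      obtain ⟨u, hu1, hu2, hu3⟩ := nc s v w hs hv hvZ hwZ (Or.inl e)
      exact absurd (h1 s u hs hsr hsq hu1 hu2) (hu s u hsr hu2 hu3)
  -- if all primary elements of `C(w)` but the `l`-elements are central and `C(w)` is not abelian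
  have KL : ∀ (r l : ℕ) (w : G), r.Prime → l.Prime → IsPiElt {r} w → w ∉ center G → cs(w) = m →
      (∀ (q : ℕ) (u : G), q.Prime → q ≠ l → u ∈ cent(w) → IsPiElt {q} u → cent(w) ≤ cent(u)) →
      ∀ g ∈ cent(w), ¬ cent(w) ≤ cent(g) → ∀ t : ℕ, t.Prime → t ∣ k → t = l :=
    fun r l w hr hl hw hwZ e h1 g hg hg' t ht hd => by
      by_contra htl
      haveI := Fact.mk ht
      obtain ⟨s, v, hs, hsl, -, hv, hvZ⟩ := ito_third hG hl hl
      obtain ⟨u, hu1, hu2, hu3⟩ := nc s v w hs hv hvZ hwZ (Or.inl e)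
      have h2 := eqb w u e hu3 (h1 s u hs hsl hu1 hu2)
      have h3 : ¬ cent(w) ≤ cent(piPart {l} g) := fun e' => hg' (le_cent_of_piPart e'
        (ito_le_cent_of_primary h1 (piPart_mem hg) (isPiElt_piPart _ _)))
      have h4 := Tb s u hu2 hu3 (by rw [← e]; exact congrArg Subgroup.index h2.symm)
        (piPart {l} g) (h2 ▸ piPart_mem hg) (ito_ne hsl.symm (isPiElt_piPart _ _))
      rw [← h2] at h4
      rw [← h4.resolve_left h3] at hd
      exact not_dvd_relIndex_of_forall (fun a ha ha' =>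
        mem_cent_comm.1 (h1 t a ht htl ha ha' (piPart_mem hg))) hd
  obtain ⟨l, hl, hkl⟩ : ∃ l : ℕ, l.Prime ∧ ∀ t : ℕ, t.Prime → t ∣ k → t = l := by
    obtain ⟨r, hr, -, h1⟩ := ito_exists_primary hy
    have h2 : cs(y) = m := by
      have h3 := index_dvd_of_le hlt.le
      have h4 : cs(y) ≠ cs(x) := fun e => hlt.ne (cent_eq_of_le_of_cs_le hlt.le e.ge)
      have h5 : x ∉ center G := fun e => not_top_lt ((cent_eq_top_iff.2 e) ▸ hlt)
      have h6 := Nat.le_of_dvd (cs_pos x) h3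
      rcases h y hy with e | e <;> rcases h x h5 with e' | e' <;> omega
    have h3 := eqb y _ h2 h1 (cent_le_piPart {r} y)
    have h4 : cs(piPart {r} y) = m := by rw [← h2]; exact congrArg Subgroup.index h3.symm
    rcases TB r _ hr (isPiElt_piPart _ _) h1 h4 with ⟨j, hj⟩ | ⟨l, hl, h5⟩
    · exact ⟨r, hr, fun t ht hd => (Nat.prime_dvd_prime_iff_eq ht hr).1 (ht.dvd_of_dvd_pow (hj ▸ hd))⟩
    · exact ⟨l, hl, KL r l _ hr hl (isPiElt_piPart _ _) h1 h4 h5 x (h3 ▸ hlt.le (self_mem_cent x))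
        (h3 ▸ hlt.not_ge)⟩
  have hlk : l ∣ k := by
    obtain ⟨t, ht, hd⟩ := Nat.exists_prime_and_dvd hk.ne'
    exact hkl t ht hd ▸ hd
  haveI := Fact.mk hl
  refine hG (PiPart.isSolvable (p := l) (part_of_primary fun r w hr hrl hw hwZ g hg hg' => ?_)
    (fun u v _ huZ _ hvZ q hq hql => ?_) fun q => ?_)
  · rcases h w hwZ with e | e
    · rcases TB r w hr hw hwZ e with ⟨j, hj⟩ | ⟨l', hl', h1⟩
      · exact absurd ((Nat.prime_dvd_prime_iff_eq hl hr).1 (hl.dvd_of_dvd_pow (hj ▸ hlk))).symm hrl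
      by_contra hc
      obtain rfl := KL r l' w hr hl' hw hwZ e h1 g hg hc l hl hlk
      exact hc (ito_le_cent_of_primary h1 hg hg')
    obtain ⟨s, v, hs, hsr, hsl, hv, hvZ⟩ := ito_third hG hr hl
    obtain ⟨u, hu1, hu2, hu3⟩ := nc s v w hs hv hvZ hwZ (Or.inr fun hd => hsl (hkl s hs hd))
    have h1 := Ta r w hw hwZ e u hu1 (ito_ne hsr hu2)
    rcases h u hu3 with e' | e'
    · exfalso
      haveI := Fact.mk hs
      have h2 : ¬ cent(u) ≤ cent(w) := fun e'' => by
        have := congrArg Subgroup.index (le_antisymm h1 e'')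
        omega
      have h3 := (Tb s u hu2 hu3 e' w (mem_cent_comm.1 hu1) (ito_ne hsr.symm hw)).resolve_left h2
      rcases (abf_in (Tb s u hu2 hu3 e')).2 with h4 | ⟨q, hq, -, h4⟩
      · obtain ⟨j, hj⟩ := h4 w (mem_cent_comm.1 hu1) (ito_ne hsr.symm hw)
        exact hsl ((Nat.prime_dvd_prime_iff_eq hl hs).1
          (hl.dvd_of_dvd_pow (hj ▸ h3 ▸ hlk))).symm
      · have h5 : r = q := by
          by_contra hne
          exact h2 (h4 r w hr hsr.symm hne (mem_cent_comm.1 hu1) hw)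
        refine not_dvd_relIndex_of_forall (fun a ha ha' => mem_cent_comm.1
          (h4 l a hl hsl.symm (h5 ▸ Ne.symm hrl) ha ha' (mem_cent_comm.1 hu1))) (h3 ▸ hlk)
    · have h2 : cent(w) = cent(u) := cent_eq_of_le_of_cs_le h1 (by omega)
      refine le_cent_of_piPart (π := {r}) ?_ (Ta r w hw hwZ e _ (piPart_mem hg) (isPiElt_piPart _ _))
      rw [h2] at hg ⊢
      exact Ta s u hu2 hu3 e' _ (piPart_mem hg) (ito_ne hsr.symm (isPiElt_piPart _ _))
  · have h2 : (m * k).factorization q = m.factorization q := by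
      rw [Nat.factorization_mul hm.ne' (by omega), Finsupp.add_apply,
        Nat.factorization_eq_zero_of_not_dvd fun hd => hql (hkl q hq hd), add_zero]
    rcases h u huZ with e | e <;> rcases h v hvZ with e' | e' <;> rw [e, e'] <;> omega
  · by_cases hq : q.Prime
    · obtain ⟨r, w, hr, h1, h2, h3⟩ := ito_third hG hl hq
      exact ⟨r, hr, h1, h2.symm, w, h3⟩
    · obtain ⟨r, w, hr, h1, -, h3⟩ := ito_third hG hl hl
      exact ⟨r, hr, h1, fun e => hq (e ▸ hr), w, h3⟩

/-- in a group with partitioned non-central elements, centralizers of the same order and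
with two non-central Sylow subgroups are conjugate -/
theorem PiPart.conj_of_cs_eq (hP : PiPart Set.univ G)
    (h2 : ∀ x : G, x ∉ center G → ∀ t : ℕ, t.Prime →
      ∃ s : ℕ, s.Prime ∧ s ≠ t ∧ ¬ AE s cent(x) ≤ center G)
    {x y : G} (hx : x ∉ center G) (hy : y ∉ center G) (e : cs(x) = cs(y)) :
    ∃ g : G, cent(g * y * g⁻¹) = cent(x) := by
  by_contra hc
  have hu : ∀ x : G, IsPiElt Set.univ x := isPiElt_univ
  have h1 : ∀ r : ℕ, r.Prime →
      (center G).relIndex (AE r cent(y)) ≤ r ^ (cs(y)).factorization r := fun r hr => by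
    haveI := Fact.mk hr
    by_contra hlt
    exact hc (hP.exists_conj (hu x) hx (hu y) hy (Set.mem_univ r) (by rw [e]; omega))
  have key : ∀ q r : ℕ, q.Prime → r.Prime → q ≠ r → ¬ AE q cent(y) ≤ center G →
      ¬ AE r cent(y) ≤ center G → r < q := fun q r hq hr hqr hAq hAr => by
    haveI := Fact.mk hq
    haveI := Fact.mk hr
    have ha : (center G).relIndex (AE q cent(y)) ≤ q := by
      obtain ⟨Q, hQ, hle⟩ := exists_isSylowIn_ge (hP.AE_isPGroup (hu y) hy (Set.mem_univ q)) le_top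
      obtain ⟨v, hv, hvZ, -, -, hi, hi'⟩ := hP.exists_second (Set.mem_univ q) (fun v _ hvZ =>
        let ⟨s, hs, h1, h2⟩ := h2 v hvZ q hq
        ⟨s, hs, Set.mem_univ s, h1.symm, h2⟩) hQ fun e => hAq (hle.trans e)
      have h3 : q ^ (cs(v)).factorization q ≤ q :=
        (Nat.pow_le_pow_right hq.pos hi').trans (pow_one q).le
      by_cases h4 : cent(v) ⊓ AE q cent(y) ≤ center G
      · exact (ito_relIndex_le_of_inf_le h4).trans
          ((relIndex_le_of_le_right hle index_ne_zero_of_finite).trans (hi.le.trans h3))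
      · obtain ⟨w, hw, hwZ⟩ := SetLike.not_le_iff_exists.1 h4
        have h5 : cent(y) = cent(v) := (hP.eq' (hu y) hy (AE_le _ _ hw.2) (hu w) hwZ).symm.trans
          (hP.eq' (hu v) hvZ hw.1 (hu w) hwZ)
        refine (h1 q hq).trans ?_
        rwa [h5]
    obtain ⟨R, hR, hle⟩ := exists_isSylowIn_ge (hP.AE_isPGroup (hu y) hy (Set.mem_univ r)) le_top
    have h3 := ito_relIndex_sylow (hP.AE_sylow (hu y) hy (Set.mem_univ r)) hR hle
    have h4 : AE r cent(y) < R := lt_of_le_not_ge hle fun e => by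
      have h5 := h1 r hr
      rw [← h3, relIndex_eq_one.2 (e.trans (AE_le _ _))] at h5
      have h6 : (center G).relIndex (AE r cent(y)) ≠ 0 := index_ne_zero_of_finite
      exact hAr (relIndex_eq_one.1 (by omega))
    obtain ⟨g, hg, hg'⟩ := SetLike.exists_of_lt (lt_inf_normalizer_of_isPGroup hR.isPGroup h4)
    obtain ⟨a, ha', haZ⟩ := SetLike.not_le_iff_exists.1 hAr
    have h5 := hP.eq' (hu y) hy (AE_le _ _ ha') (hu a) haZ
    have hgr := isPiElt_singleton_of_mem hR.isPGroup hg.1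
    refine (hP.lt_relIndex (hu y) hy (Set.mem_univ q) hqr.symm hgr ?_
      (fun e => hg' (mem_AE_of e hgr)) hAq).trans_le ha
    rw [← h5]
    exact hP.mem_normalizer (hu a) haZ (h5 ▸ AE_le _ _ ((mem_normalizer_iff.1 hg.2 a).1 ha'))
  obtain ⟨q, hq, -, hAq⟩ := h2 y hy 2 Nat.prime_two
  obtain ⟨r, hr, hrq, hAr⟩ := h2 y hy q hq
  exact (key q r hq hr hrq.symm hAq hAr).asymm (key r q hr hq hrq hAr hAq)

theorem isSolvable_of_selfNormalizing (hP : PiPart Set.univ G) {x : G} (hx : x ∉ center G)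
    (h : normalizer (cent(x) : Set G) ≤ cent(x)) : Group.IsSolvable G := by
  set f := QuotientGroup.mk' (center G)
  have hu : ∀ x : G, IsPiElt Set.univ x := isPiElt_univ
  haveI : Group.IsSolvable (G ⧸ center G) := by
    refine isSolvable_of_isMalnormal (M := (cent(x)).map f) ?_ ?_ ?_
    · rintro _ ⟨a, ha, rfl⟩ h1 g hg
      obtain ⟨g, rfl⟩ := QuotientGroup.mk'_surjective _ g
      have haZ : a ∉ center G := fun e => h1 ((QuotientGroup.eq_one_iff a).2 e)
      have h2 : g * a * g⁻¹ ∈ ((cent(x)).map f).comap f := by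
        rw [mem_comap, map_mul, map_mul, map_inv]; exact hg
      rw [comap_map_eq, QuotientGroup.ker_mk', sup_eq_left.2 (center_le_cent x)] at h2
      have h3 := hP.eq' (hu x) hx ha (hu a) haZ
      refine mem_map_of_mem f (h ?_)
      rw [← h3] at h2 ⊢
      exact hP.mem_normalizer (hu a) haZ h2
    · intro e
      rw [Subgroup.map_eq_bot_iff, QuotientGroup.ker_mk'] at e
      exact hx (e (self_mem_cent x))
    · refine Group.isSolvable_of_comm ?_
      rintro ⟨_, a, ha, rfl⟩ ⟨_, b, hb, rfl⟩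
      exact Subtype.ext ((mem_cent.1 (hP.le_cent (hu x) hx hb (hu b) ha)).map f).eq
  haveI : Group.IsSolvable (center G) :=
    Group.isSolvable_of_comm fun a b => Subtype.ext (mem_center_iff.1 b.2 a)
  exact Group.isSolvable_of_ker_le_range (center G).subtype (QuotientGroup.mk' (center G)) (by simp)

omit [Finite G] in
/-- in an `F`-group elements of coprime order are central in a centralizer -/
theorem ito_le_of_F (hF : ∀ x y : G, x ∉ center G → y ∉ center G → cent(x) ≤ cent(y) →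
    cent(x) = cent(y)) {w u : G} (hw : w ∉ center G) (hu : u ∈ cent(w))
    (ho : (orderOf w).Coprime (orderOf u)) : cent(w) ≤ cent(u) := by
  have hc : Commute w u := mem_cent'.1 hu
  have h1 := cent_mul_of_coprime hc ho
  rw [← hF _ _ (ito_mul_not_mem hw hc ho) hw (h1.le.trans inf_le_left), h1]
  exact inf_le_right

theorem isSolvable_of_rank_two_F {m n : ℕ}
    (h : ∀ x : G, x ∉ center G → cs(x) = m ∨ cs(x) = n) {a b : G} (ha : a ∉ center G)
    (hb : b ∉ center G) (ham : cs(a) = m) (hbn : cs(b) = n)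
    (hF : ∀ x y : G, x ∉ center G → y ∉ center G → cent(x) ≤ cent(y) → cent(x) = cent(y)) :
    Group.IsSolvable G := by
  by_cases h1 : ∃ x : G, x ∉ center G ∧ ∃ t : ℕ, t.Prime ∧
      ∀ (s : ℕ) (u : G), s.Prime → s ≠ t → u ∈ cent(x) → IsPiElt {s} u → u ∈ center G
  · obtain ⟨x, hx, t, ht, h1⟩ := h1
    haveI := Fact.mk ht
    have h2 : ∀ v : G, IsPiElt {t}ᶜ v → v ∉ center G → cs(v) ≠ cs(x) := fun v hv hvZ e => by
      obtain ⟨s, hs, hd, h3⟩ := ito_exists_primary hvZ
      haveI := Fact.mk hs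
      obtain ⟨u, hu1, hu2, hu3⟩ := exists_noncentral_mem_cent (y := x) (isPiElt_piPart {s} v) h3
        (by rw [← e]; exact congrArg Subgroup.index (hF _ _ hvZ h3 (cent_le_piPart _ _)).symm)
      exact hu3 (h1 s u hs (hv s hs hd) hu1 hu2)
    refine abf_isSolvable (p := t) (k := if cs(x) = m then n else m) fun v hv => ?_
    by_cases hvZ : v ∈ center G
    · exact Or.inl (cs_eq_one_iff.2 hvZ)
    have h3 := h2 v hv hvZ
    right
    split_ifs with e <;> rcases h v hvZ with e' | e' <;> rcases h x hx with e'' | e'' <;> omega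
  push Not at h1
  have hP : PiPart Set.univ G := part_of_primary fun r w hr _ hw hwZ g hg _ => by
    obtain ⟨s, u, hs, hsr, hu1, hu2, hu3⟩ := h1 w hwZ r hr
    have h2 := hF _ _ hwZ hu3 (ito_le_of_F hF hwZ hu1 (ito_coprime hsr.symm hw hu2))
    refine le_cent_of_piPart (π := {r}) ?_
      (ito_le_of_F hF hwZ (piPart_mem hg) (hw.coprime (isPiElt_piPart _ _)))
    rw [h2] at hg ⊢
    exact ito_le_of_F hF hu3 (piPart_mem hg) (ito_coprime hsr hu2 (isPiElt_piPart _ _))
  have h2 : ∀ x : G, x ∉ center G → ∀ t : ℕ, t.Prime →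
      ∃ s : ℕ, s.Prime ∧ s ≠ t ∧ ¬ AE s cent(x) ≤ center G := fun x hx t ht =>
    let ⟨s, u, hs, hst, hu1, hu2, hu3⟩ := h1 x hx t ht
    ⟨s, hs, hst, fun e => hu3 (e (mem_AE_of hu1 hu2))⟩
  refine (le_or_le_of_cover (A := cent(a)) (B := cent(b)) le_rfl le_rfl Subgroup.le_normalizer
    Subgroup.le_normalizer (fun x => ?_)).elim (isSolvable_of_selfNormalizing hP ha)
    (isSolvable_of_selfNormalizing hP hb)
  by_cases hx : x ∈ center G
  · exact Or.inl ⟨1, by simpa using center_le_cent a hx⟩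
  rcases h x hx with e | e
  · obtain ⟨g, hg⟩ := hP.conj_of_cs_eq h2 ha hx (ham.trans e.symm)
    exact Or.inl ⟨g, hg ▸ self_mem_cent _⟩
  · obtain ⟨g, hg⟩ := hP.conj_of_cs_eq h2 hb hx (hbn.trans e.symm)
    exact Or.inr ⟨g, hg ▸ self_mem_cent _⟩

/-- Ito: a group of conjugate rank two is solvable -/
theorem isSolvable_of_rank_two {m n : ℕ} (hmn : m < n)
    (h : ∀ x : G, x ∉ center G → cs(x) = m ∨ cs(x) = n) {a b : G} (ha : a ∉ center G)
    (hb : b ∉ center G) (ham : cs(a) = m) (hbn : cs(b) = n) : Group.IsSolvable G := by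
  by_cases hF : ∀ x y : G, x ∉ center G → y ∉ center G → cent(x) ≤ cent(y) → cent(x) = cent(y)
  · exact isSolvable_of_rank_two_F h ha hb ham hbn hF
  push Not at hF
  obtain ⟨x, y, hx, hy, hle, hne⟩ := hF
  have h1 := index_dvd_of_le hle
  have h2 : cs(y) ≠ cs(x) := fun e => hne (cent_eq_of_le_of_cs_le hle e.ge)
  have h3 := Nat.le_of_dvd (cs_pos x) h1
  have h4 : cs(y) = m ∧ cs(x) = n := by
    rcases h x hx with e | e <;> rcases h y hy with e' | e' <;> omega
  rw [h4.1, h4.2] at h1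
  obtain ⟨k, rfl⟩ := h1
  refine isSolvable_of_rank_two_dvd ?_ h hy (lt_of_le_of_ne hle hne)
  by_contra hk
  have := Nat.mul_le_mul_left m (show k ≤ 1 by omega)
  omega

end CL.Cit
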