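/-
Class sizes (helper95): a class on which a self-centralizing abelian subgroup acts regularly.
-/
import Cfsg.Agent.Fgs.ClassBasic
import Cfsg.Agent.Blk.AbelChar
import Cfsg.Agent.Char.Exceptional
import Cfsg.Agent.Char.Constituent
import Cfsg.Agent.Char.DegPrime
import Cfsg.Agent.Char.InductionTI

namespace CL.Cit

open Subgroup Cfsg CL.Grp CL.Fgs CL.Char CL.Blk
open scoped Pointwise commutatorElement ComplexConjugate Classical

variable {G : Type*} [Group G]

theorem ito_norm_two [Fintype G] {H : Subgroup G} (hH : ∀ h ∈ H, h ≠ 1 → cent(h) = H)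
    {l₁ l₂ : H →* ℂˣ} (h1 : l₁ ≠ 1) (h2 : l₂ ≠ 1) (h : ¬ LinConj H l₁ l₂) :
    classInner (indFun H (lin l₁ - lin l₂)) (indFun H (lin l₁ - lin l₂)) = 2 := by
  have hne : H ≠ ⊥ := by
    rintro rfl
    exact h1 (MonoidHom.ext fun x => by rw [Subsingleton.elim x 1, map_one, map_one])
  obtain ⟨⟨a, ha⟩, ha1⟩ := ne_bot_iff_exists_ne_one.1 hne
  have ha1' : a ≠ 1 := fun e => ha1 (Subtype.ext e)
  have hA : ∀ a b : H, a * b = b * a := fun a b => by
    by_cases e : (b : G) = 1
    · rw [show b = 1 from Subtype.ext e, mul_one, one_mul]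
    · exact Subtype.ext (mem_cent.1 ((hH b b.2 e).ge a.2))
  have hC : centralizer (H : Set G) = H :=
    le_antisymm ((centralizer_le (Set.singleton_subset_iff.2 ha)).trans (hH a ha ha1').le)
      fun x hx y hy => congrArg Subtype.val (hA ⟨y, hy⟩ ⟨x, hx⟩)
  have hfrob : ∀ y ∈ H, y ≠ 1 → centralizer ({y} : Set G) ⊓ normalizer (H : Set G) ≤
      centralizer (H : Set G) := fun y hy hy1 => by rw [hC, hH y hy hy1]; exact inf_le_left
  have key : (fun x : H => indFun H (lin l₁ - lin l₂) x) = (Nat.card H : ℂ)⁻¹ •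
      ∑ n : normalizer (H : Set G), (lin (conjLin n l₁) - lin (conjLin n l₂)) := by
    ext x
    rw [indFun_apply, Pi.smul_apply, smul_eq_mul, Finset.sum_apply]
    congr 1
    rw [← Finset.sum_subset (Finset.subset_univ (Finset.univ.filter (· ∈ normalizer (H : Set G)))),
      Finset.sum_subtype (p := (· ∈ normalizer (H : Set G))) _ (by simp)]
    · refine Finset.sum_congr rfl fun n _ => ?_
      have : (n : G)⁻¹ * x * n = ((n⁻¹ • x : H) : G) := by rw [coe_normalizer_smul]; simp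
      rw [this, extendByZero_coe]
      rfl
    · intro g _ hg
      by_cases hx : g⁻¹ * x * g ∈ H
      · by_cases hx1 : (x : G) = 1
        · simp [hx1, extendByZero_one, lin_apply_one]
        · refine absurd (Finset.mem_filter.2 ⟨Finset.mem_univ _, ?_⟩) hg
          rw [← inv_mem_iff, ← conj_smul_eq_self_iff]
          conv_lhs => rw [← hH x x.2 hx1, ← cent_conj, inv_inv]
          exact hH _ hx fun e => hx1 (by rw [show (x : G) = g * (g⁻¹ * x * g) * g⁻¹ by group, e]; simp)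
      · exact extendByZero_of_not_mem _ hx
  rw [frobenius_reciprocity _ (indFun_isClassFunction _), key, classInner_smul_right,
    classInner_sum_right]
  have hs : ∀ φ ψ : H →* ℂˣ, ψ ≠ 1 → ∑ n : normalizer (H : Set G),
      classInner (lin φ) (lin (conjLin n ψ)) =
      if LinConj H ψ φ then (Nat.card (centralizer (H : Set G)) : ℂ) else 0 := fun φ ψ hψ => by
    simp only [classInner_lin]
    convert sum_ite_conjLin_eq hA hfrob φ hψ
  simp only [classInner_sub_left, classInner_sub_right, Finset.sum_sub_distrib]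
  rw [hs _ _ h1, hs _ _ h1, hs _ _ h2, hs _ _ h2, if_pos (LinConj.refl _),
    if_pos (LinConj.refl _), if_neg h, if_neg fun e => h e.symm, hC]
  have := natCard_subgroup_ne_zero H
  simp only [map_inv₀, map_natCast]
  field_simp
  ring

theorem ito_char [Finite G] {H : Subgroup G} (hH : ∀ h ∈ H, h ≠ 1 → cent(h) = H) (hne : H ≠ ⊥)
    {z : G} (hc : cs(z) = Nat.card H) (hz : ∀ g : G, ∀ h ∈ H, g⁻¹ * h * g ∈ cent(z) → h = 1) :
    (∀ g : G, Commute z (g * z * g⁻¹) → g * z * g⁻¹ = z) ∨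
      ∀ g y : G, y⁻¹ * ⁅z, g⁆ * y ∈ cent(z) := by
  haveI := Fintype.ofFinite G
  have hc1 : 1 < Nat.card H := (one_lt_card_iff_ne_bot H).2 hne
  have hA : ∀ a b : H, a * b = b * a := fun a b => by
    by_cases e : (b : G) = 1
    · rw [show b = 1 from Subtype.ext e, mul_one, one_mul]
    · exact Subtype.ext (mem_cent.1 ((hH b b.2 e).ge a.2))
  have hzH : ∀ x : G, x⁻¹ * z * x ∉ H := fun x hx => by
    have h1 := hz x⁻¹ _ hx (by simpa [mul_assoc] using self_mem_cent z)
    have h2 : z = 1 := by rw [show z = x * (x⁻¹ * z * x) * x⁻¹ by group, h1]; simp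
    rw [h2, cs_one] at hc
    omega
  set π := indFun cent(z) (fun _ => 1) with hπ
  have hπc : IsCharacter G π := isCharacter_indFun_one _
  have hπ1 : π 1 = Nat.card H := by rw [hπ, indFun_one, hc, mul_one]
  have hreg : ∀ l : H →* ℂˣ, classInner (fun h : H => π h) (lin l) = 1 := fun l => by
    rw [classInner_def, Finset.sum_eq_single 1]
    · simp only [OneMemClass.coe_one, hπ1, lin_apply_one, map_one, mul_one]
      exact inv_mul_cancel₀ (natCard_subgroup_ne_zero H)
    · intro h _ h1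
      rw [hπ, indFun_eq_zero_of_not_conj_mem _ fun x hx => h1 (Subtype.ext (hz x h h.2 hx)),
        zero_mul]
    · simp
  obtain ⟨m, hm, hπm⟩ := hπc.exists_eq_sum_nat
  choose n hn using fun (χ : IrrCharacter G) (l : H →* ℂˣ) =>
    (χ.2.isCharacter.restrict H).exists_nat_classInner (isCharacter_lin l)
  have hsum : ∀ l, ∑ χ, m χ * n χ l = 1 := fun l => by
    have h1 := hreg l
    have h2 : (fun h : H => π h) =
        ∑ χ : IrrCharacter G, (m χ : ℂ) • fun h : H => (χ : G → ℂ) h := by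
      ext h; conv_lhs => rw [hπm]
      simp
    rw [h2, classInner_sum_left] at h1
    simp only [classInner_smul_left, hn] at h1
    exact_mod_cast h1
  set o : IrrCharacter G := ⟨fun _ => 1, isIrrCharacter_one⟩ with ho
  have hmo : m o = 1 := by
    have := hm o
    rw [hπ, frobenius_reciprocity _ o.2.isClassFunction] at this
    exact_mod_cast this.symm.trans isIrrCharacter_one.classInner_self
  have hno : n o 1 = 1 := by
    have := hn o 1
    rw [lin_one] at this
    exact_mod_cast this.symm.trans isIrrCharacter_one.classInner_self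
  have hone : ∀ χ, m χ ≠ 0 → χ ≠ o → ∃ l : H →* ℂˣ, l ≠ 1 ∧ m χ = 1 ∧ n χ l = 1 ∧
      ∀ ψ, ψ ≠ χ → m ψ ≠ 0 → n ψ l = 0 := fun χ h1 h2 => by
    obtain ⟨θ, hθ, h3⟩ := exists_irr_constituent_restrict H χ.2
    obtain ⟨l, rfl⟩ := hθ.exists_monoidHom_of_comm hA
    have h4 : n χ l ≠ 0 := fun e => h3 ((hn χ l).trans (by rw [e, Nat.cast_zero]))
    have h5 := hsum l
    rw [← Finset.add_sum_erase _ _ (Finset.mem_univ χ)] at h5
    have h6 : 0 < m χ * n χ l := by positivity
    have h7 : m χ * n χ l = 1 := by omega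
    have h8 : ∀ ψ, ψ ≠ χ → m ψ ≠ 0 → n ψ l = 0 := fun ψ e e' =>
      (mul_eq_zero.1 (Finset.sum_eq_zero_iff.1 (show ∑ ψ ∈ Finset.univ.erase χ, m ψ * n ψ l = 0 by
        omega) ψ (Finset.mem_erase.2 ⟨e, Finset.mem_univ _⟩))).resolve_left e'
    refine ⟨l, ?_, Nat.eq_one_of_mul_eq_one_right h7, Nat.eq_one_of_mul_eq_one_left h7, h8⟩
    rintro rfl
    have := h8 o h2.symm (by omega)
    omega
  have hpair : ∀ χ ψ, m χ ≠ 0 → χ ≠ o → m ψ ≠ 0 → ψ ≠ o →
      (χ : G → ℂ) 1 = (ψ : G → ℂ) 1 ∧ (χ : G → ℂ) z = (ψ : G → ℂ) z := fun χ ψ h1 h2 h3 h4 => by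
    by_cases e : χ = ψ
    · rw [e]; exact ⟨rfl, rfl⟩
    obtain ⟨l₁, a1, -, a2, a3⟩ := hone χ h1 h2
    obtain ⟨l₂, b1, -, b2, b3⟩ := hone ψ h3 h4
    have hin : ∀ (φ : IrrCharacter G) (l : H →* ℂˣ),
        classInner (lin l) (fun h : H => (φ : G → ℂ) h) = n φ l := fun φ l => by
      rw [← conj_classInner, hn, map_natCast]
    have h5 : ¬ LinConj H l₁ l₂ := fun e' => by
      have := e'.classInner_res χ.2.isClassFunction
      rw [hin, hin, a2, b3 χ e h1] at this
      simp at this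
    have h6 : indFun H (lin l₁ - lin l₂) 1 = 0 := by simp [indFun_one, lin_apply_one]
    obtain ⟨u, v, huv, h7⟩ := exc_eq_sub_of_norm_two (isGeneralizedCharacter_indFun
      ((isGenChar_lin l₁).sub (isGenChar_lin l₂))) (ito_norm_two hH a1 b1 h5) h6
    have h8 := frobenius_reciprocity (lin l₁ - lin l₂) χ.2.isClassFunction
    have h9 := frobenius_reciprocity (lin l₁ - lin l₂) ψ.2.isClassFunction
    rw [h7, classInner_sub_left, classInner_sub_left, classInner_irr, classInner_irr, hin, hin] at h8 h9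
    rw [a2, b3 χ e h1] at h8
    rw [b2, a3 ψ (Ne.symm e) h3] at h9
    have hu : u = χ := by
      by_contra hu
      rw [if_neg hu] at h8
      split_ifs at h8 <;> norm_num at h8
    have hv : v = ψ := by
      by_contra hv
      rw [if_neg hv] at h9
      split_ifs at h9 <;> norm_num at h9
    rw [hu, hv] at h7
    have h10 := indFun_eq_zero_of_not_conj_mem (lin l₁ - lin l₂) hzH
    rw [h7] at h6 h10
    exact ⟨sub_eq_zero.1 h6, sub_eq_zero.1 h10⟩
  set S := Finset.univ.filter fun χ => m χ ≠ 0 ∧ χ ≠ o with hS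
  have hS' : ∀ χ, χ ∈ S ↔ m χ ≠ 0 ∧ χ ≠ o := fun χ => by simp [hS]
  have hval : ∀ g, π g = 1 + ∑ χ ∈ S, (χ : G → ℂ) g := fun g => by
    conv_lhs => rw [hπm]
    rw [Finset.sum_apply, ← Finset.add_sum_erase _ _ (Finset.mem_univ o), hmo]
    congr 1
    · simp [ho]
    · rw [← Finset.sum_subset (s₁ := S) (fun χ h => Finset.mem_erase.2
        ⟨((hS' χ).1 h).2, Finset.mem_univ _⟩)]
      · refine Finset.sum_congr rfl fun χ h => ?_
        obtain ⟨_, -, e, -⟩ := hone χ ((hS' χ).1 h).1 ((hS' χ).1 h).2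
        simp [e]
      · intro χ h1 h2
        have : m χ = 0 := by
          by_contra e
          exact h2 ((hS' χ).2 ⟨e, (Finset.mem_erase.1 h1).1⟩)
        simp [this]
  have hcop : ∀ χ ∈ S, (charDegree (χ : G → ℂ)).Coprime cs(z) := fun χ h => by
    have h1 := hval 1
    rw [hπ1, Finset.sum_congr rfl fun ψ h' => (hpair ψ χ ((hS' ψ).1 h').1 ((hS' ψ).1 h').2
      ((hS' χ).1 h).1 ((hS' χ).1 h).2).1, Finset.sum_const, ← χ.2.cast_charDegree, nsmul_eq_mul] at h1
    have h2 : Nat.card H = 1 + S.card * charDegree (χ : G → ℂ) := by exact_mod_cast h1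
    rw [hc, h2]
    simp
  by_cases h0 : ∀ χ ∈ S, (χ : G → ℂ) z = 0
  · left
    have h1 := card_mul_indFun_one cent(z) z
    rw [← hπ, hval, Finset.sum_eq_zero h0, add_zero, mul_one] at h1
    have h2 : Nat.card cent(z) = Nat.card {x : G // x⁻¹ * z * x ∈ cent(z)} := by exact_mod_cast h1
    have h3 : (cent(z) : Set G) = {x : G | x⁻¹ * z * x ∈ cent(z)} :=
      Set.eq_of_subset_of_ncard_le (fun x hx => mul_mem (mul_mem (inv_mem hx) (self_mem_cent z)) hx)
        (by rw [← Nat.card_coe_set_eq, ← Nat.card_coe_set_eq]; exact h2.ge)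
    intro g hg
    have h4 : g⁻¹ ∈ cent(z) := h3.ge (by simpa using mem_cent'.2 hg)
    exact mem_cent_iff_conj.1 (inv_mem_iff.1 h4)
  · right
    push Not at h0
    obtain ⟨χ, hχ, h0⟩ := h0
    intro g y
    have h1 : ∀ ψ ∈ S, (ψ : G → ℂ) ⁅z, g⁆ = (ψ : G → ℂ) 1 := fun ψ h => by
      refine apply_eq_one_of_mem_charKer (commutator_mem_charKer_of_mem_charCenter
        ψ.2.isClassFunction ((eq_zero_or_mem_charCenter_of_coprime ψ.2 z (hcop ψ h)).resolve_left ?_) g)
      rwa [(hpair ψ χ ((hS' ψ).1 h).1 ((hS' ψ).1 h).2 ((hS' χ).1 hχ).1 ((hS' χ).1 hχ).2).2]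
    have h2 := card_mul_indFun_one cent(z) ⁅z, g⁆
    rw [← hπ, hval, Finset.sum_congr rfl h1, ← hval, hπ1, ← hc] at h2
    have h3 : Nat.card G = Nat.card {x : G // x⁻¹ * ⁅z, g⁆ * x ∈ cent(z)} := by
      rw [← card_cent_mul_cs z]; exact_mod_cast h2
    have h4 : {x : G | x⁻¹ * ⁅z, g⁆ * x ∈ cent(z)} = Set.univ :=
      Set.eq_of_subset_of_ncard_le (Set.subset_univ _)
        (by rw [Set.ncard_univ, ← Nat.card_coe_set_eq]; exact h3.le)
    exact h4.ge (Set.mem_univ y)

end CL.Cit
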