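/-
Class sizes (helper95): centreless groups with three non-trivial class sizes.
-/
import Cfsg.Agent.Cit.Ito4
import Cfsg.Agent.Cit.Ito5
import Cfsg.Agent.Cit.CentBase

namespace CL.Cit

open Subgroup Cfsg CL.Grp CL.Fgs
open scoped Pointwise commutatorElement

universe u

variable {G : Type*} [Group G] [Finite G]

theorem ito_exists_central {p : ℕ} [hp : Fact p.Prime] {P : Subgroup G} (hP : IsPGroup p P)
    (h : P ≠ ⊥) : ∃ z ∈ P, orderOf z = p ∧ P ≤ cent(z) := by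
  haveI := (nontrivial_iff_ne_bot P).2 h
  haveI := hP.center_nontrivial
  obtain ⟨n, hn, hc⟩ := (hP.to_subgroup (center P)).nontrivial_iff_card.1 inferInstance
  obtain ⟨z, hz⟩ := exists_prime_orderOf_dvd_card' (G := center P) p (hc ▸ dvd_pow_self p hn.ne')
  exact ⟨z.1, z.1.2, by rw [Subgroup.orderOf_coe, Subgroup.orderOf_coe, hz], fun g hg =>
    mem_cent.2 (congrArg Subtype.val (mem_center_iff.1 z.2 ⟨g, hg⟩))⟩

theorem ito_piElt_of_orderOf {p : ℕ} (hp : p.Prime) {z : G} (h : orderOf z = p) :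
    IsPiElt {p} z ∧ z ≠ 1 :=
  ⟨(isPiElt_singleton_iff hp).2 ⟨1, by rw [h, pow_one]⟩, fun e => hp.one_lt.ne' (by
    rw [← h, e, orderOf_one])⟩

theorem ito_sylow_ne_bot {p : ℕ} [Fact p.Prime] (h : p ∣ Nat.card G) (P : Sylow p G) :
    (P : Subgroup G) ≠ ⊥ := fun e => P.not_dvd_index (by rwa [e, index_bot])

theorem ito_exists_elt {p : ℕ} (hp : p.Prime) {H : Subgroup G} (h : p ∣ Nat.card H) :
    ∃ z ∈ H, IsPiElt {p} z ∧ z ≠ 1 := by
  haveI := Fact.mk hp
  obtain ⟨z, hz⟩ := exists_prime_orderOf_dvd_card' (G := H) p h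
  exact ⟨z, z.2, ito_piElt_of_orderOf hp (by rw [Subgroup.orderOf_coe, hz])⟩

/-- all `s'`-elements have class sizes divisible by `s` and `r` only -/
theorem ito_burn {s r : ℕ} (hs : s.Prime) (hr : r.Prime) (X : Type u) [Group X] [Finite X] :
    ClassSizesIn {s}ᶜ (IsPiNum {s, r}) X → Group.IsSolvable X := by
  have hd : ∀ a b : ℕ, a ∣ b → IsPiNum {s, r} b → IsPiNum {s, r} a := fun a b h hb => hb.of_dvd h
  refine isSolvable_of_inherited (fun X _ _ => ClassSizesIn {s}ᶜ (IsPiNum {s, r}) X)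
    (fun X _ _ N _ h => h.normal hd N) (fun X _ _ N _ h => h.quotient hd N)
    (fun X _ _ _ h => ?_) X
  have key : ∀ x : X, IsPiElt {s}ᶜ x → (r = s ∨ ¬ r ∣ cs(x)) → ∃ k, cs(x) = s ^ k :=
    fun x hx h1 => (isPiNum_singleton_iff hs (cs_ne_zero x)).1 fun l hl hd' => by
      rcases h x hx l hl hd' with e | e
      · exact e
      · obtain rfl : l = r := e
        exact h1.resolve_right fun e => e hd'
  by_cases h1 : r ≠ s ∧ r ∣ Nat.card X
  · haveI := Fact.mk hr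
    obtain ⟨R⟩ : Nonempty (Sylow r X) := inferInstance
    obtain ⟨z, -, h2, h3⟩ := ito_exists_central R.isPGroup' (ito_sylow_ne_bot h1.2 R)
    obtain ⟨h4, h5⟩ := ito_piElt_of_orderOf hr h2
    obtain ⟨k, hk⟩ := key z (ito_ne h1.1 h4) (Or.inr (not_dvd_cs_iff.2 ⟨R, h3⟩))
    exact isSolvable_of_card_prime (CL.Char.prime_card_of_index_eq_prime_pow hs h5 hk)
  · refine isSolvable_of_pRegular_isPP hs X fun x hx => ?_
    obtain ⟨k, hk⟩ := key x hx (by
      by_cases e : r = s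
      · exact Or.inl e
      · exact Or.inr fun hd => h1 ⟨e, hd.trans (cs_dvd_card x)⟩)
    exact ⟨s, k, hs, hk⟩

theorem ito_comm_of_two (h : ∀ u v : G, IsPiElt {2} u → IsPiElt {2} v → u ≠ 1 → v ≠ 1 →
    cent(u) ≤ cent(v) → cent(u) = cent(v)) {S : Subgroup G} (hS : IsPGroup 2 S) :
    ∀ x ∈ S, ∀ y ∈ S, Commute x y := by
  have h2 : ∀ x ∈ S, IsPiElt {2} x := fun x hx => isPiElt_singleton_of_mem hS hx
  have key : ∀ x ∈ S, x * x ≠ 1 → S ≤ cent(x) := fun x hx h1 => by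
    have hx1 : x ≠ 1 := by rintro rfl; exact h1 (mul_one 1)
    obtain ⟨z, hz, h3, h4⟩ := ito_exists_central hS fun e => hx1 (mem_bot.1 (e ▸ hx))
    have h5 : Commute x z := mem_cent.1 (h4 hx)
    have h6 : z * z = 1 := by rw [← sq, ← h3, pow_orderOf_eq_one]
    have h7 : x * z * (x * z) = x * x := by
      rw [mul_assoc, ← mul_assoc z, ← h5.eq, mul_assoc, h6, mul_one]
    have h8 := h x (x * x) (h2 x hx) (h2 _ (mul_mem hx hx)) hx1 h1 (by rw [← sq]; exact cent_le_pow x 2)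
    have h9 := h (x * z) (x * x) (h2 _ (mul_mem hx hz)) (h2 _ (mul_mem hx hx))
      (fun e => h1 (by rw [← h7, e, mul_one])) h1 (by rw [← h7, ← sq]; exact cent_le_pow _ 2)
    rw [h x z (h2 x hx) (h2 z hz) hx1 (ito_piElt_of_orderOf Nat.prime_two h3).2 fun g hg => ?_]
    · exact h4
    · have := ((mem_cent.1 hg).inv_right).mul_right (mem_cent.1 ((h8.trans h9.symm).le hg))
      exact mem_cent.2 (by simpa using this)
  intro x hx y hy
  by_cases h1 : x * x = 1
  · by_cases h3 : y * y = 1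
    · by_cases h4 : x * y * (x * y) = 1
      · have e1 := eq_inv_of_mul_eq_one_left h1
        have e2 := eq_inv_of_mul_eq_one_left h3
        have e3 := eq_inv_of_mul_eq_one_left h4
        rw [mul_inv_rev, ← e1, ← e2] at e3
        exact e3
      · have := (Commute.refl x).inv_right.mul_right (mem_cent.1 (key _ (mul_mem hx hy) h4 hx))
        simpa using this
    · exact mem_cent.1 (key y hy h3 hx)
  · exact mem_cent'.1 (key x hx h1 hy)

theorem ito_abCent (h : ∀ u v : G, IsPiElt {2} u → IsPiElt {2} v → u ≠ 1 → v ≠ 1 →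
    cent(u) ≤ cent(v) → cent(u) = cent(v))
    (h' : ∀ t : G, orderOf t = 2 → ∀ u ∈ cent(t), IsPiElt {2}ᶜ u → cent(t) ≤ cent(u)) :
    AbCent G := fun t a b ht ha hb => by
  obtain ⟨P, K, h1, -, -⟩ := exists_direct_in (p := 2) (C := cent(t)) fun y hy hy' => by
    rw [relIndex_eq_one.2 (h' t ht y hy hy')]; decide
  have hP : IsPGroup 2 P := isPGroup_of_forall_isPiElt fun x hx => ((h1 x).1 hx).2
  have ha' := mem_cent.2 ha
  have hb' := mem_cent.2 hb
  rw [← piPart_mul_piPart_compl {2} a]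
  refine Commute.mul_left ?_ (mem_cent'.1 (h' t ht _ (piPart_mem ha') (isPiElt_piPart _ _) hb'))
  rw [← piPart_mul_piPart_compl {2} b]
  refine Commute.mul_right ?_
    (mem_cent.1 (h' t ht _ (piPart_mem hb') (isPiElt_piPart _ _) (piPart_mem ha')))
  exact ito_comm_of_two h hP _ ((h1 _).2 ⟨piPart_mem ha', isPiElt_piPart _ _⟩) _
    ((h1 _).2 ⟨piPart_mem hb', isPiElt_piPart _ _⟩)

theorem ito_isSolvable_of_coprime {K B : Subgroup G} [K.Normal] (hK : Group.IsSolvable K)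
    (hB : Group.IsSolvable B) (h : B.index.Coprime K.index) : Group.IsSolvable G := by
  haveI : Group.IsSolvable (G ⧸ K) := by
    refine Group.isSolvable_of_surjective (f := (QuotientGroup.mk' K).comp B.subtype) fun x => ?_
    obtain ⟨g, rfl⟩ := QuotientGroup.mk'_surjective K x
    obtain ⟨a, ha, b, hb, rfl⟩ := exists_mul_eq_of_coprime_index h g
    exact ⟨⟨a, ha⟩, by simp [(QuotientGroup.eq_one_iff b).2 hb]⟩
  exact Group.isSolvable_of_ker_le_range K.subtype (QuotientGroup.mk' K) (by simp)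

/-- maximal centralizers with two suitable primes are abelian -/
theorem ito_lemmaS {t κ p p' : ℕ} (hp : p.Prime) (hp' : p'.Prime) (hpp : p ≠ p')
    (h1 : ¬ p ∣ t) (h1' : ¬ p' ∣ t) (h2 : p ∣ κ) (h2' : p' ∣ κ) (h3 : p ∣ Nat.card G)
    (h3' : p' ∣ Nat.card G)
    (hT : ∀ w : G, cs(w) = t → ∀ u ∈ cent(w), (orderOf w).Coprime (orderOf u) →
      cent(w) ≤ cent(u) ∨ (cent(u)).relIndex cent(w) = κ)
    (hM : ∀ w u : G, cs(w) = t → u ≠ 1 → cent(w) ≤ cent(u) → cent(w) = cent(u))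
    {w : G} (hw : cs(w) = t) (hw1 : w ≠ 1) : ∀ g ∈ cent(w), cent(w) ≤ cent(g) := by
  obtain ⟨q, hq, -, h4⟩ := ito_exists_primary (H := ⊥) (u := w) hw1
  have h5 := hM w _ hw h4 (cent_le_piPart {q} w)
  have h6 : cs(piPart {q} w) = t := by rw [← hw]; exact congrArg Subgroup.index h5.symm
  rw [h5]
  generalize hv : piPart {q} w = v at h4 h6
  have hvq : IsPiElt {q} v := hv ▸ isPiElt_piPart _ _
  have key : ∀ r : ℕ, r.Prime → r ≠ q → ¬ r ∣ t → r ∣ κ → r ∣ Nat.card G →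
      ∃ z : G, IsPiElt {r} z ∧ cent(v) = cent(z) := fun r hr hrq e1 e2 e3 => by
    haveI := Fact.mk hr
    obtain ⟨P, hP⟩ := not_dvd_cs_iff.1 (h6 ▸ e1 : ¬ r ∣ cs(v))
    obtain ⟨z, hz, h7, h8⟩ := ito_exists_central P.isPGroup' (ito_sylow_ne_bot e3 P)
    obtain ⟨h9, h10⟩ := ito_piElt_of_orderOf hr h7
    refine ⟨z, h9, hM v z h6 h10 ((hT v h6 z (hP hz) (ito_coprime hrq.symm hvq h9)).resolve_right
      fun e => ?_)⟩
    refine (isSylowIn_of_le P hP).not_dvd_relIndex_of_le (le_inf h8 hP) inf_le_right ?_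
    rwa [inf_relIndex_right, e]
  obtain ⟨r, z, hrq, hz, e⟩ : ∃ (r : ℕ) (z : G), r ≠ q ∧ IsPiElt {r} z ∧ cent(v) = cent(z) := by
    by_cases e : p = q
    · obtain ⟨z, hz⟩ := key p' hp' (e ▸ hpp.symm) h1' h2' h3'
      exact ⟨p', z, e ▸ hpp.symm, hz⟩
    · obtain ⟨z, hz⟩ := key p hp e h1 h2 h3
      exact ⟨p, z, e, hz⟩
  have T1 := fun u hu (hu' : IsPiElt {q}ᶜ u) => hT v h6 u hu (hvq.coprime hu')
  have T2 := fun u hu (hu' : IsPiElt {r}ᶜ u) =>
    hT z (by rw [← h6]; exact congrArg Subgroup.index e.symm) u hu (hz.coprime hu')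
  rw [← e] at T2
  obtain ⟨l, hl, h7⟩ := ito_nil_in hq hrq.symm T1 T2
  refine fun g hg => ito_le_cent_of_primary (π := Set.univ) (fun s u hs _ hu hu' => ?_) hg
    (isPiElt_univ g)
  by_contra hc
  have h8 : s = l := by
    by_contra hne
    exact hc (h7 s u hs hne hu hu')
  have h9 : (cent(u)).relIndex cent(v) = κ := by
    by_cases e' : s = q
    · exact (T2 u hu (ito_ne (e' ▸ hrq.symm) hu')).resolve_left hc
    · exact (T1 u hu (ito_ne e' hu')).resolve_left hc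
  have key2 : ∀ a : ℕ, a.Prime → a ∣ κ → a = l := fun a ha hd => by
    by_contra hne
    haveI := Fact.mk ha
    exact not_dvd_relIndex_of_forall (s := a) (fun b hb hb' =>
      mem_cent_comm.1 (h7 a b ha hne hb hb' hu)) (h9 ▸ hd)
  exact hpp ((key2 p hp h2).trans (key2 p' hp' h2').symm)

end CL.Cit
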