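/-
Class sizes (helper95): centreless groups with class sizes `1, m, m * k, n`.
-/
import Cfsg.Agent.Cit.Ito6
import Cfsg.Agent.Cit.FrobSys
import Cfsg.Agent.Odd.FT
import Cfsg.Agent.S0028

namespace CL.Cit

open Subgroup Cfsg CL.Grp CL.Fgs
open scoped Pointwise commutatorElement

/-- centreless group with class sizes `1, m, m * k, n` -/
structure Rk3 (G : Type*) [Group G] (m k n : ℕ) : Prop where
  hZ : center G = ⊥
  hk : 1 < k
  hm : 1 < m
  hn : 1 < n
  cop : m.Coprime n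
  tri : ∀ x : G, x ≠ 1 → cs(x) = m ∨ cs(x) = m * k ∨ cs(x) = n

set_option linter.unusedSectionVars false

namespace Rk3

variable {G : Type*} [Group G] [Finite G] {m k n : ℕ}

omit [Finite G] in
theorem not_dvd (h : Rk3 G m k n) : ¬ m ∣ n := fun e => h.hm.ne' (h.cop.eq_one_of_dvd e)

omit [Finite G] in
theorem not_dvd' (h : Rk3 G m k n) : ¬ n ∣ m := fun e => h.hn.ne' (h.cop.symm.eq_one_of_dvd e)

omit [Finite G] in
theorem lt (h : Rk3 G m k n) : m < m * k := lt_mul_of_one_lt_right (zero_lt_one.trans h.hm) h.hk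

omit [Finite G] in
theorem ne_one {w : G} {t : ℕ} (ht : 1 < t) (hw : cs(w) = t) : w ≠ 1 := by
  rintro rfl
  rw [cs_one] at hw
  omega

theorem tri_mul (h : Rk3 G m k n) {w u : G} (hw : w ≠ 1) (hu : u ∈ cent(w))
    (ho : (orderOf w).Coprime (orderOf u)) : (cent(u)).relIndex cent(w) * cs(w) = m ∨
      (cent(u)).relIndex cent(w) * cs(w) = m * k ∨ (cent(u)).relIndex cent(w) * cs(w) = n := by
  have hc : Commute w u := mem_cent'.1 hu
  rw [← cs_mul_of_coprime' hc ho]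
  exact h.tri _ fun e => hw (by simpa [e] using mem_zpowers_mul_of_coprime hc ho)

theorem Ta (h : Rk3 G m k n) {w u : G} (hw : cs(w) = m * k) (hu : u ∈ cent(w))
    (ho : (orderOf w).Coprime (orderOf u)) : cent(w) ≤ cent(u) := by
  have h1 := h.lt
  have h2 := h.hm
  rw [← relIndex_eq_one]
  rcases h.tri_mul (ne_one (h2.trans h1) hw) hu ho with e | e | e <;> rw [hw] at e
  · exact absurd (Nat.le_of_dvd (by omega) (Dvd.intro_left _ e)) (by omega)
  · exact Nat.eq_of_mul_eq_mul_right (by omega) (e.trans (one_mul _).symm)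
  · exact absurd ((Dvd.intro _ rfl).trans (Dvd.intro_left _ e)) h.not_dvd

theorem Tb (h : Rk3 G m k n) (w : G) (hw : cs(w) = m) (u : G) (hu : u ∈ cent(w))
    (ho : (orderOf w).Coprime (orderOf u)) :
    cent(w) ≤ cent(u) ∨ (cent(u)).relIndex cent(w) = k := by
  have h2 := h.hm
  rw [← relIndex_eq_one]
  rcases h.tri_mul (ne_one h2 hw) hu ho with e | e | e <;> rw [hw] at e
  · exact Or.inl (Nat.eq_of_mul_eq_mul_right (by omega) (e.trans (one_mul _).symm))
  · exact Or.inr (Nat.eq_of_mul_eq_mul_right (by omega) (e.trans (mul_comm _ _)))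
  · exact absurd (Dvd.intro_left _ e) h.not_dvd

theorem Tc' (h : Rk3 G m k n) {w : G} (hw : cs(w) = n) {u : G} (hu : u ∈ cent(w))
    (ho : (orderOf w).Coprime (orderOf u)) :
    cent(w) ≤ cent(u) ∨ (cent(u)).relIndex cent(w) * n = m * k := by
  have h2 := h.hn
  rw [← relIndex_eq_one]
  rcases h.tri_mul (ne_one h2 hw) hu ho with e | e | e <;> rw [hw] at e
  · exact absurd (Dvd.intro_left _ e) h.not_dvd'
  · exact Or.inr e
  · exact Or.inl (Nat.eq_of_mul_eq_mul_right (by omega) (e.trans (one_mul _).symm))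

theorem Tc (h : Rk3 G m k n) : ∃ κ : ℕ, m ∣ κ ∧ ∀ w : G, cs(w) = n → ∀ u ∈ cent(w),
    (orderOf w).Coprime (orderOf u) → cent(w) ≤ cent(u) ∨ (cent(u)).relIndex cent(w) = κ := by
  by_cases hd : n ∣ m * k
  · obtain ⟨κ, hκ⟩ := hd
    refine ⟨κ, h.cop.dvd_of_dvd_mul_left (hκ ▸ Dvd.intro _ rfl), fun w hw u hu ho =>
      (h.Tc' hw hu ho).imp_right fun e => ?_⟩
    exact Nat.eq_of_mul_eq_mul_right (zero_lt_one.trans h.hn) (by rw [e, hκ, mul_comm])
  · exact ⟨m, dvd_rfl, fun w hw u hu ho =>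
      (h.Tc' hw hu ho).imp_right fun e => absurd (Dvd.intro_left _ e) hd⟩

theorem Mb (h : Rk3 G m k n) (w u : G) (hw : cs(w) = m) (hu : u ≠ 1) (hle : cent(w) ≤ cent(u)) :
    cent(w) = cent(u) := by
  have h1 := cs_dvd_of_le hle
  have h2 := h.lt
  refine cent_eq_of_le_of_cs_le hle ?_
  rcases h.tri u hu with e | e | e
  · omega
  · omega
  · exact absurd (by rwa [hw, e] at h1) h.not_dvd'

theorem Mc (h : Rk3 G m k n) (w u : G) (hw : cs(w) = n) (hu : u ≠ 1) (hle : cent(w) ≤ cent(u)) :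
    cent(w) = cent(u) := by
  have h1 := cs_dvd_of_le hle
  refine cent_eq_of_le_of_cs_le hle ?_
  rcases h.tri u hu with e | e | e
  · exact absurd (by rwa [hw, e] at h1) h.not_dvd
  · exact absurd ((Dvd.intro _ rfl).trans (by rwa [hw, e] at h1)) h.not_dvd
  · omega

theorem solv (h : Rk3 G m k n) {w : G} (hw : w ≠ 1) : Group.IsSolvable cent(w) := by
  obtain ⟨q, hq, -, h1⟩ := ito_exists_primary (H := ⊥) (u := w) hw
  haveI := Fact.mk hq
  have h2 := isPiElt_piPart {q} w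
  haveI : Group.IsSolvable cent(piPart {q} w) := by
    rcases h.tri _ h1 with e | e | e
    · exact (abf_in fun u hu hu' => h.Tb _ e u hu (h2.coprime hu')).1
    · exact (abf_in (k := 0) fun u hu hu' => Or.inl (h.Ta e hu (h2.coprime hu'))).1
    · obtain ⟨κ, -, hκ⟩ := h.Tc
      exact (abf_in fun u hu hu' => hκ _ e u hu (h2.coprime hu')).1
  exact Group.isSolvable_of_isSolvable_injective (inclusion_injective (cent_le_piPart {q} w))

theorem exists_prime (h : Rk3 G m k n) {x y : G} (hy : cs(y) = m) (hlt : cent(x) < cent(y)) :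
    ∃ l : ℕ, l.Prime ∧ ∀ p : ℕ, p.Prime → p ∣ k → p ∣ m ∨ p = l := by
  by_contra hc
  push Not at hc
  obtain ⟨p, hp, h1, h2, -⟩ := hc 2 Nat.prime_two
  obtain ⟨p', hp', h1', h2', h3⟩ := hc p hp
  have h4 : k ∣ Nat.card G := by
    have h5 : x ≠ 1 := fun e => not_top_lt (by rwa [e, cent_one] at hlt)
    have h6 : cs(x) ≠ m := fun e => hlt.ne (cent_eq_of_le_of_cs_le hlt.le (by omega))
    have h7 : cs(x) ≠ n := fun e => h.not_dvd (by simpa [hy, e] using cs_dvd_of_le hlt.le)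
    exact (Dvd.intro_left _ (((h.tri x h5).resolve_left h6).resolve_right h7).symm).trans
      (cs_dvd_card x)
  exact hlt.not_ge (ito_lemmaS hp hp' h3.symm h2 h2' h1 h1' (h1.trans h4) (h1'.trans h4) h.Tb h.Mb
    hy (ne_one h.hm hy) x (hlt.le (self_mem_cent x)))

theorem isSolvable_of_pow (h : Rk3 G m k n) {y : G} (hy : cs(y) = m) {s l : ℕ} (hs : s.Prime)
    (hl : l.Prime) (hm : ∀ p : ℕ, p.Prime → p ∣ m → p = s)
    (hk : ∀ p : ℕ, p.Prime → p ∣ k → p ∣ m ∨ p = l) : Group.IsSolvable G := by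
  have h1 : IsPiNum {s, l} m := fun p hp hd => Or.inl (hm p hp hd)
  have h2 : IsPiNum {s, l} (m * k) := h1.mul fun p hp hd => (hk p hp hd).imp_left (hm p hp)
  refine ito_burn hs hl G fun w hw => ?_
  by_cases hw1 : w = 1
  · rw [hw1, cs_one]; exact isPiNum_one _
  rcases h.tri w hw1 with e | e | e <;> rw [e]
  · exact h1
  · exact h2
  refine h2.of_dvd ?_
  by_contra hd
  obtain ⟨r, hr, hr', h3⟩ := ito_exists_primary (H := ⊥) (u := w) hw1
  have hrs : r ≠ s := hw r hr hr'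
  have h4 := h.Mc w _ e h3 (cent_le_piPart {r} w)
  have h5 : cs(piPart {r} w) = n := by rw [← e]; exact congrArg Subgroup.index h4.symm
  have h6 := isPiElt_piPart {r} w
  generalize piPart {r} w = v at h3 h5 h6
  have T : ∀ {w : G}, cs(w) = n → ∀ {u : G}, u ∈ cent(w) → (orderOf w).Coprime (orderOf u) →
      cent(w) ≤ cent(u) := fun hw u hu ho =>
    (h.Tc' hw hu ho).resolve_right fun e => hd (Dvd.intro_left _ e)
  haveI := Fact.mk hs
  have hsm : s ∣ m := by
    obtain ⟨p, hp, hd⟩ := Nat.exists_prime_and_dvd h.hm.ne'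
    exact hm p hp hd ▸ hd
  obtain ⟨P, hP⟩ := not_dvd_cs_iff.1 (show ¬ s ∣ cs(v) from fun e =>
    hs.one_lt.ne' (Nat.eq_one_of_dvd_coprimes h.cop hsm (h5 ▸ e)))
  obtain ⟨z, hz, h7, h8⟩ := ito_exists_elt hs (H := (P : Subgroup G)) (by
    rw [P.card_eq_multiplicity]
    exact dvd_pow_self s (hs.factorization_pos_of_dvd Nat.card_pos.ne'
      (hsm.trans (hy ▸ cs_dvd_card y))).ne')
  have h9 := h.Mc v z h5 h8 (T h5 (hP hz) (ito_coprime hrs h6 h7))
  have h10 : y ∈ cent(v) := mem_cent'.2 (commute_of_coprime_cs (by rw [h5, hy]; exact h.cop.symm)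
    (by rw [hy]; exact IsPiNum.coprime h6 fun p hp hd e => hrs (e.symm.trans (hm p hp hd))))
  refine h.not_dvd (hy ▸ h5 ▸ cs_dvd_of_le (ito_le_cent_of_primary (π := Set.univ)
      (fun q u hq _ hu hu' => ?_) h10 (isPiElt_univ y)))
  by_cases e : q = r
  · rw [h9] at hu ⊢
    exact T (by rw [← h5]; exact congrArg Subgroup.index h9.symm) hu
      (ito_coprime (e ▸ hrs.symm) h7 hu')
  · exact T h5 hu (ito_coprime (Ne.symm e) h6 hu')

/-- centralizers of elements with class size `n` are abelian -/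
def Ab (G : Type*) [Group G] (n : ℕ) : Prop :=
  ∀ w : G, cs(w) = n → ∀ g ∈ cent(w), cent(w) ≤ cent(g)

theorem ab (h : Rk3 G m k n) {y : G} (hy : cs(y) = m) {p p' : ℕ} (hp : p.Prime) (hp' : p'.Prime)
    (hpp : p ≠ p') (h1 : p ∣ m) (h1' : p' ∣ m) : Ab G n := fun w hw => by
  obtain ⟨κ, hκ, hT⟩ := h.Tc
  exact ito_lemmaS hp hp' hpp (fun e => hp.one_lt.ne' (Nat.eq_one_of_dvd_coprimes h.cop h1 e))
    (fun e => hp'.one_lt.ne' (Nat.eq_one_of_dvd_coprimes h.cop h1' e)) (h1.trans hκ)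
    (h1'.trans hκ) (h1.trans (hy ▸ cs_dvd_card y)) (h1'.trans (hy ▸ cs_dvd_card y)) hT h.Mc hw
    (ne_one h.hn hw)

theorem CC (h : Rk3 G m k n) (hA : Ab G n) {z g : G} (hz : cs(z) = n) (hg : g ∈ cent(z))
    (hg1 : g ≠ 1) : cent(g) = cent(z) := (h.Mc z g hz hg1 (hA z hz g hg)).symm

theorem CC' (h : Rk3 G m k n) (hA : Ab G n) {z g : G} (hz : cs(z) = n) (hg : g ∈ cent(z))
    (hg1 : g ≠ 1) : cs(g) = n := by
  rw [← hz]; exact congrArg Subgroup.index (h.CC hA hz hg hg1)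

theorem sylow_le (h : Rk3 G m k n) (hA : Ab G n) {z : G} (hz : cs(z) = n) {l : ℕ}
    [hl : Fact l.Prime] (hd : l ∣ Nat.card cent(z)) : ∃ P : Sylow l G, (P : Subgroup G) ≤ cent(z) := by
  obtain ⟨g, hg, h1, h2⟩ := ito_exists_elt hl.out hd
  obtain ⟨P, hP⟩ := h1.exists_mem_sylow
  obtain ⟨c, -, h3, h4⟩ := ito_exists_central P.isPGroup' fun e => h2 (mem_bot.1 (e ▸ hP))
  refine ⟨P, h4.trans (h.CC hA hz ?_ (ito_piElt_of_orderOf hl.out h3).2).le⟩
  rw [← h.CC hA hz hg h2]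
  exact mem_cent_comm.1 (h4 hP)

theorem coprime_card (h : Rk3 G m k n) (hA : Ab G n) {z x : G} (hz : cs(z) = n) (hx1 : x ≠ 1)
    (hx : cs(x) ≠ n) : (Nat.card cent(x)).Coprime (Nat.card cent(z)) := by
  refine Nat.coprime_of_dvd fun l hl h1 h2 => hx ?_
  haveI := Fact.mk hl
  obtain ⟨P, hP⟩ := h.sylow_le hA hz h2
  obtain ⟨u, hu, h3, h4⟩ := ito_exists_elt hl h1
  obtain ⟨g, hg⟩ := h3.exists_conj_mem_sylow P
  have h5 : cs(u) = n := by
    rw [← cs_conj g u]
    exact h.CC' hA hz (hP hg) (by simpa [mul_eq_left, conj_eq_one_iff] using h4)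
  exact h.CC' hA h5 (mem_cent_comm.1 hu) hx1

theorem card_b (h : Rk3 G m k n) (hA : Ab G n) {z y : G} (hz : cs(z) = n) (hy : cs(y) = m) :
    Nat.card cent(z) = m ∧ Nat.card cent(y) = n := by
  have h1 := h.coprime_card hA hz (ne_one h.hm hy) fun e => h.not_dvd (by rw [← e, hy])
  have h2 := (cs_mul_card_cent z).trans (cs_mul_card_cent y).symm
  rw [hz, hy] at h2
  have h3 : Nat.card cent(y) = n := Nat.dvd_antisymm
    (h1.dvd_of_dvd_mul_right (h2 ▸ Dvd.intro_left _ rfl))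
    (h.cop.symm.dvd_of_dvd_mul_left (h2 ▸ Dvd.intro _ rfl))
  rw [h3, mul_comm] at h2
  exact ⟨Nat.eq_of_mul_eq_mul_right (zero_lt_one.trans h.hn) h2, h3⟩

theorem card_G (h : Rk3 G m k n) (hA : Ab G n) {z y : G} (hz : cs(z) = n) (hy : cs(y) = m) :
    Nat.card G = m * n := by rw [← cs_mul_card_cent y, hy, (h.card_b hA hz hy).2]

theorem card_a (h : Rk3 G m k n) (hA : Ab G n) {z y x : G} (hz : cs(z) = n) (hy : cs(y) = m)
    (hx : cs(x) = m * k) : k * Nat.card cent(x) = n :=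
  Nat.eq_of_mul_eq_mul_left (zero_lt_one.trans h.hm) (by
    rw [← mul_assoc, ← hx, cs_mul_card_cent, h.card_G hA hz hy])

/-- elements whose order is divisible by a prime divisor of `n` -/
theorem not_c (h : Rk3 G m k n) (hA : Ab G n) {y u : G} (hy : cs(y) = m) {l : ℕ} (hl : l.Prime)
    (hd : l ∣ n) (hu : IsPiElt {l} u) (hu1 : u ≠ 1) : cs(u) = m ∨ cs(u) = m * k := by
  refine (or_assoc.2 (h.tri u hu1)).resolve_right fun e => hu1 (hu.eq_one fun p hp h1 h2 => ?_)
  obtain rfl : p = l := h2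
  exact hp.one_lt.ne' (Nat.eq_one_of_dvd_coprimes h.cop
    ((h.card_b hA e hy).1 ▸ h1.trans (orderOf_dvd_natCard _ (self_mem_cent u))) hd)

/-- elements whose order is divisible by a prime divisor of `m` -/
theorem is_c (h : Rk3 G m k n) (hA : Ab G n) {z y u : G} (hz : cs(z) = n) (hy : cs(y) = m) {l : ℕ}
    (hd : ¬ l ∣ n) (hu : IsPiElt {l} u) (hu1 : u ≠ 1) : cs(u) = n := by
  by_contra hc
  refine hu1 (hu.eq_one fun p hp h1 h2 => hd ?_)
  obtain rfl : p = l := h2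
  refine (h1.trans (orderOf_dvd_natCard _ (self_mem_cent u))).trans ?_
  rcases (or_assoc.2 (h.tri u hu1)).resolve_right hc with e | e
  · rw [(h.card_b hA hz e).2]
  · exact Dvd.intro_left _ (h.card_a hA hz hy e)

theorem isSolvable_of_normal (h : Rk3 G m k n) (hA : Ab G n) {z y : G} (hz : cs(z) = n)
    (hy : cs(y) = m) {l r : ℕ} (hk : ∀ p : ℕ, p.Prime → p ∣ k → p = l) (hr : r.Prime) (hrl : r ≠ l)
    (hV : pCore r G ≠ ⊥) : Group.IsSolvable G := by
  haveI := Fact.mk hr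
  obtain ⟨⟨v, hv⟩, hv1⟩ := ne_bot_iff_exists_ne_one.1 hV
  have hv1 : v ≠ 1 := fun e => hv1 (Subtype.ext e)
  have hle : centralizer (pCore r G : Set G) ≤ cent(v) := centralizer_le (by simpa using hv)
  haveI := h.solv hv1
  have hK : Group.IsSolvable (centralizer (pCore r G : Set G)) :=
    Group.isSolvable_of_isSolvable_injective (inclusion_injective hle)
  have key : ∀ u : G, ¬ r ∣ cs(u) → u ∈ centralizer (pCore r G : Set G) := fun u hu => by
    obtain ⟨P, hP⟩ := not_dvd_cs_iff.1 hu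
    exact fun a ha => mem_cent.1 (hP (pCore_le_sylow P ha))
  by_cases hd : r ∣ n
  · refine ito_isSolvable_of_coprime hK (h.solv (ne_one h.hn hz)) (Nat.coprime_of_dvd
      fun p hp h1 => ?_)
    haveI := Fact.mk hp
    refine not_dvd_index_of_forall fun u hu => ?_
    by_cases hu1 : u = 1
    · exact hu1 ▸ one_mem _
    have h2 : ¬ r ∣ m := fun e => hr.one_lt.ne' (Nat.eq_one_of_dvd_coprimes h.cop e hd)
    refine key u ?_
    rcases h.not_c hA hy hp (hz ▸ h1) hu hu1 with e | e <;> rw [e]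
    · exact h2
    · exact fun e => (hr.dvd_mul.1 e).elim h2 fun e => hrl (hk r hr e)
  · refine ito_isSolvable_of_coprime hK (h.solv (ne_one h.hm hy)) (Nat.coprime_of_dvd
      fun p hp h1 => ?_)
    haveI := Fact.mk hp
    refine not_dvd_index_of_forall fun u hu => ?_
    by_cases hu1 : u = 1
    · exact hu1 ▸ one_mem _
    refine key u ?_
    rwa [h.is_c hA hz hy (fun e => hp.one_lt.ne' (Nat.eq_one_of_dvd_coprimes h.cop (hy ▸ h1) e))
      hu hu1]

theorem isSolvable_of_fitting (h : Rk3 G m k n) (hA : Ab G n) {z y : G} (hz : cs(z) = n)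
    (hy : cs(y) = m) (hy2 : orderOf y = 2) {l : ℕ} (hl : l.Prime) (hln : l ∣ n)
    (hk : ∀ p : ℕ, p.Prime → p ∣ k → p = l) {N : Subgroup G} [N.Normal] (hN : N ≠ ⊥)
    (hNs : Group.IsSolvable N) : Group.IsSolvable G := by
  by_contra hG
  have h0 : ∀ r : ℕ, r.Prime → r ≠ l → pCore r G = ⊥ := fun r hr hrl => by
    by_contra hV
    exact hG (h.isSolvable_of_normal hA hz hy hk hr hrl hV)
  haveI := Fact.mk hl
  have hF : fittingSubgroup G = pCore l G := by
    rw [fittingSubgroup_eq_iSup_pCore]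
    refine le_antisymm (iSup_le fun p => ?_) (le_iSup_of_le (⟨l, hl⟩ : Nat.Primes) le_rfl)
    by_cases e : (p : ℕ) = l
    · rw [e]
    · rw [h0 p p.2 e]; exact bot_le
  have hV : pCore l G ≠ ⊥ := fun e => by
    obtain ⟨M, p, hp, h1, -, h2⟩ := exists_isMinNormal_isElementaryAbelian_le N hN hNs
    haveI := h1.normal
    haveI := Fact.mk hp
    refine h1.ne_bot (le_bot_iff.1 ((le_pCore (fun g => ⟨1, Subtype.ext (by simpa using h2.2 g g.2)⟩ : IsPGroup p M)).trans ?_))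
    by_cases e' : p = l
    · rw [e', e]
    · rw [h0 p hp e']
  obtain ⟨⟨v, hv⟩, hv1⟩ := ne_bot_iff_exists_ne_one.1 hV
  have hv1 : v ≠ 1 := fun e => hv1 (Subtype.ext e)
  have hle : centralizer (pCore l G : Set G) ≤ cent(v) := centralizer_le (by simpa using hv)
  haveI := h.solv hv1
  have hC : ∀ u ∈ centralizer (pCore l G : Set G), u ∈ pCore l G := by
    rw [← hF] at hle ⊢
    exact le_fittingSubgroup_of_isSolvable_of_le_centralizer
      (Group.isSolvable_of_isSolvable_injective (inclusion_injective hle)) le_rfl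
  have hb : ∀ u : G, cs(u) = m → u ∈ pCore l G := fun u hu => by
    obtain ⟨P, hP⟩ := not_dvd_cs_iff.1 (show ¬ l ∣ cs(u) from fun e =>
      hl.one_lt.ne' (Nat.eq_one_of_dvd_coprimes h.cop (hu ▸ e) hln))
    exact hC u fun a ha => mem_cent.1 (hP (pCore_le_sylow P ha))
  obtain rfl : 2 = l :=
    isPiElt_singleton_of_mem (pCore_isPGroup l G) (hb y hy) 2 Nat.prime_two (hy2 ▸ dvd_rfl)
  by_cases hq : ∃ q : ℕ, q.Prime ∧ q ∣ n ∧ q ≠ 2
  · obtain ⟨q, hq, hqn, hq2⟩ := hq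
    obtain ⟨S⟩ : Nonempty (Sylow 2 G) := inferInstance
    have hS : (S : Subgroup G) = pCore 2 G := le_antisymm (fun x hx => ?_) (pCore_le_sylow S)
    · exact hG (isSolvable_of_sylow_normal S (hS ▸ inferInstance))
    by_cases hx1 : x = 1
    · exact hx1 ▸ one_mem _
    have hx2 := isPiElt_singleton_of_mem S.isPGroup' hx
    rcases h.not_c hA hy hl hln hx2 hx1 with e | e
    · exact hb x e
    exfalso
    obtain ⟨u, hu, h1, h2⟩ := ito_exists_elt hq (H := cent(x))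
      ((hq.dvd_mul.1 (h.card_a hA hz hy e ▸ hqn)).resolve_left fun e => hq2 (hk q hq e))
    have h3 := h.Ta e hu (ito_coprime hq2.symm hx2 h1)
    have h4 := Cfsg.Agent.S0028.result 2 (zpowers x) (zpowers u) (pCore 2 G) hx2.isPGroup_zpowers
      (by rw [Nat.card_zpowers]; exact (isPiElt_compl_singleton_iff_coprime hl).1 (ito_ne hq2 h1))
      (pCore_isPGroup 2 G) (by rw [centralizer_zpowers, zpowers_le]; exact mem_cent_comm.1 hu)
      le_normalizer_of_normal le_normalizer_of_normal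
      (by rw [centralizer_zpowers, centralizer_zpowers]; exact inf_le_right.trans h3)
    exact h2 ((isPiElt_singleton_of_mem (pCore_isPGroup 2 G) (hC u (h4 (mem_zpowers u)))).eq_one
      (ito_ne hq2 h1))
  push Not at hq
  refine hG (isSolvable_of_pRegular_isPP hl G fun w hw => ?_)
  by_cases hw1 : w = 1
  · exact ⟨2, 0, hl, by rw [hw1, cs_one, pow_zero]⟩
  obtain ⟨j, hj⟩ := (isPiNum_singleton_iff hl (h.hn.trans' zero_lt_one).ne').1 hq
  obtain ⟨r, hr, hr', h3⟩ := ito_exists_primary (H := ⊥) (u := w) hw1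
  have h4 := h.is_c hA hz hy (fun e => hw r hr hr' (hq r hr e)) (isPiElt_piPart {r} w) h3
  exact ⟨2, j, hl, (h.CC' hA h4 (cent_le_piPart {r} w (self_mem_cent w)) hw1).trans hj⟩

theorem abCent (h : Rk3 G m k n) (hA : Ab G n) (hG : ¬ Group.IsSolvable G) {z x y : G}
    (hz : cs(z) = n) (hx : cs(x) = m * k) (hy : cs(y) = m) {l : ℕ} (hl : l.Prime)
    (hk : ∀ p : ℕ, p.Prime → p ∣ k → p ∣ m ∨ p = l) : AbCent G := by
  have hkn : k ∣ n := Dvd.intro _ (h.card_a hA hz hy hx)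
  replace hk : ∀ p : ℕ, p.Prime → p ∣ k → p = l := fun p hp hd => (hk p hp hd).resolve_left
    fun e => hp.one_lt.ne' (Nat.eq_one_of_dvd_coprimes h.cop e (hd.trans hkn))
  have hln : l ∣ n := by
    obtain ⟨p, hp, hd⟩ := Nat.exists_prime_and_dvd h.hk.ne'
    exact hk p hp hd ▸ hd.trans hkn
  by_cases h2 : 2 ∣ n
  swap
  · intro t a b ht ha hb
    obtain ⟨h3, h4⟩ := ito_piElt_of_orderOf Nat.prime_two ht
    exact mem_cent'.1 (hA t (h.is_c hA hz hy h2 h3 h4) a (mem_cent.2 ha) (mem_cent.2 hb))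
  by_cases hb : ∃ t : G, orderOf t = 2 ∧ cs(t) = m
  · exfalso
    obtain ⟨t, ht, ht'⟩ := hb
    have h3 := h.card_b hA hz ht'
    rcases ito_char (H := cent(z)) (z := t) (fun g hg hg1 => h.CC hA hz hg hg1)
      (fun e => ne_one h.hn hz (mem_bot.1 (e ▸ self_mem_cent z))) (ht'.trans h3.1.symm)
      (fun g a ha ha' => orderOf_eq_one_iff.1 (Nat.eq_one_of_dvd_coprimes h.cop
        (h3.1 ▸ orderOf_dvd_natCard _ ha) (by
          have := h3.2 ▸ orderOf_dvd_natCard _ ha'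
          rwa [← orderOf_conj' g, ← mul_assoc, ← mul_assoc, mul_inv_cancel, one_mul,
            mul_inv_cancel_right] at this))) with e | e
    · obtain ⟨A, h4, h5, h6⟩ := exists_abelian_normal_of_isolated ⟨ht, e⟩
      exact hG (h.isSolvable_of_fitting hA hz ht' ht hl hln hk h5
        (Group.isSolvable_of_comm fun a b => mul_comm' a b))
    · haveI := h.solv (ne_one h.hm ht')
      refine hG (h.isSolvable_of_fitting hA hz ht' ht hl hln hk (N := (cent(t)).normalCore)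
        (fun e' => ne_one h.hm ht' (mem_bot.1 (h.hZ ▸ mem_center_iff.2 fun g => ?_)))
        (Group.isSolvable_of_isSolvable_injective (inclusion_injective (normalCore_le _))))
      exact (commutatorElement_eq_one_iff_mul_comm.1 (mem_bot.1 (e' ▸ fun b => by
        simpa using e g b⁻¹))).symm
  push Not at hb
  have key : ∀ u : G, IsPiElt {2} u → u ≠ 1 → cs(u) = m * k := fun u hu hu1 =>
    (h.not_c hA hy Nat.prime_two h2 hu hu1).resolve_left fun e => by
      obtain ⟨t, h4, h3, -⟩ : ∃ t ∈ zpowers u, orderOf t = 2 ∧ zpowers u ≤ cent(t) :=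
        ito_exists_central hu.isPGroup_zpowers (by simpa using hu1)
      exact hb t h3 (by
        rw [← e]
        exact congrArg Subgroup.index (h.Mb u t e (ito_piElt_of_orderOf Nat.prime_two h3).2
          (cent_le_of_mem_zpowers h4)).symm)
  refine ito_abCent (fun u v hu hv hu1 hv1 hle => cent_eq_of_le_of_cs_le hle
    (by rw [key u hu hu1, key v hv hv1])) fun t ht u hu hu' => ?_
  obtain ⟨h3, h4⟩ := ito_piElt_of_orderOf Nat.prime_two ht
  exact h.Ta (key t h3 h4) hu (h3.coprime hu')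

end Rk3

/-- centreless non-solvable groups with at most three non-trivial class sizes -/
theorem abCent_of_rank_three {G : Type*} [Group G] [Finite G] (hZ : center G = ⊥)
    (hG : ¬ Group.IsSolvable G) (h : {n : ℕ | 1 < n ∧ ∃ x : G, cs(x) = n}.ncard ≤ 3) :
    AbCent G := by
  have hc : ∀ {x : G}, x ∉ center G ↔ x ≠ 1 := by simp [hZ]
  by_cases hF : ∀ x y : G, x ∉ center G → y ∉ center G → cent(x) ≤ cent(y) → cent(x) = cent(y)
  · exact ito_abCent (fun u v _ _ hu hv => hF u v (hc.2 hu) (hc.2 hv)) fun t ht u hu hu' =>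
      ito_le_of_F hF (hc.2 (ito_piElt_of_orderOf Nat.prime_two ht).2) hu
        ((ito_piElt_of_orderOf Nat.prime_two ht).1.coprime hu')
  push Not at hF
  obtain ⟨x, y, hx, hy, hle, hne⟩ := hF
  obtain ⟨k, hk⟩ := cs_dvd_of_le hle
  have hm := one_lt_cs hy
  have hk1 : 1 < k := by
    have h1 := cs_ne_zero x
    have h2 : k ≠ 1 := fun e => hne (cent_eq_of_le_of_cs_le hle (by rw [hk, e, mul_one]))
    have h3 : k ≠ 0 := fun e => h1 (by rw [hk, e, mul_zero])
    omega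
  have hlt : cs(y) < cs(x) := hk ▸ lt_mul_of_one_lt_right (cs_pos y) hk1
  have key : ∀ p : ℕ, p.Prime → p ∣ cs(y) → ∃ z : G, z ≠ 1 ∧ ¬ p ∣ cs(z) := fun p hp hd => by
    haveI := Fact.mk hp
    obtain ⟨P⟩ : Nonempty (Sylow p G) := inferInstance
    obtain ⟨z, -, h1, h2⟩ := ito_exists_central P.isPGroup'
      (ito_sylow_ne_bot (hd.trans (cs_dvd_card y)) P)
    exact ⟨z, (ito_piElt_of_orderOf hp h1).2, not_dvd_cs_iff.2 ⟨P, h2⟩⟩
  obtain ⟨p, hp, hd⟩ := Nat.exists_prime_and_dvd hm.ne'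
  obtain ⟨z, hz1, hz⟩ := key p hp hd
  have h1 : cs(z) ≠ cs(y) := fun e => hz (e ▸ hd)
  have h2 : cs(z) ≠ cs(x) := fun e => hz (e ▸ hd.trans (cs_dvd_of_le hle))
  have hfin : {n : ℕ | 1 < n ∧ ∃ x : G, cs(x) = n}.Finite :=
    (Set.finite_range fun x : G => cs(x)).subset fun n hn => hn.2
  have h3 : ({cs(y), cs(x), cs(z)} : Set ℕ) = {n : ℕ | 1 < n ∧ ∃ x : G, cs(x) = n} := by
    refine Set.eq_of_subset_of_ncard_le ?_ (h.trans (Set.ncard_eq_three.2
      ⟨_, _, _, hlt.ne, h1.symm, h2.symm, rfl⟩).ge) hfin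
    rintro n (rfl | rfl | rfl)
    exacts [⟨hm, y, rfl⟩, ⟨one_lt_cs hx, x, rfl⟩, ⟨one_lt_cs (hc.2 hz1), z, rfl⟩]
  have tri : ∀ w : G, w ≠ 1 → cs(w) = cs(y) ∨ cs(w) = cs(y) * k ∨ cs(w) = cs(z) := fun w hw => by
    rw [← hk]
    exact h3.ge ⟨one_lt_cs (hc.2 hw), w, rfl⟩
  have H : Rk3 G cs(y) k cs(z) := ⟨hZ, hk1, hm, one_lt_cs (hc.2 hz1), Nat.coprime_of_dvd
    fun q hq hd' e => by
      obtain ⟨w, hw1, hw⟩ := key q hq hd'
      rcases tri w hw1 with e' | e' | e' <;> rw [e'] at hw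
      exacts [hw hd', hw (hd'.mul_right k), hw e], tri⟩
  obtain ⟨l, hl, hkl⟩ := H.exists_prime rfl (lt_of_le_of_ne hle hne)
  by_cases h4 : ∀ q : ℕ, q.Prime → q ∣ cs(y) → q = p
  · exact absurd (H.isSolvable_of_pow rfl hp hl h4 hkl) hG
  push Not at h4
  obtain ⟨q, hq, h5, h6⟩ := h4
  exact H.abCent (H.ab rfl hq hp h6 h5 hd) hG rfl hk rfl hl hkl

end CL.Cit
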