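/-
Class sizes (helper95): the set of non-trivial class sizes.
-/
import Cfsg.Agent.Cit.Ito7
import Cfsg.Agent.Known.PSL2Classes
import Cfsg.Agent.Cls.SLnBasic
import Cfsg.Agent.Cls.SL2Sub

namespace CL.Cit

open Subgroup Cfsg CL.Grp CL.Fgs
open scoped MatrixGroups

variable {G : Type*} [Group G]

theorem ito_rankSet_eq : {m : ℕ | ∃ x : G, x ∉ center G ∧ m = cs(x)} =
    Set.range (fun x : G => cs(x)) \ {1} := by
  ext m
  constructor
  · rintro ⟨x, hx, rfl⟩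
    exact ⟨⟨x, rfl⟩, fun e => hx (cs_eq_one_iff.1 e)⟩
  · rintro ⟨⟨x, rfl⟩, hx⟩
    exact ⟨x, fun e => hx (cs_eq_one_iff.2 e), rfl⟩

theorem ito_rankSet_eq' [Finite G] : {n : ℕ | 1 < n ∧ ∃ x : G, cs(x) = n} =
    {m : ℕ | ∃ x : G, x ∉ center G ∧ m = cs(x)} := by
  ext m
  constructor
  · rintro ⟨h, x, rfl⟩
    exact ⟨x, fun e => h.ne' (cs_eq_one_iff.2 e), rfl⟩
  · rintro ⟨x, hx, rfl⟩
    exact ⟨one_lt_cs hx, x, rfl⟩

theorem ito_range_cs_equiv {G' : Type*} [Group G'] (e : G ≃* G') :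
    Set.range (fun x : G => cs(x)) = Set.range (fun x : G' => cs(x)) := by
  ext m
  constructor
  · rintro ⟨x, rfl⟩
    exact ⟨e x, cs_map_equiv e x⟩
  · rintro ⟨x, rfl⟩
    exact ⟨e.symm x, cs_map_equiv e.symm x⟩

theorem ito_simple_of_equiv {F : Type*} [Field F] [Fintype F] (h : 4 ≤ Fintype.card F)
    (e : G ≃* PSL(2, F)) : IsSimpleGroup G ∧ ¬ IsMulCommutative G := by
  haveI := CL.SLn.isSimpleGroup_PSL_fin (F := F) 2 le_rfl fun _ => h
  exact ⟨e.isSimpleGroup, fun hc => CL.SL2.psl_not_comm (F := F) ⟨⟨fun a b => e.symm.injective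
    (by rw [map_mul, map_mul, hc.is_comm.comm])⟩⟩⟩

theorem ito_center_eq_bot [IsSimpleGroup G] (h : ¬ IsMulCommutative G) : center G = ⊥ :=
  (IsSimpleGroup.eq_bot_or_eq_top_of_normal _ inferInstance).resolve_right fun e =>
    h ⟨⟨fun a b => mem_center_iff.1 (e.ge (mem_top b)) a⟩⟩

theorem ito_not_solvable [IsSimpleGroup G] (h : ¬ IsMulCommutative G) : ¬ Group.IsSolvable G :=
  fun hs => h ⟨⟨IsSimpleGroup.comm_iff_isSolvable.2 hs⟩⟩

end CL.Cit
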