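/-
Martineau's theorem, part 1: functions on a Suzuki group that sum to zero over the cosets of the cyclic subgroups of
odd order (`Rel`).  Highest weight functions (`hw`) and the exclusion of exponent four (`exp_two`).
-/
import Cfsg.Agent.Chev.SzCard
import Cfsg.Agent.Perm.Module

set_option autoImplicit false

open CL.Chev.Sz Finset

namespace CL.Cit.Mart

variable {Γ : Type*} [Group Γ] {K : Type*} [Field K]

/-- `F` sums to zero over the translates of the nontrivial cyclic subgroups of odd order -/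
def Rel {A : Type*} [AddCommMonoid A] (F : Γ → A) : Prop :=
  ∀ y : Γ, y ≠ 1 → Odd (orderOf y) → ∀ g g' : Γ, ∑ k ∈ range (orderOf y), F (g * y ^ k * g') = 0

section Rel
variable {A B : Type*} [AddCommMonoid A] [AddCommMonoid B] {F : Γ → A}

theorem Rel.left (h : Rel F) (a : Γ) : Rel fun g => F (a * g) := fun y h1 h2 g g' => by
  simpa only [mul_assoc] using h y h1 h2 (a * g) g'

theorem Rel.right (h : Rel F) (a : Γ) : Rel fun g => F (g * a) := fun y h1 h2 g g' => by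
  simpa only [mul_assoc] using h y h1 h2 g (g' * a)

theorem Rel.inv (h : Rel F) : Rel fun g => F g⁻¹ := fun y h1 h2 g g' => by
  have := h y⁻¹ (inv_ne_one.2 h1) (by rwa [orderOf_inv]) g'⁻¹ g⁻¹
  rw [orderOf_inv] at this
  simpa only [mul_inv_rev, inv_pow, mul_assoc] using this

theorem Rel.map (h : Rel F) (μ : A →+ B) : Rel fun g => μ (F g) := fun y h1 h2 g g' => by
  rw [← map_sum, h y h1 h2, map_zero]

end Rel

/-- the functions with `Rel` -/
def relSub (Γ K : Type*) [Group Γ] [Field K] : Submodule K (Γ → K) where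
  carrier := {F | Rel F}
  add_mem' := fun {F F'} h h' y h1 h2 g g' => by
    simp only [Pi.add_apply, sum_add_distrib, h y h1 h2, h' y h1 h2, add_zero]
  zero_mem' := fun y h1 h2 g g' => by simp
  smul_mem' := fun c F h y h1 h2 g g' => by
    simp only [Pi.smul_apply, smul_eq_mul, ← mul_sum, h y h1 h2, mul_zero]

variable (M : Model Γ K)

/-- an element of order five -/
noncomputable def x5 : Γ := M.w * M.T 0 1

theorem ρ_x5 : M.ρ (x5 M) = !![0, 0, 0, 1; 0, 0, 1, 0; 0, 1, 0, 1; 1, 0, 1, 1] := by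
  rw [x5, map_mul, M.ρ_w, M.ρ_T]
  ext i j
  fin_cases i <;> fin_cases j <;> simp [Tits.Wm, Tits.Tm, Tits.f, Matrix.mul_apply, Fin.sum_univ_four]

theorem ρ_x5_pow : M.ρ (x5 M ^ 2) = !![1, 0, 1, 1; 0, 1, 0, 1; 1, 0, 0, 1; 1, 1, 1, 1] ∧
    M.ρ (x5 M ^ 3) = !![1, 1, 1, 1; 1, 0, 0, 1; 1, 0, 1, 0; 1, 1, 0, 1] ∧
    M.ρ (x5 M ^ 4) = !![1, 1, 0, 1; 1, 0, 1, 0; 0, 1, 0, 0; 1, 0, 0, 0] ∧ x5 M ^ 5 = 1 := by
  have := M.toTits.charP
  have h2 : M.ρ (x5 M ^ 2) = !![1, 0, 1, 1; 0, 1, 0, 1; 1, 0, 0, 1; 1, 1, 1, 1] := by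
    rw [pow_succ', pow_one, map_mul, ρ_x5]
    ext i j
    fin_cases i <;> fin_cases j <;> simp [Matrix.mul_apply, Fin.sum_univ_four, CharTwo.add_self_eq_zero]
  have h3 : M.ρ (x5 M ^ 3) = !![1, 1, 1, 1; 1, 0, 0, 1; 1, 0, 1, 0; 1, 1, 0, 1] := by
    rw [pow_succ', map_mul, ρ_x5, h2]
    ext i j
    fin_cases i <;> fin_cases j <;> simp [Matrix.mul_apply, Fin.sum_univ_four, CharTwo.add_self_eq_zero]
  have h4 : M.ρ (x5 M ^ 4) = !![1, 1, 0, 1; 1, 0, 1, 0; 0, 1, 0, 0; 1, 0, 0, 0] := by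
    rw [pow_succ', map_mul, ρ_x5, h3]
    ext i j
    fin_cases i <;> fin_cases j <;> simp [Matrix.mul_apply, Fin.sum_univ_four, CharTwo.add_self_eq_zero]
  refine ⟨h2, h3, h4, M.inj ?_⟩
  rw [pow_succ', map_mul, ρ_x5, h4, map_one]
  ext i j
  fin_cases i <;> fin_cases j <;> simp [Matrix.mul_apply, Fin.sum_univ_four, CharTwo.add_self_eq_zero]

theorem x5_ne_one : x5 M ≠ 1 := fun h => by
  have := congrFun (congrFun (ρ_x5 M) 0) 0
  rw [h, map_one] at this
  simp at this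

theorem Rel.x {A : Type*} [AddCommMonoid A] {F : Γ → A} (h : Rel F) (g : Γ) :
    F g + F (g * x5 M) + F (g * x5 M ^ 2) + F (g * x5 M ^ 3) + F (g * x5 M ^ 4) = 0 := by
  have : Fact (Nat.Prime 5) := ⟨by norm_num⟩
  have h5 : orderOf (x5 M) = 5 := orderOf_eq_prime (ρ_x5_pow M).2.2.2 (x5_ne_one M)
  have := h (x5 M) (x5_ne_one M) (by rw [h5]; decide) g 1
  simpa [h5, sum_range_succ] using this

include M in
theorem odd_card_units [Fintype Kˣ] : Odd (Fintype.card Kˣ) := by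
  rw [← Nat.not_even_iff_odd, even_iff_two_dvd]
  intro h
  have : Fact (Nat.Prime 2) := ⟨Nat.prime_two⟩
  obtain ⟨c, hc⟩ := exists_prime_orderOf_dvd_card 2 h
  have : c = 1 := M.toTits.unit_sq_eq_one (by rw [← sq, ← hc, pow_orderOf_eq_one])
  rw [this, orderOf_one] at hc
  omega

include M in
theorem cast_card_units [Fintype Kˣ] : (Fintype.card Kˣ : K) = 1 := by
  obtain ⟨n, hn⟩ := odd_card_units M
  rw [hn]
  push_cast
  rw [M.two, zero_mul, zero_add]

theorem Rel.D [Fintype Kˣ] {A : Type*} [AddCommMonoid A] {F : Γ → A} (h : Rel F) (g g' : Γ) :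
    ∑ c : Kˣ, F (g * M.D c * g') = 0 := by
  classical
  obtain ⟨c, hc⟩ := IsCyclic.exists_generator (α := Kˣ)
  have ho : orderOf c = Fintype.card Kˣ := by
    rw [orderOf_eq_card_of_forall_mem_zpowers hc, Nat.card_eq_fintype_card]
  have hc1 : c ≠ 1 := by
    rintro rfl
    obtain ⟨d, hd⟩ := M.toTits.exists_unit_ne_one
    exact hd (by simpa using hc d)
  have := h (M.D c) (fun e => hc1 (M.D_eq_one.1 e)) (by rw [M.orderOf_D, ho]; exact odd_card_units M) g g'
  rw [M.orderOf_D] at this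
  rw [← this]
  symm
  refine sum_bij (fun k _ => c ^ k) (fun _ _ => mem_univ _) ?_ ?_ (fun k _ => by rw [map_pow])
  · intro a ha b hb e
    exact pow_injOn_Iio_orderOf (mem_range.1 ha) (mem_range.1 hb) e
  · intro d _
    obtain ⟨k, hk, e⟩ := mem_image.1 ((mem_zpowers_iff_mem_range_orderOf (x := c) (y := d)).1 (hc d))
    exact ⟨k, hk, e⟩

/-- Bruhat decomposition together with the lower left matrix entry -/
theorem bruhat (g : Γ) : (M.ρ g 3 0 = 0 ∧ ∃ a b c, g = M.T a b * M.D c) ∨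
    ∃ x y a b, ∃ c : Kˣ, g = M.T x y * M.w * M.T a b * M.D c ∧ M.ρ g 3 0 = M.σ c * c := by
  by_cases h : g • M.inf = M.inf
  · obtain ⟨a, b, c, rfl⟩ := M.eq_TD_of_fix h
    refine Or.inl ⟨?_, a, b, c, rfl⟩
    simp [map_mul, M.ρ_T, M.ρ_D, Tits.Tm, Tits.Dm, Matrix.mul_apply, Fin.sum_univ_four]
  · obtain ⟨x, y, a, b, c, rfl⟩ := M.eq_TwTD_of_not_fix h
    refine Or.inr ⟨x, y, a, b, c, by rw [mul_assoc (_ * _)], ?_⟩
    simp [map_mul, M.ρ_T, M.ρ_D, M.ρ_w, Tits.Tm, Tits.Dm, Tits.Wm, Matrix.mul_apply, Fin.sum_univ_four]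

include M in
/-- an eigenvector of the multiplicative group -/
theorem exists_eigen_units [Fintype Kˣ] {V : Type*} [AddCommGroup V] [Module K V] (R : Kˣ →* Module.End K V)
    (W : Submodule K V) (hW : W ≠ ⊥) (hinv : ∀ c, ∀ v ∈ W, R c v ∈ W) :
    ∃ v ∈ W, v ≠ 0 ∧ ∃ β : Kˣ →* K, ∀ c, R c v = β c • v := by
  obtain ⟨v, hv, h0⟩ := W.exists_mem_ne_zero_of_ne_bot hW
  let β : ℕ → (Kˣ →* K) := fun k => (Units.coeHom K).comp (powMonoidHom k)
  let P : ℕ → V := fun k => ∑ c : Kˣ, β k c⁻¹ • R c v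
  have hs : ∑ k ∈ range (Fintype.card Kˣ), P k = v := by
    rw [sum_comm, sum_eq_single 1]
    · simp [β, ← Nat.cast_smul_eq_nsmul K, cast_card_units M]
    · intro c _ hc
      rw [← sum_smul]
      have h1 : ((c⁻¹ : Kˣ) : K) ≠ 1 := fun e => hc (inv_eq_one.1 (Units.ext e))
      have h2 : ∑ k ∈ range (Fintype.card Kˣ), β k c⁻¹ = 0 := by
        have := geom_sum_eq h1 (Fintype.card Kˣ)
        rw [← Units.val_pow_eq_pow_val, pow_card_eq_one, Units.val_one, sub_self, zero_div] at this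
        simpa [β] using this
      rw [h2, zero_smul]
    · simp
  obtain ⟨k, -, hk⟩ := exists_ne_zero_of_sum_ne_zero (hs ▸ h0 : ∑ k ∈ range (Fintype.card Kˣ), P k ≠ 0)
  refine ⟨P k, W.sum_mem fun c _ => W.smul_mem _ (hinv c v hv), hk, β k, fun d => ?_⟩
  simp only [P, map_sum, map_smul, smul_sum, smul_smul, ← map_mul, ← Module.End.mul_apply]
  refine Fintype.sum_equiv (Equiv.mulLeft d) _ _ fun c => ?_
  simp [mul_comm d c]

/-- the representation on functions defined by a right action -/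
def tr {S : Type*} (K : Type*) [Field K] (θ : Γ → S → S) (h1 : ∀ s, θ 1 s = s)
    (hm : ∀ g h s, θ (g * h) s = θ h (θ g s)) : Γ →* Module.End K (S → K) where
  toFun g := LinearMap.funLeft K K (θ g)
  map_one' := LinearMap.ext fun F => funext fun s => congrArg F (h1 s)
  map_mul' g h := LinearMap.ext fun F => funext fun s => congrArg F (hm g h s)

theorem exists_fixed [Finite K] {S : Type*} (θ : Γ → S → S) (h1 : ∀ s, θ 1 s = s)
    (hm : ∀ g h s, θ (g * h) s = θ h (θ g s)) (E : Submodule K (S → K)) (hE : E ≠ ⊥)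
    (hinv : ∀ g, ∀ F ∈ E, (fun s => F (θ g s)) ∈ E) :
    ∃ F ∈ E, F ≠ 0 ∧ ∀ u ∈ M.U, ∀ s, F (θ u s) = F s := by
  have := M.finite
  have := M.toTits.charP
  have : Fact (Nat.Prime 2) := ⟨Nat.prime_two⟩
  obtain ⟨F, hF, h0, hU⟩ := CL.Perm.exists_ne_zero_fixed_of_isPGroup M.isPGroup_U
    ((tr K θ h1 hm).comp M.U.subtype) E (fun g F hF => hinv g F hF) hE
  exact ⟨F, hF, h0, fun u hu s => congrFun (hU ⟨u, hu⟩) s⟩

/-- a `U`-fixed eigenfunction of the torus -/
theorem exists_eigen [Finite K] {S : Type*} (θ : Γ → S → S) (h1 : ∀ s, θ 1 s = s)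
    (hm : ∀ g h s, θ (g * h) s = θ h (θ g s)) (E : Submodule K (S → K)) (hE : E ≠ ⊥)
    (hinv : ∀ g, ∀ F ∈ E, (fun s => F (θ g s)) ∈ E) :
    ∃ F ∈ E, F ≠ 0 ∧ ∃ β : Kˣ →* K, (∀ u ∈ M.U, ∀ s, F (θ u s) = F s) ∧ ∀ c s, F (θ (M.D c) s) = β c * F s := by
  have := Fintype.ofFinite Kˣ
  let W : Submodule K (S → K) :=
    { carrier := {F | F ∈ E ∧ ∀ u ∈ M.U, ∀ s, F (θ u s) = F s}
      add_mem' := fun {F F'} h h' => ⟨E.add_mem h.1 h'.1, fun u hu s => by simp [h.2 u hu, h'.2 u hu]⟩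
      zero_mem' := ⟨E.zero_mem, fun _ _ _ => rfl⟩
      smul_mem' := fun c F h => ⟨E.smul_mem c h.1, fun u hu s => by simp [h.2 u hu]⟩ }
  obtain ⟨F, hF, h0, hU⟩ := exists_fixed M θ h1 hm E hE hinv
  obtain ⟨F', hF', h0', β, hβ⟩ := exists_eigen_units M ((tr K θ h1 hm).comp M.D) W
    (W.ne_bot_iff.2 ⟨F, ⟨hF, hU⟩, h0⟩) fun c F hF => ⟨hinv _ F hF.1, fun u hu s => by
      change F (θ (M.D c) (θ u s)) = F (θ (M.D c) s)
      have := hF.2 _ (M.conj_mem_U (M.D_mem_B c⁻¹) hu) (θ (M.D c) s)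
      rw [← this, ← hm, ← hm, map_inv]
      congr 2
      group⟩
  exact ⟨F', hF'.1, h0', β, hF'.2, fun c s => congrFun (hβ c) s⟩

/-- right `U`-invariant with right character `β` of the torus -/
def RInv (β : Kˣ →* K) (F : Γ → K) : Prop :=
  (∀ u ∈ M.U, ∀ g, F (g * u) = F g) ∧ ∀ c g, F (g * M.D c) = β c * F g

/-- Highest weight functions. -/
theorem hw [Finite K] {β : Kˣ →* K} (E : Submodule K (Γ → K)) (hE : E ≠ ⊥)
    (hL : ∀ g, ∀ F ∈ E, (fun s => F (g * s)) ∈ E) (hR : ∀ F ∈ E, Rel F ∧ RInv M β F) :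
    ∃ κ : K →+* K, (∀ c : Kˣ, β c = κ (M.σ c * c)) ∧ (fun g => κ (M.ρ g 3 0)) ∈ E := by
  classical
  have := M.toTits.charP
  obtain ⟨F, hF, h0, hU⟩ := exists_fixed M (fun g s => g⁻¹ * s) (by simp) (by simp [mul_assoc]) E hE
    fun g F hF => hL _ F hF
  obtain ⟨hrel, hr, hβ⟩ := hR F hF
  have hl : ∀ x y g, F (M.T x y * g) = F g := fun x y g => by
    simpa using hU _ (M.U.inv_mem (M.T_mem_U x y)) g
  have key : ∀ g, (M.ρ g 3 0 = 0 ∧ ∃ c, F g = β c * F 1) ∨
      ∃ c : Kˣ, M.ρ g 3 0 = M.σ c * c ∧ F g = β c * F M.w := by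
    intro g
    rcases bruhat M g with ⟨h, a, b, c, rfl⟩ | ⟨x, y, a, b, c, rfl, h⟩
    · exact Or.inl ⟨h, c, by rw [hβ, ← hl a b 1, mul_one]⟩
    · exact Or.inr ⟨c, h, by rw [hβ, hr _ (M.T_mem_U a b), hl]⟩
  have hone : ∀ g, M.ρ g 3 0 = 1 → F g = F M.w := by
    intro g hg
    rcases key g with ⟨h, -⟩ | ⟨c, h, e⟩
    · exact absurd (hg.symm.trans h) one_ne_zero
    · have : c = 1 := Units.ext (M.toTits.σ_mul_self_eq_one (h.symm.trans hg))
      rw [e, this, map_one, one_mul]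
  obtain ⟨x2, x3, x4, -⟩ := ρ_x5_pow M
  have hF1 : F 1 = 0 := by
    have := hrel.x M 1
    simp only [one_mul] at this
    rw [hone (x5 M) (by simp [ρ_x5]), hone (_ ^ 2) (by rw [x2]; simp), hone (_ ^ 3) (by rw [x3]; simp),
      hone (_ ^ 4) (by rw [x4]; simp)] at this
    linear_combination this - 2 * F M.w * M.two
  choose r hr' using M.toTits.exists_σ_mul_self
  have hr0 : ∀ b, b ≠ 0 → r b ≠ 0 := fun b hb e => hb (by rw [← hr' b, e, mul_zero])
  let s : K → K := fun b => if h : b = 0 then 0 else β (Units.mk0 (r b) (hr0 b h))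
  have hs0 : s 0 = 0 := dif_pos rfl
  have hsl : ∀ c : Kˣ, s (M.σ c * c) = β c := fun c => by
    have h := mul_ne_zero (M.toTits.σ_ne_zero c.ne_zero) c.ne_zero
    rw [show s _ = _ from dif_neg h]
    congr 1
    exact Units.ext (M.toTits.σ_mul_self_inj (hr' _))
  have hs1 : s 1 = 1 := by simpa using hsl 1
  have hsF : ∀ g, F g = s (M.ρ g 3 0) * F M.w := by
    intro g
    rcases key g with ⟨h, c, e⟩ | ⟨c, h, e⟩
    · rw [e, h, hF1, hs0, mul_zero, zero_mul]
    · rw [e, h, hsl]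
  have hw0 : F M.w ≠ 0 := fun e => h0 (funext fun g => by rw [hsF, e, mul_zero]; rfl)
  have hmul : ∀ a b, s (a * b) = s a * s b := by
    intro a b
    by_cases ha : a = 0
    · simp [ha, hs0]
    by_cases hb : b = 0
    · simp [hb, hs0]
    have := hsl (Units.mk0 (r a) (hr0 a ha) * Units.mk0 (r b) (hr0 b hb))
    rw [map_mul β, ← hsl, ← hsl] at this
    simp only [Units.val_mul, Units.val_mk0, map_mul, hr'] at this
    rw [← this, ← hr' a, ← hr' b]
    congr 1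
    simp only [hr']
    linear_combination (-(M.σ (r b) * r b)) * hr' a - a * hr' b
  have hadd1 : ∀ y, s (1 + y) = 1 + s y := by
    intro y
    obtain ⟨b, rfl⟩ := M.toTits.σ_surj y
    have := hrel.x M (M.w * M.T 0 b)
    rw [hsF, hsF (_ * x5 M), hsF (_ * x5 M ^ 2), hsF (_ * x5 M ^ 3), hsF (_ * x5 M ^ 4)] at this
    simp only [map_mul, x2, x3, x4, ρ_x5, M.ρ_w, M.ρ_T] at this
    simp [Tits.Wm, Tits.Tm, Tits.f, Matrix.mul_apply, Fin.sum_univ_four, hs1] at this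
    apply mul_right_cancel₀ hw0
    linear_combination this - (F M.w + s (M.σ b) * F M.w + s (1 + b + M.σ b) * F M.w) * M.two
  let κ : K →+* K :=
    { toFun := s
      map_one' := hs1
      map_mul' := hmul
      map_zero' := hs0
      map_add' := fun a b => by
        by_cases ha : a = 0
        · simp [ha, hs0]
        have e1 : a + b = a * (1 + b / a) := by field_simp
        have e2 : b = a * (b / a) := by field_simp
        rw [e1, hmul, hadd1, mul_add, mul_one, ← hmul, ← e2] }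
  refine ⟨κ, fun c => (hsl c).symm, ?_⟩
  have := E.smul_mem (F M.w)⁻¹ hF
  convert this using 1
  funext g
  change s _ = (F M.w)⁻¹ * F g
  rw [hsF g]
  field_simp

/-- the functions with `Rel` and `RInv β` -/
def relInv (β : Kˣ →* K) : Submodule K (Γ → K) where
  carrier := {F | Rel F ∧ RInv M β F}
  add_mem' := fun {F F'} h h' => ⟨(relSub Γ K).add_mem h.1 h'.1, fun u hu g => by simp [h.2.1 u hu, h'.2.1 u hu],
    fun c g => by simp [h.2.2, h'.2.2, mul_add]⟩
  zero_mem' := ⟨(relSub Γ K).zero_mem, fun _ _ _ => rfl, fun c g => by simp⟩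
  smul_mem' := fun c F h => ⟨(relSub Γ K).smul_mem c h.1, fun u hu g => by simp [h.2.1 u hu],
    fun c g => by simp [h.2.2, mul_left_comm]⟩

theorem RInv.left {β : Kˣ →* K} {F : Γ → K} (h : RInv M β F) (a : Γ) : RInv M β fun g => F (a * g) :=
  ⟨fun u hu g => by simp only [← mul_assoc, h.1 u hu], fun c g => by simp only [← mul_assoc, h.2]⟩

theorem hw' [Finite K] {β : Kˣ →* K} {F : Γ → K} (h0 : F ≠ 0) (h1 : Rel F) (h2 : RInv M β F) :
    ∃ κ : K →+* K, ∀ c : Kˣ, β c = κ (M.σ c * c) := by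
  obtain ⟨κ, h, -⟩ := hw M (relInv M β) ((relInv M β).ne_bot_iff.2 ⟨F, ⟨h1, h2⟩, h0⟩)
    (fun g F hF => ⟨hF.1.left g, hF.2.left M g⟩) fun F hF => hF
  exact ⟨κ, h⟩

/-- the elements over which the relation of exponent two is summed -/
noncomputable def el (c d : Kˣ) : Γ := M.T 0 (M.σ c * c ^ 2 + M.σ d * d ^ 2) * M.D (c * d)

theorem el_comm (c d : Kˣ) : el M c d = el M d c := by rw [el, el, add_comm, mul_comm c d]

theorem el_self (c : Kˣ) : el M c c = M.D (c * c) := by rw [el, M.toTits.add_self, M.T_zero, one_mul]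

theorem el_eq (c d : Kˣ) : el M c d = M.T 0 (M.σ d * d ^ 2) * M.D c * (M.T 0 1 * M.D d) := by
  rw [M.TD_mul_TD, el]
  simp [add_comm]

theorem sum_split {ι A : Type*} [Fintype ι] [LinearOrder ι] [LocallyFiniteOrderTop ι] [LocallyFiniteOrderBot ι]
    [AddCommMonoid A] (f : ι → ι → A) :
    ∑ i, ∑ j, f j i = ∑ i, f i i + ∑ i, ∑ j ∈ Ioi i, (f j i + f i j) := by
  rw [sum_sum_Ioi_add_eq_sum_sum_off_diag, ← sum_add_distrib]
  refine sum_congr rfl fun i _ => ?_
  rw [← sum_add_sum_compl {i}, sum_singleton]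

include M in
/-- The exclusion of exponent four. -/
theorem exp_two [Finite K] {A : Type*} [AddCommGroup A] {Φ : Γ → A} (hΦ : Rel Φ) (μ : A →+ K)
    (hμ : ∀ a, a + a = 0 → μ a = 0) (g : Γ) : μ (Φ g) = 0 := by
  classical
  have := Fintype.ofFinite Kˣ
  let : LinearOrder Kˣ := LinearOrder.lift' (Fintype.equivFin Kˣ) (Equiv.injective _)
  let : LocallyFiniteOrderTop Kˣ := LocallyFiniteOrderTop.ofIci Kˣ (fun a => univ.filter (a ≤ ·)) (by simp)
  let : LocallyFiniteOrderBot Kˣ := LocallyFiniteOrderBot.ofIic Kˣ (fun a => univ.filter (· ≤ a)) (by simp)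
  let E : Submodule K (Γ → K) :=
    { carrier := {F | Rel F ∧ ∀ g g', ∑ c, ∑ d ∈ Ioi c, F (g * el M d c * g') = 0}
      add_mem' := fun {F F'} h h' => ⟨(relSub Γ K).add_mem h.1 h'.1, fun g g' => by
        simp only [Pi.add_apply, sum_add_distrib, h.2, h'.2, add_zero]⟩
      zero_mem' := ⟨(relSub Γ K).zero_mem, fun g g' => by simp⟩
      smul_mem' := fun c F h => ⟨(relSub Γ K).smul_mem c h.1, fun g g' => by
        simp only [Pi.smul_apply, smul_eq_mul, ← mul_sum, h.2, mul_zero]⟩ }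
  have hmem : (fun g => μ (Φ g)) ∈ E := by
    refine ⟨hΦ.map μ, fun g g' => ?_⟩
    simp only [← map_sum]
    apply hμ
    have h1 := sum_split fun d c => Φ (g * el M d c * g')
    have h2 : ∑ c, ∑ d, Φ (g * el M d c * g') = 0 := sum_eq_zero fun c _ => by
      have := hΦ.D M (g * M.T 0 (M.σ c * c ^ 2)) (M.T 0 1 * M.D c * g')
      simpa only [el_eq, mul_assoc] using this
    have h3 : ∑ c, Φ (g * el M c c * g') = 0 := by
      rw [← hΦ.D M g g']
      refine Fintype.sum_bijective (fun c => c * c) ?_ _ _ fun c => by rw [el_self]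
      exact Finite.surjective_iff_bijective.1 M.toTits.exists_unit_sq
    rw [h2, h3, zero_add] at h1
    simp only [sum_add_distrib] at h1
    rw [h1]
    congr 1
    exact sum_congr rfl fun c _ => sum_congr rfl fun d _ => by rw [el_comm]
  by_contra hne
  have hE : E ≠ ⊥ := E.ne_bot_iff.2 ⟨_, hmem, fun e => hne (congrFun e g)⟩
  obtain ⟨F, hF, h0, β, hU, hβ⟩ := exists_eigen M (fun g s => s * g) (by simp) (by simp [mul_assoc]) E hE
    fun a F hF => ⟨hF.1.right a, fun g g' => by simpa only [mul_assoc] using hF.2 g (g' * a)⟩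
  obtain ⟨κ, -, h2, -⟩ := hw M (E ⊓ relInv M β) ((E ⊓ relInv M β).ne_bot_iff.2 ⟨F, ⟨hF, hF.1, hU, hβ⟩, h0⟩)
    (fun a F hF => ⟨⟨hF.1.1.left a, fun g g' => by simpa only [mul_assoc] using hF.1.2 (a * g) g'⟩,
      hF.2.1.left a, hF.2.2.left M a⟩) fun F hF => hF.2
  have h3 := h2.2 M.w M.w
  simp only [← map_sum] at h3
  rw [map_eq_zero] at h3
  let l : Kˣ →* K := ((M.σ : K →* K).comp (Units.coeHom K)) * Units.coeHom K
  have hl : ∀ c : Kˣ, l c = M.σ c * c := fun c => rfl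
  have h4 : ∀ c d : Kˣ, M.ρ (M.w * el M d c * M.w) 3 0 = l d * l c⁻¹ + l c * l d⁻¹ := by
    intro c d
    have hc := M.toTits.σ_ne_zero c.ne_zero
    have hd := M.toTits.σ_ne_zero d.ne_zero
    simp [el, map_mul, M.ρ_T, M.ρ_D, M.ρ_w, Tits.Tm, Tits.Dm, Tits.Wm, Tits.f, Matrix.mul_apply,
      Fin.sum_univ_four, hl, M.σσ]
    field_simp
  have h5 := sum_split fun d c => l d * l c⁻¹
  have h6 : ∑ d, l d = 0 := by
    refine sum_hom_units_eq_zero l fun e => ?_
    obtain ⟨c, hc⟩ := M.toTits.exists_unit_ne_one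
    exact hc (Units.ext (M.toTits.σ_mul_self_eq_one (by rw [← hl, e]; rfl)))
  simp only [h4] at h3
  rw [h3] at h5
  simp only [← sum_mul, h6, zero_mul, sum_const_zero] at h5
  simp only [← map_mul, mul_inv_cancel, map_one, sum_const, card_univ, nsmul_eq_mul, cast_card_units M] at h5
  simp at h5

end CL.Cit.Mart
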