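/-
Martineau's theorem, part 2: a function of three variables on a Suzuki group which has `Rel` in each variable and is
invariant under diagonal left translation vanishes (`tri`).
-/
import Cfsg.Agent.Cit.Mart1

set_option autoImplicit false

open CL.Chev.Sz Finset

namespace CL.Cit.Mart

variable {Γ : Type*} [Group Γ] {K : Type*} [Field K]

theorem pair {a b c d : K →+* K} (h : ∀ y, a y * b y = c y * d y) : a = c ∨ a = d := by
  have h1 : ∀ y, a y = c y ∨ a y = d y := fun y => by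
    have e := h (y + 1)
    simp only [map_add, map_one] at e
    have : (a y - c y) * (a y - d y) = 0 := by linear_combination a y * e - (a y + 1) * h y
    exact (mul_eq_zero.1 this).imp sub_eq_zero.1 sub_eq_zero.1
  by_contra hn
  push Not at hn
  obtain ⟨y, hy⟩ := DFunLike.ne_iff.1 hn.1
  obtain ⟨z, hz⟩ := DFunLike.ne_iff.1 hn.2
  have e1 := (h1 y).resolve_left hy
  have e2 := (h1 z).resolve_right hz
  rcases h1 (y + z) with e | e
  · simp only [map_add] at e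
    exact hy (by linear_combination e - e2)
  · simp only [map_add] at e
    exact hz (by linear_combination e - e1)

theorem single (h2 : (2 : K) = 0) {a b c : K →+* K} (h : ∀ y, a y * b y = c y) : a = b := by
  ext y
  have e := h (y + 1)
  simp only [map_add, map_one] at e
  linear_combination e - h y - b y * h2

variable (M : Model Γ K)

section Key
variable {Φ : Γ → Γ → Γ → K} {β₁ β₂ : Kˣ →* K}

theorem key_weight (hd : ∀ g a b c, Φ (g * a) (g * b) (g * c) = Φ a b c) (h1 : ∀ b c, RInv M β₁ fun a => Φ a b c)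
    (h2 : ∀ a c, RInv M β₂ fun b => Φ a b c) (c : Kˣ) (g : Γ) :
    β₁ c * Φ 1 M.w (M.D c * g) = β₂ c * Φ 1 M.w g := by
  have e1 := (h1 M.w (M.D c * g)).2 c 1
  have e3 := hd (M.D c) 1 (M.w * M.D c) g
  have e4 := (h2 1 g).2 c M.w
  simp only at e1 e4
  rw [← e1, ← e4, ← e3, M.w_mul_D, map_inv, mul_inv_cancel_left, one_mul, mul_one]

theorem key_zero (hd : ∀ g a b c, Φ (g * a) (g * b) (g * c) = Φ a b c) (h1 : ∀ b c, RInv M β₁ fun a => Φ a b c)
    (h2 : ∀ a c, RInv M β₂ fun b => Φ a b c) (r2 : ∀ a c, Rel fun b => Φ a b c) (h0 : ∀ g, Φ 1 M.w g = 0)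
    (a b c : Γ) : Φ a b c = 0 := by
  have k1 : ∀ b g, M.ρ b 3 0 ≠ 0 → Φ 1 b g = 0 := by
    intro b g hb
    rcases bruhat M b with ⟨h, -⟩ | ⟨x, y, a, b, c, rfl, -⟩
    · exact absurd h hb
    have e1 := (h2 1 g).2 c (M.T x y * M.w * M.T a b)
    have e2 := (h2 1 g).1 _ (M.T_mem_U a b) (M.T x y * M.w)
    have e3 := hd (M.T x y) (1 * (M.T x y)⁻¹) M.w ((M.T x y)⁻¹ * g)
    have e4 := (h1 M.w ((M.T x y)⁻¹ * g)).1 _ (M.U.inv_mem (M.T_mem_U x y)) 1
    simp only at e1 e2 e4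
    rw [e4, h0, one_mul, mul_inv_cancel, mul_inv_cancel_left] at e3
    rw [e1, e2, e3, mul_zero]
  have k2 : ∀ g, Φ 1 1 g = 0 := fun g => by
    obtain ⟨x2, x3, x4, -⟩ := ρ_x5_pow M
    have := (r2 1 g).x M 1
    simp only [one_mul] at this
    rwa [k1 (x5 M) g (by simp [ρ_x5]), k1 (_ ^ 2) g (by rw [x2]; simp), k1 (_ ^ 3) g (by rw [x3]; simp),
      k1 (_ ^ 4) g (by rw [x4]; simp), add_zero, add_zero, add_zero, add_zero] at this
  have k3 : ∀ b g, Φ 1 b g = 0 := fun b g => by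
    by_cases hb : M.ρ b 3 0 = 0
    · rcases bruhat M b with ⟨-, a, b, c, rfl⟩ | ⟨x, y, a, b, c, rfl, h⟩
      · have e1 := (h2 1 g).2 c (M.T a b)
        have e2 := (h2 1 g).1 _ (M.T_mem_U a b) 1
        simp only [one_mul] at e1 e2
        rw [e1, e2, k2, mul_zero]
      · exact absurd (h.symm.trans hb) (mul_ne_zero (M.toTits.σ_ne_zero c.ne_zero) c.ne_zero)
    · exact k1 b g hb
  rw [← hd a⁻¹, inv_mul_cancel, k3]

theorem key_ne [Finite K] (hd : ∀ g a b c, Φ (g * a) (g * b) (g * c) = Φ a b c)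
    (h1 : ∀ b c, RInv M β₁ fun a => Φ a b c) (h2 : ∀ a c, RInv M β₂ fun b => Φ a b c)
    (r2 : ∀ a c, Rel fun b => Φ a b c) (r3 : ∀ a b, Rel (Φ a b)) (h0 : ∃ a b c, Φ a b c ≠ 0) : β₁ ≠ β₂ := by
  rintro rfl
  obtain ⟨a, b, c, h0⟩ := h0
  refine h0 (key_zero M hd h1 h2 r2 (fun g => ?_) a b c)
  have := Fintype.ofFinite Kˣ
  have e := (r3 1 M.w).D M 1 g
  have e2 : ∀ c, Φ 1 M.w (1 * M.D c * g) = Φ 1 M.w g := fun c => by
    rw [one_mul]
    exact mul_left_cancel₀ (β₁.toHomUnits c).ne_zero (key_weight M hd h1 h2 c g)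
  simp only [e2] at e
  simpa [cast_card_units M] using e

end Key

/-- the functions of three variables under consideration -/
structure Tri (Φ : Γ × Γ × Γ → K) : Prop where
  r1 : ∀ b c, Rel fun a => Φ (a, b, c)
  r2 : ∀ a c, Rel fun b => Φ (a, b, c)
  r3 : ∀ a b, Rel fun c => Φ (a, b, c)
  diag : ∀ g a b c, Φ (g * a, g * b, g * c) = Φ (a, b, c)

theorem Rel.add {F F' : Γ → K} (h : Rel F) (h' : Rel F') : Rel fun g => F g + F' g := (relSub Γ K).add_mem h h'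

theorem Rel.smul {F : Γ → K} (h : Rel F) (t : K) : Rel fun g => t • F g := (relSub Γ K).smul_mem t h

/-- the space of these functions -/
def triSub (Γ K : Type*) [Group Γ] [Field K] : Submodule K (Γ × Γ × Γ → K) where
  carrier := {Φ | Tri Φ}
  add_mem' := fun {F F'} h h' => ⟨fun b c => (h.r1 b c).add (h'.r1 b c), fun b c => (h.r2 b c).add (h'.r2 b c),
    fun b c => (h.r3 b c).add (h'.r3 b c), fun g a b c => by simp [h.diag, h'.diag]⟩
  zero_mem' := ⟨fun _ _ => (relSub Γ K).zero_mem, fun _ _ => (relSub Γ K).zero_mem,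
    fun _ _ => (relSub Γ K).zero_mem, fun _ _ _ _ => rfl⟩
  smul_mem' := fun t F h => ⟨fun b c => (h.r1 b c).smul t, fun b c => (h.r2 b c).smul t,
    fun b c => (h.r3 b c).smul t, fun g a b c => by simp [h.diag]⟩

theorem Tri.mul {Φ : Γ × Γ × Γ → K} (h : Tri Φ) (x y z : Γ) : Tri fun s => Φ (s.1 * x, s.2.1 * y, s.2.2 * z) :=
  ⟨fun b c => (h.r1 (b * y) (c * z)).right x, fun a c => (h.r2 (a * x) (c * z)).right y,
    fun a b => (h.r3 (a * x) (b * y)).right z,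
    fun g a b c => by simpa only [mul_assoc] using h.diag g (a * x) (b * y) (c * z)⟩

theorem mem_triSub {Φ : Γ × Γ × Γ → K} : Φ ∈ triSub Γ K ↔ Tri Φ := Iff.rfl

/-- the functions whose slices in the third variable are matrix coefficients -/
def slice (κ : K →+* K) : Submodule K (Γ × Γ × Γ → K) where
  carrier := {Φ | ∀ a b, ∃ t : Fin 4 → K, ∀ c, Φ (a, b, c) = ∑ j, t j * κ (M.ρ c j 0)}
  add_mem' := fun {F F'} h h' a b => by
    obtain ⟨t, ht⟩ := h a b
    obtain ⟨t', ht'⟩ := h' a b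
    exact ⟨t + t', fun c => by simp only [Pi.add_apply, ht, ht', add_mul, sum_add_distrib]⟩
  zero_mem' := fun a b => ⟨0, fun c => by simp⟩
  smul_mem' := fun s F h a b => by
    obtain ⟨t, ht⟩ := h a b
    exact ⟨s • t, fun c => by simp only [Pi.smul_apply, ht, smul_eq_mul, mul_sum, mul_assoc]⟩

theorem exists_slice [Finite K] (h : triSub Γ K ≠ ⊥) : ∃ κ : K →+* K, triSub Γ K ⊓ slice M κ ≠ ⊥ := by
  classical
  have := M.finite
  have := Fintype.ofFinite Γ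
  let θ : Γ → Γ × Γ × Γ → Γ × Γ × Γ := fun g s => (s.1, s.2.1, s.2.2 * g)
  have θ1 : ∀ s, θ 1 s = s := by simp [θ]
  have θm : ∀ g h s, θ (g * h) s = θ h (θ g s) := by simp [θ, mul_assoc]
  let R := tr K θ θ1 θm
  have hR : ∀ g F a b c, R g F (a, b, c) = F (a, b, c * g) := fun _ _ _ _ _ => rfl
  obtain ⟨G₀, ⟨h1, h2, h3⟩, hmin⟩ := (wellFounded_lt (α := Submodule K (Γ × Γ × Γ → K))).has_min
    {E | E ≤ triSub Γ K ∧ E ≠ ⊥ ∧ ∀ g, ∀ F ∈ E, R g F ∈ E}
    ⟨_, le_rfl, h, fun g F hF => by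
      have := Tri.mul hF 1 1 g
      simp only [mul_one] at this
      exact this⟩
  obtain ⟨v, hv, hv0, β, hU, hβ⟩ := exists_eigen M θ θ1 θm G₀ h2 h3
  let Ψ : Module.Dual K (Γ × Γ × Γ → K) →ₗ[K] (Γ → K) :=
    { toFun := fun φ g => φ (R g v)
      map_add' := fun _ _ => rfl
      map_smul' := fun _ _ => rfl }
  obtain ⟨κ, -, φ, hφ⟩ := hw M (β := β) (LinearMap.range Ψ) (by
      obtain ⟨s, hs⟩ := Function.ne_iff.1 hv0
      refine (Submodule.ne_bot_iff _).2 ⟨_, ⟨LinearMap.proj s, rfl⟩, fun e => hs ?_⟩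
      have := congrFun e 1
      simpa [Ψ] using this)
    (by
      rintro g _ ⟨φ, rfl⟩
      exact ⟨φ ∘ₗ R g, funext fun s => by simp [Ψ]⟩)
    (by
      rintro _ ⟨φ, rfl⟩
      refine ⟨fun y y1 y2 g g' => ?_, fun u hu g => ?_, fun c g => ?_⟩
      · change ∑ k ∈ _, φ _ = 0
        rw [← map_sum, ← map_zero φ]
        congr 1
        funext ⟨a, b, c⟩
        have := Tri.r3 (h1 hv) a b y y1 y2 (c * g) g'
        simpa only [Finset.sum_apply, hR, mul_assoc, Pi.zero_apply] using this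
      · change φ _ = φ _
        rw [map_mul, Module.End.mul_apply, show R u v = v from funext (hU u hu)]
      · change φ _ = β c * φ _
        rw [map_mul, Module.End.mul_apply, show R (M.D c) v = β c • v from funext (hβ c), map_smul, map_smul,
          smul_eq_mul])
  have hφ' : ∀ g, φ (R g v) = κ (M.ρ g 3 0) := fun g => congrFun hφ g
  let G₁ : Submodule K (Γ × Γ × Γ → K) := G₀ ⊓ ⨅ g, LinearMap.ker (φ ∘ₗ R g)
  have hG₁ : ∀ y, y ∈ G₁ ↔ y ∈ G₀ ∧ ∀ g, φ (R g y) = 0 := fun y => by simp [G₁]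
  have hbot : G₁ = ⊥ := by
    by_contra hne
    refine hmin G₁ ⟨inf_le_left.trans h1, hne, fun g F hF => ?_⟩ (lt_of_le_of_ne inf_le_left fun e => ?_)
    · rw [hG₁] at hF ⊢
      exact ⟨h3 g F hF.1, fun k => by rw [← Module.End.mul_apply, ← map_mul, hF.2]⟩
    · have := ((hG₁ v).1 (e ▸ hv)).2 M.w
      rw [hφ', M.ρ_w] at this
      simp [Tits.Wm] at this
  refine ⟨κ, (Submodule.ne_bot_iff _).2 ⟨v, ⟨h1 hv, fun a b => ?_⟩, hv0⟩⟩
  let L : Fin 4 → (Γ → K) →ₗ[K] K := fun j => Fintype.linearCombination K fun h => κ (M.ρ h j 0)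
  have hsp : Fintype.linearCombination K (fun h => v (a, b, h)) ∈ Submodule.span K (Set.range L) := by
    refine mem_span_of_iInf_ker_le_ker fun t ht => ?_
    simp only [Submodule.mem_iInf, LinearMap.mem_ker, L, Fintype.linearCombination_apply, smul_eq_mul] at ht ⊢
    have hy : ∑ h, t h • R h v ∈ G₁ := by
      refine (hG₁ _).2 ⟨G₀.sum_mem fun h _ => G₀.smul_mem _ (h3 h v hv), fun g => ?_⟩
      simp only [map_sum, map_smul, ← Module.End.mul_apply, ← map_mul R, hφ']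
      simp only [map_mul, map_sum, Matrix.mul_apply, smul_eq_mul, mul_sum]
      rw [sum_comm]
      refine sum_eq_zero fun j _ => ?_
      simp only [mul_left_comm (t _), ← mul_sum, ht, mul_zero]
    rw [hbot, Submodule.mem_bot] at hy
    simpa [Finset.sum_apply, hR] using congrFun hy (a, b, 1)
  obtain ⟨t, ht⟩ := (Submodule.mem_span_range_iff_exists_fun K).1 hsp
  refine ⟨t, fun c => ?_⟩
  have := LinearMap.congr_fun ht (Pi.single c 1)
  simpa [L, LinearMap.sum_apply] using this.symm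

/-- the diagonal entries of the torus -/
noncomputable def lam (j : Fin 4) : Kˣ →* K where
  toFun c := M.ρ (M.D c) j j
  map_one' := by simp
  map_mul' c d := by
    simp only [M.ρ_D]
    fin_cases j <;> simp [Tits.Dm] <;> ring

theorem ρ_D_mul (c : Kˣ) (g : Γ) (j : Fin 4) : M.ρ (M.D c * g) j 0 = lam M j c * M.ρ g j 0 := by
  change _ = M.ρ (M.D c) j j * _
  rw [map_mul, M.ρ_D]
  fin_cases j <;> simp [Tits.Dm, Matrix.mul_apply, Fin.sum_univ_four]

theorem rInv_slice {κ : K →+* K} {Φ : Γ × Γ × Γ → K} (h : Φ ∈ slice M κ) (a b : Γ) :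
    RInv M ((κ : K →* K).comp (lam M 0)) fun c => Φ (a, b, c) := by
  obtain ⟨t, ht⟩ := h a b
  refine ⟨?_, fun c g => ?_⟩
  · rintro _ ⟨x, y, rfl⟩ g
    simp [ht, map_mul, M.ρ_T, Tits.Tm, Matrix.mul_apply, Fin.sum_univ_four]
  · simp [ht, map_mul, M.ρ_D, Tits.Dm, Matrix.mul_apply, Fin.sum_univ_four, lam]
    ring

include M in
theorem triSub_eq_bot [Finite K] : triSub Γ K = ⊥ := by
  by_contra h
  obtain ⟨κ₃, h3⟩ := exists_slice M h
  obtain ⟨Φ₁, hΦ₁, h0, β₁, hU, hβ⟩ := exists_eigen M (fun g (s : Γ × Γ × Γ) => (s.1 * g, s.2.1, s.2.2)) (by simp)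
    (by simp [mul_assoc]) _ h3 fun g F hF => ⟨mem_triSub.2 (by simpa using Tri.mul hF.1 g 1 1), fun a b => hF.2 (a * g) b⟩
  let E : Submodule K (Γ × Γ × Γ → K) :=
    { carrier := {F | ∀ b c, (fun a => F (a, b, c)) ∈ relInv M β₁}
      add_mem' := fun {F F'} h h' b c => (relInv M β₁).add_mem (h b c) (h' b c)
      zero_mem' := fun _ _ => (relInv M β₁).zero_mem
      smul_mem' := fun t F h b c => (relInv M β₁).smul_mem t (h b c) }
  obtain ⟨Φ, ⟨⟨hT, hs⟩, hE⟩, h0', β₂, hU', hβ'⟩ := exists_eigen M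
    (fun g (s : Γ × Γ × Γ) => (s.1, s.2.1 * g, s.2.2)) (by simp) (by simp [mul_assoc])
    (triSub Γ K ⊓ slice M κ₃ ⊓ E) ((Submodule.ne_bot_iff _).2 ⟨Φ₁, ⟨hΦ₁, fun b c =>
      ⟨Tri.r1 hΦ₁.1 b c, fun u hu a => hU u hu (a, b, c), fun d a => hβ d (a, b, c)⟩⟩, h0⟩)
    fun g F hF => ⟨⟨mem_triSub.2 (by simpa using Tri.mul hF.1.1 1 g 1), fun a b => hF.1.2 a (b * g)⟩,
      fun b c => hF.2 (b * g) c⟩
  obtain ⟨r1, r2, r3, hd⟩ := mem_triSub.1 hT
  have i1 : ∀ b c, RInv M β₁ fun a => Φ (a, b, c) := fun b c => (hE b c).2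
  have i2 : ∀ a c, RInv M β₂ fun b => Φ (a, b, c) := fun a c =>
    ⟨fun u hu b => hU' u hu (a, b, c), fun d b => hβ' d (a, b, c)⟩
  have i3 := rInv_slice M hs
  obtain ⟨⟨a, b, c⟩, hs0⟩ := Function.ne_iff.1 h0'
  have n12 := key_ne M (Φ := fun a b c => Φ (a, b, c)) hd i1 i2 r2 r3 ⟨a, b, c, hs0⟩
  have n13 := key_ne M (Φ := fun a c b => Φ (a, b, c)) (fun g a c b => hd g a b c) (fun c b => i1 b c) i3 r3 r2
    ⟨a, c, b, hs0⟩
  have n23 := key_ne M (Φ := fun b c a => Φ (a, b, c)) (fun g b c a => hd g a b c) (fun c a => i2 a c)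
    (fun b a => i3 a b) (fun b a => r3 a b) (fun b c => r1 b c) ⟨b, c, a, hs0⟩
  obtain ⟨κ₁, k1⟩ := hw' M (fun e => hs0 (congrFun e a)) (r1 b c) (i1 b c)
  obtain ⟨κ₂, k2⟩ := hw' M (fun e => hs0 (congrFun e b)) (r2 a c) (i2 a c)
  have k3 : ∀ c : Kˣ, ((κ₃ : K →* K).comp (lam M 0)) c = κ₃ (M.σ c * c) := fun c => by
    simp [lam, M.ρ_D, Tits.Dm]
  have m12 : κ₁ ≠ κ₂ := fun e => n12 (MonoidHom.ext fun c => by rw [k1, k2, e])
  have m13 : κ₁ ≠ κ₃ := fun e => n13 (MonoidHom.ext fun c => by rw [k1, k3, e])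
  have m23 : κ₂ ≠ κ₃ := fun e => n23 (MonoidHom.ext fun c => by rw [k2, k3, e])
  obtain ⟨g, hg⟩ : ∃ g, Φ (1, M.w, g) ≠ 0 := by
    by_contra hn
    push Not at hn
    exact hs0 (key_zero M (Φ := fun a b c => Φ (a, b, c)) hd i1 i2 r2 hn a b c)
  obtain ⟨t, ht⟩ := hs 1 M.w
  let χ : Fin 4 → (Kˣ →* K) := fun j => β₁ * (κ₃ : K →* K).comp (lam M j)
  obtain ⟨j, hj⟩ : β₂ ∈ Set.range χ := by
    by_contra hn
    refine (linearIndependent_monoidHom Kˣ K).notMem_span_image hn ?_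
    have : (β₂ : Kˣ → K) = ∑ j, ((Φ (1, M.w, g))⁻¹ * (t j * κ₃ (M.ρ g j 0))) • (χ j : Kˣ → K) := by
      funext c
      have := key_weight M (Φ := fun a b c => Φ (a, b, c)) hd i1 i2 c g
      rw [← eq_mul_inv_iff_mul_eq₀ hg |>.2 this.symm |>.symm, ht, mul_sum, sum_mul, Finset.sum_apply]
      refine sum_congr rfl fun j _ => ?_
      simp only [ρ_D_mul, map_mul, χ, Pi.smul_apply, smul_eq_mul, MonoidHom.mul_apply, MonoidHom.comp_apply,
        MonoidHom.coe_coe]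
      ring
    rw [this]
    exact Submodule.sum_mem _ fun j _ => Submodule.smul_mem _ _ (Submodule.subset_span ⟨_, ⟨j, rfl⟩, rfl⟩)
  have hj' : ∀ c : Kˣ, κ₁ (M.σ c * c) * κ₃ (M.toTits.Dm c j j) = κ₂ (M.σ c * c) := fun c => by
    rw [← k1, ← k2, ← hj, ← M.ρ_D]
    rfl
  have all : ∀ {P : K → Prop}, P 0 → (∀ c : Kˣ, P (M.σ c * c)) → ∀ y, P y := fun {P} p0 p1 y => by
    obtain ⟨c, rfl⟩ := M.toTits.exists_σ_mul_self y
    by_cases hc : c = 0
    · simpa [hc] using p0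
    · exact p1 (Units.mk0 c hc)
  have hσ : ∀ c : K, M.σ (M.σ c * c) = M.σ c * c * c := fun c => by rw [map_mul, M.σσ]; ring
  fin_cases j
  · exact m13 (single M.two (c := κ₂) (all (by simp) fun c => by simpa [Tits.Dm] using hj' c))
  · refine (pair (a := κ₁) (b := κ₃.comp M.σ) (c := κ₂) (d := κ₃) (all (by simp) fun c => ?_)).elim m12 m13
    rw [RingHom.comp_apply, hσ, ← hj' c, map_mul κ₃]
    simp [Tits.Dm]
    ring
  · refine (pair (a := κ₂) (b := κ₃.comp M.σ) (c := κ₁) (d := κ₃) (all (by simp) fun c => ?_)).elim m12.symm m23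
    rw [RingHom.comp_apply, hσ, ← hj' c, map_mul κ₃]
    have := (map_ne_zero κ₃).2 c.ne_zero
    simp [Tits.Dm]
    field_simp
  · refine m23 (single M.two (c := κ₁) (all (by simp) fun c => ?_))
    rw [← hj' c]
    have := (map_ne_zero κ₃).2 c.ne_zero
    have := (map_ne_zero κ₃).2 (M.toTits.σ_ne_zero c.ne_zero)
    simp [Tits.Dm]
    field_simp

include M in
theorem tri [Finite K] (Φ : Γ → Γ → Γ → K) (h1 : ∀ b c, Rel fun a => Φ a b c) (h2 : ∀ a c, Rel fun b => Φ a b c)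
    (h3 : ∀ a b, Rel (Φ a b)) (hd : ∀ g a b c, Φ (g * a) (g * b) (g * c) = Φ a b c) (a b c : Γ) : Φ a b c = 0 := by
  have : (fun s => Φ s.1 s.2.1 s.2.2) ∈ triSub Γ K := mem_triSub.2 ⟨h1, h2, h3, hd⟩
  rw [triSub_eq_bot M, Submodule.mem_bot] at this
  exact congrFun this (a, b, c)

end CL.Cit.Mart
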