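/-
Martineau's theorem, part 3: if `G` is a CIT-group with `G/O₂(G)` a Suzuki group, then `O₂(G)` is elementary abelian.
-/
import Cfsg.Agent.Cit.Mart2
import Cfsg.Agent.Cit.Cor1

set_option autoImplicit false

open Cfsg CL.Chev.Sz CL.Grp Finset
open scoped commutatorElement

namespace CL.Cit

universe u

namespace Mart

variable {G Γ : Type*} [Group G] [Group Γ] {A : Type*} [AddCommGroup A]

/-- `μ` is additive on `N` -/
def Add (N : Subgroup G) (μ : G → A) : Prop := ∀ a ∈ N, ∀ b ∈ N, μ (a * b) = μ a + μ b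

/-- `μ` is additive on `N` and invariant under conjugation by `D` -/
def Good (D N : Subgroup G) (μ : G → A) : Prop := Add N μ ∧ ∀ e ∈ D, ∀ a ∈ N, μ (e * a * e⁻¹) = μ a

theorem Add.one {N : Subgroup G} {μ : G → A} (h : Add N μ) : μ 1 = 0 := by
  simpa using h 1 N.one_mem 1 N.one_mem

theorem Add.good {N : Subgroup G} {μ : G → A} (h : Add N μ) : Good N N μ := ⟨h, fun e he a ha => by
  have h1 := h e he _ (N.inv_mem he)
  rw [mul_inv_cancel, h.one] at h1
  rw [h _ (N.mul_mem he ha) _ (N.inv_mem he), h e he a ha, add_right_comm, ← h1, zero_add]⟩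

theorem Good.conj {D N : Subgroup G} [hD : D.Normal] [hN : N.Normal] {μ : G → A} (h : Good D N μ) (g : G) :
    Good D N fun z => μ (g * z * g⁻¹) :=
  ⟨fun a ha b hb => by
    beta_reduce
    rw [← h.1 _ (hN.conj_mem a ha g) _ (hN.conj_mem b hb g)]
    congr 1
    group, fun e he a ha => by
    beta_reduce
    rw [← h.2 _ (hD.conj_mem e he g) _ (hN.conj_mem a ha g)]
    congr 1
    group⟩

theorem Good.congr (π : G →* Γ) {N : Subgroup G} [hN : N.Normal] {μ : G → A} (h : Good π.ker N μ) {d : G}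
    (hd : d ∈ N) {g g' : G} (e : π g = π g') : μ (g * d * g⁻¹) = μ (g' * d * g'⁻¹) := by
  rw [← h.2 (g * g'⁻¹) (by rw [MonoidHom.mem_ker, map_mul, map_inv, e, mul_inv_cancel]) _ (hN.conj_mem d hd g')]
  congr 1
  group

theorem Add.sum_conj {N : Subgroup G} [hN : N.Normal] {μ : G → A} (h : Add N μ) {d : G} (hd : d ∈ N) (y : G)
    (n : ℕ) : (d * y) ^ n * (y ^ n)⁻¹ ∈ N ∧
      μ ((d * y) ^ n * (y ^ n)⁻¹) = ∑ k ∈ range n, μ (y ^ k * d * (y ^ k)⁻¹) := by
  induction n with
  | zero => simpa using h.one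
  | succ n ih =>
    have e : (d * y) ^ (n + 1) * (y ^ (n + 1))⁻¹ = (d * y) ^ n * (y ^ n)⁻¹ * (y ^ n * d * (y ^ n)⁻¹) := by
      rw [pow_succ, pow_succ' y]
      group
    rw [e, sum_range_succ, h _ ih.1 _ (hN.conj_mem d hd _), ih.2]
    exact ⟨N.mul_mem ih.1 (hN.conj_mem d hd _), rfl⟩

theorem Good.rel [Finite G] (hG : IsCIT G) (π : G →* Γ) (hk : IsPGroup 2 π.ker) {s : Γ → G}
    (hs : ∀ γ, π (s γ) = γ) {N : Subgroup G} [hN : N.Normal] (hle : N ≤ π.ker) {μ : G → A} (h : Good π.ker N μ)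
    {d : G} (hd : d ∈ N) : Rel fun γ => μ (s γ * d * (s γ)⁻¹) := by
  intro y y1 y2 g g'
  have hd' := hN.conj_mem d hd (s g * s g')
  set d' := s g * s g' * d * (s g * s g')⁻¹
  have hy : π (s g * s y * (s g)⁻¹) = g * y * g⁻¹ := by simp [hs]
  set y' := s g * s y * (s g)⁻¹ with hy'
  have ho : orderOf (g * y * g⁻¹) = orderOf y := (SemiconjBy.orderOf_eq g (by simp [SemiconjBy])).symm
  have key : ∀ x, π x = g * y * g⁻¹ → x ^ orderOf y = 1 := fun x hx =>
    hG.pow_eq_one_of_map π hk (by rwa [hx, ho]) (by rw [hx]; simpa using y1) (by rw [hx, ← ho, pow_orderOf_eq_one])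
  have := (h.1.sum_conj hd' y' (orderOf y)).2
  rw [key y' hy, key (d' * y') (by rw [map_mul, hy, MonoidHom.mem_ker.1 (hle hd'), one_mul]), inv_one, mul_one,
    h.1.one] at this
  rw [this]
  refine sum_congr rfl fun k _ => ?_
  beta_reduce
  rw [h.congr π hd (g' := y' ^ k * (s g * s g')) (by
    simp only [map_mul, map_pow, hs, hy, conj_pow]
    group)]
  congr 1
  simp only [d']
  group

theorem exists_add [Finite G] {K : Type*} [Field K] (h2 : (2 : K) = 0) {P Q : Subgroup G} (hP : IsPGroup 2 P)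
    (h : ¬ P ≤ Q) : ∃ μ : G → K, Add P μ ∧ (∀ a ∈ P, a ∈ Q → μ a = 0) ∧ ∃ a ∈ P, μ a ≠ 0 := by
  classical
  have : Fact (Nat.Prime 2) := ⟨Nat.prime_two⟩
  obtain ⟨M, -, h1, h3⟩ := exists_normal_index_eq_ge hP (H := Q.subgroupOf P) (by rwa [Ne, Subgroup.subgroupOf_eq_top])
  refine ⟨fun g => if g ∈ M.map P.subtype then 0 else 1, fun a ha b hb => ?_,
    fun a ha hq => if_pos ⟨⟨a, ha⟩, h1 hq, rfl⟩, ?_⟩
  · have e : ∀ x : P, (x : G) ∈ M.map P.subtype ↔ x ∈ M := fun x =>
      Subgroup.mem_map_iff_mem P.subtype_injective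
    have := Subgroup.mul_mem_iff_of_index_two h3 (a := ⟨a, ha⟩) (b := ⟨b, hb⟩)
    rw [← e, ← e, ← e] at this
    simp only [Subgroup.coe_mul] at this
    by_cases h4 : a ∈ M.map P.subtype <;> by_cases h5 : b ∈ M.map P.subtype <;> simp [this, h4, h5]
    linear_combination -h2
  · have : M ≠ ⊤ := fun e => by simp [e] at h3
    obtain ⟨a, ha⟩ := SetLike.exists_of_lt (lt_top_iff_ne_top.2 this)
    refine ⟨a, a.2, ?_⟩
    exact (if_neg fun e => ha.2 ((Subgroup.mem_map_iff_mem P.subtype_injective).1 e)).trans_ne one_ne_zero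

theorem Good.left {D : Subgroup G} [D.Normal] {μ : G → A} (h : Good D ⁅D, D⁆ μ) {b : G} (hb : b ∈ D) :
    Add D fun a => μ ⁅a, b⁆ := fun a ha a' ha' => by
  have h1 := Subgroup.commutator_mem_commutator ha' hb
  beta_reduce
  rw [← h.2 a ha _ h1, add_comm, ← h.1 _ (Subgroup.Normal.conj_mem inferInstance _ h1 a) _
    (Subgroup.commutator_mem_commutator ha hb)]
  congr 1
  simp only [commutatorElement_def]
  group

theorem Good.right {D : Subgroup G} [D.Normal] {μ : G → A} (h : Good D ⁅D, D⁆ μ) {a : G} (ha : a ∈ D) :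
    Add D fun b => μ ⁅a, b⁆ := fun b hb b' hb' => by
  have h1 := Subgroup.commutator_mem_commutator ha hb'
  beta_reduce
  rw [← h.2 b hb _ h1, ← h.1 _ (Subgroup.commutator_mem_commutator ha hb) _
    (Subgroup.Normal.conj_mem inferInstance _ h1 b)]
  congr 1
  simp only [commutatorElement_def]
  group

variable {K : Type*} [Field K] [Finite K] (M : Model Γ K)
include M

theorem comm_ker [Finite G] (hG : IsCIT G) (π : G →* Γ) (hπ : Function.Surjective π) (hk : IsPGroup 2 π.ker) :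
    ⁅π.ker, π.ker⁆ = ⊥ := by
  by_contra hne
  have : Fact (Nat.Prime 2) := ⟨Nat.prime_two⟩
  choose s hs using hπ
  have hle : ⁅π.ker, π.ker⁆ ≤ π.ker := Subgroup.commutator_le_left _ _
  have hlt := CL.Odd.comm_lt_of_nil hk.isNilpotent hle
    (by rw [Subgroup.normalizer_eq_top_iff.2 inferInstance]; exact le_top) hne
  obtain ⟨μ, h1, h2, z, hz, hz0⟩ := exists_add M.two (hk.to_le hle) hlt.not_ge
  have hμ : Good π.ker ⁅π.ker, π.ker⁆ μ := ⟨h1, fun e he a ha => by
    have h3 := Subgroup.commutator_mem_commutator ha he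
    have h4 : e * a * e⁻¹ = ⁅a, e⁆⁻¹ * a := by
      simp only [commutatorElement_def]
      group
    have h5 := Subgroup.inv_mem _ h3
    rw [h4, h1 _ (hlt.le h5) a ha, h2 _ (hlt.le h5) h5, zero_add]⟩
  refine hz0 ?_
  clear hz0
  have key : ∀ d ∈ π.ker, ∀ e ∈ π.ker, μ ⁅d, e⁆ = 0 := by
    intro d hd e he
    have hc := fun g => (MonoidHom.normal_ker π).conj_mem d hd g
    have hc' := fun g => (MonoidHom.normal_ker π).conj_mem e he g
    let Ψ : G → G → G → K := fun a b c => μ (c⁻¹ * ⁅a * d * a⁻¹, b * e * b⁻¹⁆ * c⁻¹⁻¹)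
    have hΨ : ∀ a a' b b' c c', π a = π a' → π b = π b' → π c = π c' → Ψ a b c = Ψ a' b' c' := by
      intro a a' b b' c c' ha hb hc''
      refine (((hμ.conj c⁻¹).left (hc' b)).good.congr π hd ha).trans
        ((((hμ.conj c⁻¹).right (hc a')).good.congr π he hb).trans ?_)
      exact hμ.congr π (Subgroup.commutator_mem_commutator (hc a') (hc' b')) (by rw [map_inv, map_inv, hc''])
    have := tri M (fun a b c => Ψ (s a) (s b) (s c))
      (fun b c => ((hμ.conj (s c)⁻¹).left (hc' (s b))).good.rel hG π hk hs le_rfl hd)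
      (fun a c => ((hμ.conj (s c)⁻¹).right (hc (s a))).good.rel hG π hk hs le_rfl he)
      (fun a b => by
        have := (hμ.rel hG π hk hs hle (Subgroup.commutator_mem_commutator (hc (s a)) (hc' (s b)))).inv
        refine (congrArg Rel (funext fun c => ?_)).mpr this
        exact hμ.congr π (g := (s c)⁻¹) (g' := s c⁻¹) (Subgroup.commutator_mem_commutator (hc _) (hc' _))
          (by rw [map_inv, hs, hs]))
      (fun g a b c => by
        rw [hΨ _ (s g * s a) _ (s g * s b) _ (s g * s c) (by simp [hs]) (by simp [hs]) (by simp [hs])]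
        simp only [Ψ, commutatorElement_def]
        congr 1
        group) 1 1 1
    rw [hΨ _ 1 _ 1 _ 1 (by simp [hs]) (by simp [hs]) (by simp [hs])] at this
    simpa [Ψ] using this
  rw [Subgroup.commutator_def] at hz h1
  induction hz using Subgroup.closure_induction with
  | mem x hx =>
    obtain ⟨d, hd, e, he, rfl⟩ := hx
    exact key d hd e he
  | one => exact h1.one
  | mul x y hx hy ihx ihy => rw [h1 x hx y hy, ihx, ihy, add_zero]
  | inv x hx ih =>
    have := h1 x hx _ (Subgroup.inv_mem _ hx)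
    rwa [mul_inv_cancel, h1.one, ih, zero_add, eq_comm] at this

theorem sq_ker [Finite G] (hG : IsCIT G) (π : G →* Γ) (hπ : Function.Surjective π) (hk : IsPGroup 2 π.ker) :
    ∀ d ∈ π.ker, d * d = 1 := by
  classical
  have hc : ∀ a ∈ π.ker, ∀ b ∈ π.ker, a * b = b * a := fun a ha b hb => by
    have := Subgroup.commutator_mem_commutator ha hb
    rw [comm_ker M hG π hπ hk, Subgroup.mem_bot] at this
    exact commutatorElement_eq_one_iff_mul_comm.1 this
  choose s hs using hπ
  let Q : Subgroup G :=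
    { carrier := {z | z ∈ π.ker ∧ z * z = 1}
      mul_mem' := fun {a b} ha hb => ⟨π.ker.mul_mem ha.1 hb.1, by
        rw [mul_assoc, ← mul_assoc b, ← hc a ha.1 b hb.1, mul_assoc, hb.2, mul_one, ha.2]⟩
      one_mem' := ⟨π.ker.one_mem, one_mul 1⟩
      inv_mem' := fun {a} ha => ⟨π.ker.inv_mem ha.1, by rw [← mul_inv_rev, ha.2, inv_one]⟩ }
  by_contra hne
  obtain ⟨μ, h1, h2, z, hz, hz0⟩ := exists_add M.two (Q := Q) hk fun h => hne fun d hd => (h hd).2
  let : CommGroup π.ker := { (inferInstance : Group π.ker) with mul_comm := fun a b => Subtype.ext (hc a a.2 b b.2) }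
  let ν : G → Additive π.ker := fun g => if h : g ∈ π.ker then Additive.ofMul ⟨g, h⟩ else 0
  have hν : ∀ g (h : g ∈ π.ker), ν g = Additive.ofMul ⟨g, h⟩ := fun g h => dif_pos h
  have hadd : Add π.ker ν := fun a ha b hb => by
    rw [hν a ha, hν b hb, hν _ (π.ker.mul_mem ha hb)]
    rfl
  have := exp_two M (hadd.good.rel hG π hk hs le_rfl hz)
    (AddMonoidHom.mk' (fun a => μ (Additive.toMul a : π.ker)) fun a b => h1 _ (Additive.toMul a).2 _ (Additive.toMul b).2)
    (fun a ha => h2 _ (Additive.toMul a).2 ⟨(Additive.toMul a).2, congrArg Subtype.val (congrArg Additive.toMul ha)⟩) 1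
  rw [hadd.good.congr π hz (g' := 1) (by simp [hs]), one_mul, inv_one, mul_one, hν z hz] at this
  exact hz0 this

end Mart

/-- Martineau's theorem. -/
theorem martineau : Martineau.{u} := by
  intro G _ _ hG h d hd
  have : Fact (Nat.Prime 2) := ⟨Nat.prime_two⟩
  obtain ⟨F, _, _, m, -, -, ⟨M⟩⟩ := exists_model_of_isoSuzuki h
  refine Mart.sq_ker M hG (QuotientGroup.mk' _) (QuotientGroup.mk'_surjective _) ?_ d ?_
  · rw [QuotientGroup.ker_mk']
    exact pCore_isPGroup 2 G
  · rwa [QuotientGroup.ker_mk']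

end CL.Cit
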