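/-
S3901 as a corollary of Martineau's theorem (job 226, part C).
-/
import Cfsg.Agent.Cit.Cor1
import Cfsg.Agent.Cit.Thm
import Cfsg.Agent.Inv.ZStar1
import Cfsg.Statements.S3901

set_option autoImplicit false

open Cfsg CL.Grp CL.Inv

namespace CL.Cit

universe u

variable {G : Type*} [Group G]

/-- an involution outside `N` has a 2-group as centraliser if all elements outside `N` have prime power order -/
theorem isPGroup_cent_of_notMem [Finite G] {N : Subgroup G} (h : ∀ x : G, x ∉ N → IsPrimePow (orderOf x))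
    {t : G} (ht : orderOf t = 2) (htN : t ∉ N) : IsPGroup 2 (Subgroup.centralizer ({t} : Set G)) := by
  rintro ⟨g, hg⟩
  have hc : Commute t g := by
    have := Subgroup.mem_centralizer_iff.1 hg t rfl
    exact this
  obtain ⟨a, m, hm, e⟩ := Nat.exists_eq_two_pow_mul_odd (orderOf_pos g).ne'
  refine ⟨a, Subtype.ext ?_⟩
  show g ^ 2 ^ a = 1
  set c := g ^ 2 ^ a with hcdef
  have hoc : orderOf c = m := by
    rw [hcdef, orderOf_pow' _ (by positivity), e, Nat.gcd_mul_right_left, Nat.mul_div_cancel_left _ (by positivity)]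
  have htc : Commute t c := hc.pow_right _
  have hcop : (orderOf t).Coprime (orderOf c) := by
    rw [ht, hoc]; exact (Nat.coprime_two_left).2 hm
  have ho : orderOf (t * c) = 2 * m := by rw [htc.orderOf_mul_eq_mul_orderOf_of_coprime hcop, ht, hoc]
  have htt : t * t = 1 := by rw [← pow_two, ← ht, pow_orderOf_eq_one]
  have hn : t * c ∉ N := by
    intro hN
    apply htN
    have h1 := N.pow_mem hN m
    rw [htc.mul_pow, ← hoc, pow_orderOf_eq_one, mul_one, hoc] at h1
    obtain ⟨k, rfl⟩ := hm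
    rwa [pow_succ, pow_mul, pow_two, htt, one_pow, one_mul] at h1
  have h2 := h _ hn
  rw [ho] at h2
  obtain ⟨p, k, hp, hk, e2⟩ := (isPrimePow_nat_iff _).1 h2
  have hp2 : p = 2 := by
    have : 2 ∣ p ^ k := e2 ▸ dvd_mul_right 2 m
    exact ((Nat.prime_dvd_prime_iff_eq Nat.prime_two hp).1 (Nat.prime_two.dvd_of_dvd_pow this)).symm
  subst hp2
  have hm1 : m = 1 := by
    have hd : m ∣ 2 ^ k := e2 ▸ dvd_mul_left m 2
    exact Nat.Coprime.eq_one_of_dvd (Nat.Coprime.pow_right k ((Nat.coprime_two_right).2 hm)) hd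
  rw [← orderOf_eq_one_iff, hoc, hm1]

/-- the local step: a normal Sylow 2-subgroup `P` of `M ⊴ K` -/
theorem eq_and_comm_of_primePow (hM : Martineau.{u}) {K : Type u} [Group K] [Finite K] (M P : Subgroup K)
    [M.Normal] [P.Normal] (_hPM : P ≤ M) (hP : IsPGroup 2 P) (hsyl : ∀ t ∈ M, t * t ∈ P → t ∈ P)
    (hs : ¬ Group.IsSolvable (K ⧸ M)) (h : ∀ x : K, x ∉ M → IsPrimePow (orderOf x)) :
    M ≤ P ∧ ∀ a ∈ P, ∀ b ∈ P, a * b = b * a := by
  have : Fact (Nat.Prime 2) := ⟨Nat.prime_two⟩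
  let π := QuotientGroup.mk' P
  have hπ : Function.Surjective π := QuotientGroup.mk'_surjective P
  have hinv : ∀ t ∈ M.map π, orderOf t ≠ 2 := by
    rintro _ ⟨t, ht, rfl⟩ e
    have h1 : π (t * t) = 1 := by rw [map_mul, ← pow_two, ← e, pow_orderOf_eq_one]
    have h2 : π t = 1 := (QuotientGroup.eq_one_iff t).2 (hsyl t ht ((QuotientGroup.eq_one_iff _).1 h1))
    rw [h2, orderOf_one] at e
    omega
  have hodd : Odd (Nat.card (M.map π)) := by
    rw [← Nat.not_even_iff_odd, even_iff_two_dvd]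
    intro e
    obtain ⟨t, ht⟩ := exists_prime_orderOf_dvd_card' 2 e
    exact hinv t t.2 (by rw [Subgroup.orderOf_coe]; exact ht)
  have hq : ∀ x : K ⧸ P, x ∉ M.map π → IsPrimePow (orderOf x) := by
    intro x hx
    obtain ⟨x, rfl⟩ := hπ x
    have hxM : x ∉ M := fun e => hx ⟨x, e, rfl⟩
    refine (h x hxM).dvd (orderOf_map_dvd π x) ?_
    intro e
    rw [orderOf_eq_one_iff] at e
    exact hx (e ▸ one_mem _)
  have hcit : IsCIT (K ⧸ P) := fun t ht => isPGroup_cent_of_notMem hq ht fun e => hinv t e ht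
  have hsK : ¬ Group.IsSolvable K := fun e => hs (Group.isSolvable_of_surjective (QuotientGroup.mk'_surjective M))
  have hsq : ¬ Group.IsSolvable (K ⧸ P) := fun e => by
    have := hP.isNilpotent
    exact hsK (isSolvable_of_normal P inferInstance e)
  have : (M.map π).Normal := Subgroup.Normal.map inferInstance π hπ
  have h0 : M.map π ≤ ⊥ := (hcit.oddCore_eq_bot hsq).2 ▸ le_oddCore hodd
  have hMP : M ≤ P := fun x hx => (QuotientGroup.eq_one_iff x).1 (Subgroup.mem_bot.1 (h0 ⟨x, hx, rfl⟩))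
  refine ⟨hMP, ?_⟩
  have hall : ∀ x : K, x ∉ (⊥ : Subgroup K) → IsPrimePow (orderOf x) := by
    intro x hx
    by_cases hxM : x ∈ M
    · obtain ⟨k, hk⟩ := (IsPGroup.iff_orderOf.1 hP) ⟨x, hMP hxM⟩
      rw [← Subgroup.orderOf_coe] at hk
      have hk0 : k ≠ 0 := by
        rintro rfl
        exact hx (Subgroup.mem_bot.2 (orderOf_eq_one_iff.1 hk))
      rw [show orderOf x = 2 ^ k from hk]
      exact Nat.prime_two.isPrimePow.pow hk0
    · exact h x hxM
  have hK : IsCIT K := fun t ht => isPGroup_cent_of_notMem hall ht fun e => by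
    rw [Subgroup.mem_bot.1 e, orderOf_one] at ht
    omega
  have hle : P ≤ pCore 2 K := le_pCore hP
  by_cases h1 : pCore 2 K = ⊥
  · intro a ha b hb
    have ha1 : a = 1 := Subgroup.mem_bot.1 (h1 ▸ hle ha)
    rw [ha1, one_mul, mul_one]
  · have hsq : EA (pCore 2 K) := (quotient_of_pCore_ne_bot hK hsK h1).elim hK.sq_eq_one_of_isL2Even (hM K hK)
    exact fun a ha b hb => hsq.comm (hle ha) (hle hb)

theorem s3901 (hM : Martineau.{u}) : type_of% @Cfsg.CfsgFrozen.S3901.{u} := by
  intro G _ _ N _ _ hns h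
  by_contra hs
  have : Fact (Nat.Prime 2) := ⟨Nat.prime_two⟩
  obtain ⟨S⟩ : Nonempty (Sylow 2 N) := inferInstance
  let T : Subgroup G := (S : Subgroup N).map N.subtype
  let H : Subgroup G := Subgroup.normalizer (T : Set G)
  have hTN : T ≤ N := Subgroup.map_subtype_le _
  have hT : IsPGroup 2 T := S.2.map _
  have hfr : H ⊔ N = ⊤ := S.normalizer_sup_eq_top
  have : (T.subgroupOf H).Normal := Subgroup.normal_in_normalizer
  have hsH : ¬ Group.IsSolvable (H ⧸ N.subgroupOf H) := by
    intro e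
    apply hs
    let f : H →* G ⧸ N := (QuotientGroup.mk' N).comp H.subtype
    have hf : Function.Surjective f := by
      intro y
      obtain ⟨g, rfl⟩ := QuotientGroup.mk'_surjective N y
      have hg : g ∈ (H ⊔ N : Subgroup G) := hfr ▸ Subgroup.mem_top g
      obtain ⟨a, ha, b, hb, rfl⟩ := Subgroup.mem_sup_of_normal_right.1 hg
      refine ⟨⟨a, ha⟩, ?_⟩
      show QuotientGroup.mk' N a = QuotientGroup.mk' N (a * b)
      rw [map_mul, (QuotientGroup.eq_one_iff b).2 hb |> fun e => (show QuotientGroup.mk' N b = 1 from e), mul_one]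
    have hk : N.subgroupOf H ≤ f.ker := fun x hx => (QuotientGroup.eq_one_iff _).2 hx
    exact Group.isSolvable_of_surjective (f := QuotientGroup.lift _ f hk) (QuotientGroup.lift_surjective_of_surjective _ _ hf _)
  have hsyl : ∀ t ∈ N.subgroupOf H, t * t ∈ T.subgroupOf H → t ∈ T.subgroupOf H := by
    intro t ht htt
    have h2 : Two (t : G) := two_of_sq_mem hT htt
    have h3 := h2.isPGroup_sup hT t.2
    have h4 : IsPGroup 2 ((Subgroup.zpowers (t : G) ⊔ T).subgroupOf N) := h3.comap_subtype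
    have h5 : (S : Subgroup N) ≤ (Subgroup.zpowers (t : G) ⊔ T).subgroupOf N := fun s hs =>
      Subgroup.mem_sup_right (show (s : G) ∈ T from ⟨s, hs, rfl⟩)
    have h6 := S.3 h4 h5
    have h7 : (⟨t, ht⟩ : N) ∈ (S : Subgroup N) := h6 ▸ Subgroup.mem_sup_left (Subgroup.mem_zpowers (t : G))
    exact ⟨⟨t, ht⟩, h7, rfl⟩
  obtain ⟨h1, h2⟩ := eq_and_comm_of_primePow hM (N.subgroupOf H) (T.subgroupOf H) (Subgroup.subgroupOf_mono _ hTN)
    hT.comap_subtype hsyl hsH fun x hx => by rw [← Subgroup.orderOf_coe]; exact h x hx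
  have hNC : Subgroup.normalizer (S : Set N) ≤ Subgroup.centralizer (S : Set N) := by
    intro n hn s hs
    have hnH : (n : G) ∈ H := by
      intro x
      constructor
      · rintro ⟨y, hy, rfl⟩
        exact ⟨n * y * n⁻¹, (hn y).1 hy, rfl⟩
      · rintro ⟨y, hy, e⟩
        have : x = ((n⁻¹ * y * n : N) : G) := by
          have e' : (y : G) = n * x * (n : G)⁻¹ := e
          simp [e', mul_assoc]
        refine ⟨n⁻¹ * y * n, (hn _).2 ?_, this.symm⟩
        simpa [mul_assoc] using hy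
    have hsT : (s : G) ∈ T := ⟨s, hs, rfl⟩
    have := h2 ⟨s, Subgroup.le_normalizer hsT⟩ hsT ⟨n, hnH⟩ (h1 n.2)
    exact Subtype.ext (congrArg (fun x : H => (x : G)) this)
  apply hns
  have hodd : Odd (Nat.card (MonoidHom.transferSylow S hNC).ker) := by
    rw [← Nat.not_even_iff_odd, even_iff_two_dvd]
    exact MonoidHom.not_dvd_card_ker_transferSylow S hNC
  have := S.2.isNilpotent
  exact isSolvable_of_normal _ (CL.Odd.feit_thompson hodd)
    (Group.isSolvable_of_isSolvable_injective (QuotientGroup.kerLift_injective _))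

end CL.Cit
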